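import Cfsg.Agent.BlkChar.FreeAbelian.Counts
import Cfsg.Agent.BC85.Pairs.AbelianInertia
import Cfsg.Agent.BC85.Pairs.Principal
import Cfsg.Agent.BC85.Pairs.Nilpotent
import Cfsg.Agent.Lib.BlocksCore.AbelianPrincipal

/-!
# Counting the principal block for a Sylow subgroup with free automizer
-/

set_option autoImplicit false
set_option linter.unusedSectionVars false

namespace Cfsg.Agent.BC84.FreeAuto

open Cfsg BlocksCore BlocksDefect
open scoped Classical

universe u

variable {G : Type u} [Group G] [Fintype G] {p : ℕ} [Fact p.Prime] {M : Ideal AlgInt} (P : Sylow p G)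

theorem block_count (hM : IsPModular p M) (h : AbelianPrincipal.Free P)
    (hP1 : (P : Subgroup G) ≠ ⊥) :
    blockRank p (principalBlock M G) ≤ (Subgroup.centralizer ((P : Subgroup G) : Set G)).relIndex
        (Subgroup.normalizer ((P : Subgroup G) : Set G)) ∧
      (Subgroup.centralizer ((P : Subgroup G) : Set G)).relIndex
          (Subgroup.normalizer ((P : Subgroup G) : Set G)) * Nat.card (principalBlock M G) =
        (Subgroup.centralizer ((P : Subgroup G) : Set G)).relIndex
          (Subgroup.normalizer ((P : Subgroup G) : Set G)) * blockRank p (principalBlock M G) +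
          (Nat.card P - 1) ∧
      ((Subgroup.centralizer ((P : Subgroup G) : Set G)).relIndex
          (Subgroup.normalizer ((P : Subgroup G) : Set G)) ≤ 3 →
        blockRank p (principalBlock M G) = (Subgroup.centralizer ((P : Subgroup G) : Set G)).relIndex
          (Subgroup.normalizer ((P : Subgroup G) : Set G))) := by
  have := isPrime hM
  have hmax : IsMaximalBrauerPair p M (principalBlock M G) (P : Subgroup G)
      (principalBlock M (Subgroup.centralizer ((P : Subgroup G) : Set G))) :=
    BC85.isMaximal_of_defect hM ((BC85.isDefectGroup_principal_iff hM _).mpr ⟨P, rfl⟩)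
      (BC85.principal_pairOf hM P.isPGroup')
  have hT : BC85.stabT (P : Subgroup G)
      (principalBlock M (Subgroup.centralizer ((P : Subgroup G) : Set G))) =
      Subgroup.normalizer ((P : Subgroup G) : Set G) := SetLike.ext fun g =>
    BC85.mem_stabT_iff.trans
      ⟨fun hg => hg.1, fun hg => ⟨hg, BC85.stabilizes_principal hM P.isPGroup' hg⟩⟩
  have hc := BlkChar.FreeAbelian.Counts.card_bound hM hmax h.comm' (fun g hg x hx hx1 hgx => by
    rw [hT] at hg
    rw [← h.cent x hx hx1]
    exact ⟨Subgroup.mem_centralizer_singleton_iff.mpr (mul_inv_eq_iff_eq_mul.mp hgx), hg⟩)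
    isPBlock_principal hP1
  rwa [hT] at hc

end Cfsg.Agent.BC84.FreeAuto
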