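import Cfsg.Agent.Lib.BlocksCore.AbelianPrincipal

/-!
# Linear characters of a subgroup in the restriction of a character
-/

set_option autoImplicit false
set_option linter.unusedSectionVars false
set_option linter.style.haveILetI false

namespace Cfsg.Agent.BC84.FreeAuto

open Cfsg BlocksCore BlocksDefect Finset
open scoped Classical ComplexConjugate

universe u

variable {G : Type u} [Group G] [Fintype G]

theorem exists_mult (U : Subgroup G) (χ : IrrCharacter G) (φ : U →* ℂˣ) :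
    ∃ a : ℕ, ∑ x : U, (χ : G → ℂ) (x : G) * ((φ x : ℂˣ) : ℂ) = (Nat.card U : ℂ) * a := by
  obtain ⟨a, ha⟩ := CharCore.IsCharacter.exists_classInner_eq_natCast
    (CharCore.isCharacter_comp (CharCore.irr_isCharacter χ) U.subtype)
    (CharCore.IsIrrCharacter.isCharacter (CharCore.isIrrCharacter_hom φ⁻¹))
  refine ⟨a, ?_⟩
  rw [← ha, Cfsg.classInner, ← mul_assoc,
    mul_inv_cancel₀ (Nat.cast_ne_zero.mpr Nat.card_pos.ne'), one_mul]
  refine Finset.sum_congr rfl fun x _ => ?_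
  have hc : conj (((φ⁻¹ x : ℂˣ) : ℂ)) = (((φ⁻¹ x⁻¹ : ℂˣ) : ℂ)) :=
    BlocksCore.conj_irr (⟨_, CharCore.isIrrCharacter_hom φ⁻¹⟩ : IrrCharacter U) x
  rw [hc]
  simp

theorem exists_mult_one (U : Subgroup G) (χ : IrrCharacter G) :
    ∃ a : ℕ, ∑ x : U, (χ : G → ℂ) (x : G) = (Nat.card U : ℂ) * a := by
  obtain ⟨a, ha⟩ := exists_mult U χ 1
  exact ⟨a, by simpa using ha⟩

/-- Reciprocity: the multiplicities weighted by the degrees add up to the index. -/
theorem sum_mult_mul_degree (U : Subgroup G) (φ : U →* ℂˣ) (a : IrrCharacter G → ℕ)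
    (ha : ∀ χ : IrrCharacter G, ∑ x : U, (χ : G → ℂ) (x : G) * ((φ x : ℂˣ) : ℂ) = (Nat.card U : ℂ) * (a χ)) :
    ∑ χ : IrrCharacter G, a χ * charDegree (χ : G → ℂ) = U.index := by
  apply Nat.cast_injective (R := ℂ)
  refine mul_left_cancel₀ (Nat.cast_ne_zero.mpr (Nat.card_pos (α := U)).ne') ?_
  rw [← Nat.cast_mul (Nat.card U) U.index, Subgroup.card_mul_index, Nat.cast_sum, Finset.mul_sum]
  calc ∑ χ : IrrCharacter G, (Nat.card U : ℂ) * ((a χ * charDegree (χ : G → ℂ) : ℕ) : ℂ)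
      = ∑ χ : IrrCharacter G, ∑ x : U, ((φ x : ℂˣ) : ℂ) * ((χ : G → ℂ) (x : G) * (χ : G → ℂ) 1) := by
        refine sum_congr rfl fun χ _ => ?_
        rw [Nat.cast_mul, ← mul_assoc, ← ha χ, ← irr_one_eq, Finset.sum_mul]
        exact sum_congr rfl fun x _ => by ring
    _ = ∑ x : U, ((φ x : ℂˣ) : ℂ) * if x = 1 then (Nat.card G : ℂ) else 0 := by
        rw [Finset.sum_comm]
        refine sum_congr rfl fun x _ => ?_
        rw [← Finset.mul_sum]
        congr 1
        have h1 := sum_irr_mul_inv (x : G) (1 : G)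
        rw [inv_one] at h1
        rw [h1]
        by_cases hx : x = 1
        · subst hx
          simp only [OneMemClass.coe_one, IsConj.refl, if_true]
          rw [show Subgroup.centralizer ({(1 : G)} : Set G) = ⊤ from
            Subgroup.ext fun g => by simp [Subgroup.mem_centralizer_singleton_iff], Subgroup.card_top]
        · rw [if_neg hx, if_neg fun hc => hx (Subtype.ext (isConj_one_left.mp hc))]
    _ = (Nat.card G : ℂ) := by simp

theorem sum_dual_apply {A : Type*} [CommGroup A] [Finite A] [Fintype (A →* ℂˣ)] {a : A} (ha : a ≠ 1) :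
    ∑ φ : A →* ℂˣ, ((φ a : ℂˣ) : ℂ) = 0 := by
  obtain ⟨φ₀, hφ₀⟩ := CommGroup.exists_apply_ne_one_of_hasEnoughRootsOfUnity A ℂ ha
  have e : ((φ₀ a : ℂˣ) : ℂ) * ∑ φ : A →* ℂˣ, ((φ a : ℂˣ) : ℂ) = ∑ φ : A →* ℂˣ, ((φ a : ℂˣ) : ℂ) := by
    rw [mul_sum]
    exact Fintype.sum_equiv (Equiv.mulLeft φ₀) _ _ fun φ => by simp
  have h2 : (((φ₀ a : ℂˣ) : ℂ) - 1) * ∑ φ : A →* ℂˣ, ((φ a : ℂˣ) : ℂ) = 0 := by
    rw [sub_mul, one_mul, e, sub_self]
  exact (mul_eq_zero.mp h2).resolve_left (sub_ne_zero.mpr fun h3 => hφ₀ (Units.ext h3))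

/-- A character whose restriction to a normal subgroup of `V` with abelian quotient has a fixed
vector has degree at most the index of `V`. -/
theorem degree_le_index (V : Subgroup G) (U : Subgroup V) [U.Normal]
    (hab : ∀ x y : V, x * y * x⁻¹ * y⁻¹ ∈ U) (χ : IrrCharacter G)
    (hne : ∑ u : U, (χ : G → ℂ) ((u : V) : G) ≠ 0) :
    charDegree (χ : G → ℂ) ≤ V.index := by
  have hc : ∀ x y : V ⧸ U, x * y = y * x := fun x y => by
    induction x using QuotientGroup.induction_on with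
    | _ a =>
    induction y using QuotientGroup.induction_on with
    | _ b =>
    rw [← QuotientGroup.mk_mul, ← QuotientGroup.mk_mul, QuotientGroup.eq]
    have h1 := hab b⁻¹ a⁻¹
    simpa [mul_assoc] using h1
  letI : CommGroup (V ⧸ U) := { (inferInstance : Group (V ⧸ U)) with mul_comm := hc }
  haveI : Fintype ((V ⧸ U) →* ℂˣ) := Fintype.ofFinite _
  have hsum : ∑ φ : (V ⧸ U) →* ℂˣ, ∑ x : V, (χ : G → ℂ) (x : G) *
      ((φ (x : V ⧸ U) : ℂˣ) : ℂ) =
      (Fintype.card ((V ⧸ U) →* ℂˣ) : ℂ) * ∑ u : U, (χ : G → ℂ) ((u : V) : G) := by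
    rw [Finset.sum_comm, Finset.sum_congr rfl (g := fun x : V =>
      if x ∈ U then (χ : G → ℂ) (x : G) * (Fintype.card ((V ⧸ U) →* ℂˣ) : ℂ) else 0) (fun x _ => ?_),
      ← Finset.sum_filter, Finset.mul_sum]
    · rw [Finset.sum_subtype (univ.filter fun x : V => x ∈ U) (p := fun x => x ∈ U) (by simp)]
      exact sum_congr rfl fun u _ => mul_comm _ _
    · rw [← Finset.mul_sum]
      split_ifs with hx
      · congr 1
        rw [(QuotientGroup.eq_one_iff x).mpr hx]
        simp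
      · rw [sum_dual_apply fun h1 => hx ((QuotientGroup.eq_one_iff x).mp h1), mul_zero]
  obtain ⟨φ, -, hφ⟩ := Finset.exists_ne_zero_of_sum_ne_zero (s := univ)
    (f := fun φ : (V ⧸ U) →* ℂˣ => ∑ x : V, (χ : G → ℂ) (x : G) * ((φ (x : V ⧸ U) : ℂˣ) : ℂ))
    (by rw [hsum]; exact mul_ne_zero (Nat.cast_ne_zero.mpr Fintype.card_ne_zero) hne)
  choose a ha using fun χ' : IrrCharacter G => exists_mult V χ' (φ.comp (QuotientGroup.mk' U))
  have hpos : a χ ≠ 0 := fun h0 => hφ (by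
    have := ha χ
    rw [h0, Nat.cast_zero, mul_zero] at this
    exact this)
  rw [← sum_mult_mul_degree V (φ.comp (QuotientGroup.mk' U)) a ha]
  exact (Nat.le_mul_of_pos_left _ (Nat.pos_of_ne_zero hpos)).trans
    (Finset.single_le_sum (f := fun χ' : IrrCharacter G => a χ' * charDegree (χ' : G → ℂ))
      (fun _ _ => Nat.zero_le _) (mem_univ χ))

/-- A character whose mean on a subgroup is the degree is trivial there. -/
theorem mean_lt_degree {U : Subgroup G} (χ : IrrCharacter G) {a : ℕ}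
    (ha : ∑ x : U, (χ : G → ℂ) (x : G) = (Nat.card U : ℂ) * a) :
    a ≤ charDegree (χ : G → ℂ) ∧ (a = charDegree (χ : G → ℂ) →
      ∀ x ∈ U, (χ : G → ℂ) x = (χ : G → ℂ) 1) := by
  set f : ℝ := (charDegree (χ : G → ℂ) : ℝ) with hf
  have hnorm : ∀ g : G, ‖(χ : G → ℂ) g‖ ≤ f := fun g => by
    obtain ⟨m, ρ, -, hρ⟩ := χ.2
    have hb := CharCore.norm_character_le ρ g
    have hm : (χ : G → ℂ) 1 = (Module.finrank ℂ (Fin m → ℂ) : ℂ) := by
      rw [← hρ, Representation.char_one]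
    rw [hρ] at hb
    rw [irr_one_eq] at hm
    rw [hf, Nat.cast_injective hm]
    exact hb
  have hre : ∑ x : U, ((χ : G → ℂ) (x : G)).re = (Nat.card U : ℝ) * a := by
    have := congrArg Complex.re ha
    rw [Complex.re_sum] at this
    simpa using this
  have hle : ∀ x : U, ((χ : G → ℂ) (x : G)).re ≤ f := fun x =>
    (Complex.re_le_norm _).trans (hnorm _)
  have hc : (0 : ℝ) < (Nat.card U : ℝ) := Nat.cast_pos.mpr Nat.card_pos
  have h1 : (Nat.card U : ℝ) * a ≤ (Nat.card U : ℝ) * f := by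
    rw [← hre]
    refine (Finset.sum_le_sum fun x _ => hle x).trans (le_of_eq ?_)
    simp [Nat.card_eq_fintype_card]
  refine ⟨Nat.cast_le.mp (le_of_mul_le_mul_left h1 hc), fun heq x hx => ?_⟩
  have hall := (Finset.sum_eq_sum_iff_of_le (s := univ) (g := fun _ => f) fun y _ => hle y).mp (by
    rw [hre, heq]
    simp [hf, Nat.card_eq_fintype_card]) ⟨x, hx⟩ (mem_univ _)
  simp only at hall
  have him : ((χ : G → ℂ) x).im = 0 := by
    have h2 : ‖(χ : G → ℂ) x‖ ^ 2 ≤ f ^ 2 := pow_le_pow_left₀ (norm_nonneg _) (hnorm x) 2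
    rw [Complex.sq_norm, Complex.normSq_apply, hall] at h2
    nlinarith [mul_self_nonneg (((χ : G → ℂ) x).im)]
  refine Complex.ext ?_ ?_
  · rw [hall, irr_one_eq, Complex.natCast_re]
  · rw [him, irr_one_eq, Complex.natCast_im]

end Cfsg.Agent.BC84.FreeAuto
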