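import Cfsg.Agent.BC84.FreeAuto.Homocyclic
import Cfsg.Agent.BC84.FreeAuto.Linear

/-!
# Every involution centralizer is a Sylow subgroup
-/

set_option autoImplicit false
set_option linter.unusedSectionVars false
set_option linter.style.haveILetI false
set_option maxHeartbeats 1000000

namespace Cfsg.Agent.BC84.FreeAuto

open Cfsg BlocksCore BlocksDefect AbelianPrincipal CyclicPrincipal Finset
open scoped Classical

universe u

variable {G : Type u} [Group G] [Fintype G] (P : Sylow 2 G) (h : AbelianPrincipal.Free P)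
  [Fintype (P : Subgroup G)]
  (he : (5 : ℕ) ≤ (Subgroup.centralizer ((P : Subgroup G) : Set G)).relIndex
    (Subgroup.normalizer ((P : Subgroup G) : Set G)))
  (hO : pPrimeCore 2 G = ⊥)
include h he hO

theorem Wsub_eq_bot {M : Ideal AlgInt} (hM : IsPModular 2 M)
    (hab : ∀ g ∈ Subgroup.normalizer ((P : Subgroup G) : Set G),
      ∀ k ∈ Subgroup.normalizer ((P : Subgroup G) : Set G),
        g * k * g⁻¹ * k⁻¹ ∈ Subgroup.centralizer ((P : Subgroup G) : Set G)) :
    Wsub P h = ⊥ := by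
  by_contra hW
  haveI : Fact (Nat.Prime 2) := ⟨Nat.prime_two⟩
  have := isPrime hM
  set e := (Subgroup.centralizer ((P : Subgroup G) : Set G)).relIndex
      (Subgroup.normalizer ((P : Subgroup G) : Set G)) with hedef
  set W := Wsub P h with hWdef
  set H := Hsub P h with hHdef
  have hQ : Nat.card P = e + 1 := card_eq_of_W_ne_bot P h he hO hW hM
  have hOm : Nat.card (Om P h) = e + 1 := by
    have := relIndex_eq_card_Om P h he hO hW
    have := eight_le P h he
    omega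
  have hel : ∀ x : (P : Subgroup G), (x : G) ∈ Om P h := by
    have hle : Om P h ≤ P := fun a ha => ha.1
    have heq := Subgroup.eq_of_le_of_card_ge hle (by omega)
    intro x
    rw [heq]
    exact x.2
  obtain ⟨y₀, hy₀, hy₀1⟩ := exists_ne_one_of_five P h he
  set τ : (P : Subgroup G) := ⟨y₀, hy₀⟩
  have hτ1 : τ ≠ 1 := fun h0 => hy₀1 (congrArg Subtype.val h0)
  have hτO : (τ : G) ∈ Om P h := hel τ
  -- one orbit
  have hrm := card_orb_mul h
  rw [← hedef, hQ, Nat.add_sub_cancel] at hrm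
  have hr : Fintype.card (Orb P) = 1 := Nat.eq_of_mul_eq_mul_right (m := e) (by omega) (by rw [hrm, one_mul])
  obtain ⟨o₀, ho₀⟩ := Fintype.card_eq_one_iff.mp hr
  let d : IrrCharacter G → ℤ := fun χ => -vecO χ o₀
  have hval : ∀ χ : IrrCharacter G, ∀ y : (P : Subgroup G), y ≠ 1 →
      (χ : G → ℂ) (y : G) = (d χ : ℂ) := fun χ y hy => by
    rw [apply_of_const h χ (vecO χ o₀) (fun o => by rw [ho₀ o]) hy]
    simp [d]
  have hd1 : d (oneIrr G) = 1 := by simp [d, vecO_one h]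
  have hd2 : ∑ χ ∈ members M G, d χ * d χ = (e : ℤ) + 1 := by
    simp only [d, neg_mul_neg]
    rw [gram hM h, if_pos rfl, ← hedef]
    ring
  have hdf : ∑ χ ∈ members M G, d χ * (charDegree (χ : G → ℂ) : ℤ) = 0 := by
    simp only [d, neg_mul, Finset.sum_neg_distrib, neg_eq_zero]
    rw [← sum_degree_mul hM o₀]
    exact sum_congr rfl fun χ _ => mul_comm _ _
  have hd0 : ∀ χ ∈ members M G, d χ ≠ 0 := fun χ hχ h0 => by
    obtain ⟨o, ho⟩ := exists_vecO_ne_zero hM h (by omega) hχ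
    rw [ho₀ o] at ho
    exact ho (neg_eq_zero.mp h0)
  -- values off `W` in `W P`
  have hWP : ∀ χ ∈ members M G, ∀ w ∈ W, ∀ a : (P : Subgroup G), a ≠ 1 →
      (χ : G → ℂ) (w * a) = (d χ : ℂ) := by
    intro χ hχ w hw a ha
    have hWH : W ≤ H := le_sup_left
    have hgH : w * (a : G) ∈ H := mul_mem (hWH hw) (le_Hsub P h a.2)
    have hpow : ∀ n : ℕ, ∃ w' ∈ W, (w * (a : G)) ^ n = w' * (a : G) ^ n := by
      intro n
      induction n with
      | zero => exact ⟨1, one_mem _, by simp⟩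
      | succ n ih =>
        obtain ⟨w', hw', hn⟩ := ih
        refine ⟨w' * ((a : G) ^ n * w * ((a : G) ^ n)⁻¹), mul_mem hw'
          ((Subgroup.mem_normalizer_iff.mp (Hsub_le_normalizer_Wsub P h
            (pow_mem (le_Hsub P h a.2) n)) w).mp hw), ?_⟩
        rw [pow_succ, hn, pow_succ]
        group
    have heven : 2 ∣ orderOf (w * (a : G)) := by
      by_contra hodd
      obtain ⟨w', hw', hn⟩ := hpow (orderOf (w * (a : G)))
      obtain ⟨j, hj⟩ := Nat.not_even_iff_odd.mp fun hev => hodd (even_iff_two_dvd.mp hev)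
      rw [pow_orderOf_eq_one, hj, pow_succ, pow_mul, pow_two, (hel a).2, one_pow, one_mul] at hn
      refine ha (Subtype.ext (disjoint_P_W P h he a.2 ?_))
      rw [eq_inv_of_mul_eq_one_right hn.symm]
      exact inv_mem hw'
    obtain ⟨y, z, hyz, hcz, ⟨k, hk⟩, hz, hzp, -⟩ :=
      exists_isPPart (p := 2) Nat.prime_two (w * (a : G))
    have hy' : IsPPart 2 (w * (a : G)) y := ⟨z, hyz, hcz, ⟨k, hk⟩, hz⟩
    have hy1 : y ≠ 1 := fun h0 => by
      rw [h0, one_mul] at hyz
      rw [hyz] at hz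
      exact hz heven
    have hyH : y ∈ H := Subgroup.zpowers_le.mpr hgH hzp
    obtain ⟨T, hT⟩ := (IsPGroup.of_card (n := k) (by rw [Nat.card_zpowers, Subgroup.orderOf_mk, hk]) :
      IsPGroup 2 (Subgroup.zpowers (⟨y, hyH⟩ : H))).exists_le_sylow
    obtain ⟨c, hc⟩ := MulAction.exists_smul_eq H T (P.subtype (le_Hsub P h))
    have hmem : c * ⟨y, hyH⟩ * c⁻¹ ∈ ((P.subtype (le_Hsub P h) : Sylow 2 H) : Subgroup _) := by
      rw [← hc]
      exact ⟨_, hT (Subgroup.mem_zpowers _), rfl⟩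
    have hne : (⟨(c : G) * y * (c : G)⁻¹, hmem⟩ : (P : Subgroup G)) ≠ 1 := fun h0 =>
      hy1 (conj_eq_one_iff.mp (congrArg Subtype.val h0))
    rw [← irr_class χ (w * (a : G)) (c : G),
      apply_of_isPPart hM h (mem_members.mp hχ) (isPPart_conj hy' (c : G)) hmem
        fun h0 => hy1 (conj_eq_one_iff.mp h0)]
    exact hval χ _ hne
  -- the subgroup `W P`
  have hPN : (P : Subgroup G) ≤ Subgroup.normalizer ((W : Subgroup G) : Set G) := fun x hx =>
    Hsub_le_normalizer_Wsub P h (le_Hsub P h hx)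
  have hsupmem : ∀ g : G, g ∈ W ⊔ (P : Subgroup G) ↔ ∃ w ∈ W, ∃ a ∈ (P : Subgroup G), g = w * a := by
    intro g
    rw [← SetLike.mem_coe, Subgroup.coe_mul_of_right_le_normalizer_left _ _ hPN, Set.mem_mul]
    simp only [SetLike.mem_coe, eq_comm]
  set WP : Subgroup H := (W ⊔ (P : Subgroup G)).subgroupOf H with hWPdef
  have hWPle : W ⊔ (P : Subgroup G) ≤ H := sup_le le_sup_left (le_Hsub P h)
  let eqv : W × (P : Subgroup G) ≃ WP := Equiv.ofBijective (fun q => ⟨⟨(q.1 : G) * q.2,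
      mul_mem ((le_sup_left : W ≤ H) q.1.2) (le_Hsub P h q.2.2)⟩,
      (hsupmem _).mpr ⟨_, q.1.2, _, q.2.2, rfl⟩⟩) ⟨by
    rintro ⟨⟨w, hw⟩, ⟨a, ha⟩⟩ ⟨⟨w', hw'⟩, ⟨a', ha'⟩⟩ hq
    have h1 : w * a = w' * a' := congrArg (fun x : WP => ((x : H) : G)) hq
    have h2 : w'⁻¹ * w = a' * a⁻¹ := by
      rw [eq_mul_inv_iff_mul_eq, mul_assoc, h1, inv_mul_cancel_left]
    have h3 := disjoint_P_W P h he (mul_mem ha' (inv_mem ha)) (h2 ▸ mul_mem (inv_mem hw') hw)
    obtain rfl : a' = a := mul_inv_eq_one.mp h3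
    obtain rfl : w = w' := mul_right_cancel h1
    rfl, by
    rintro ⟨⟨g, hgH⟩, hg⟩
    obtain ⟨w, hw, a, ha, rfl⟩ := (hsupmem g).mp hg
    exact ⟨⟨⟨w, hw⟩, ⟨a, ha⟩⟩, rfl⟩⟩
  have hCWP : Subgroup.centralizer ((P : Subgroup G) : Set G) ≤ W ⊔ (P : Subgroup G) := by
    intro c hc
    obtain ⟨b, hb, k, hk, rfl⟩ := exists_decomp P h hy₀ hy₀1
      ((Subgroup.mem_centralizer_iff.mp hc y₀ hy₀).symm : Commute c y₀)
    exact mul_mem ((le_sup_right : (P : Subgroup G) ≤ W ⊔ P) hb)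
      ((le_sup_left : W ≤ W ⊔ P) (oddCent_le_Wsub P h hy₀ hy₀1 hk))
  have hHnorm : H ≤ Subgroup.normalizer ((W ⊔ (P : Subgroup G) : Subgroup G) : Set G) := by
    refine sup_le (le_sup_left.trans Subgroup.le_normalizer) fun n hn => ?_
    refine Subgroup.normalizer_inf_normalizer_le_normalizer_sup _ _
      ⟨normalizer_le_normalizer_Wsub P h hn, hn⟩
  haveI : WP.Normal := Subgroup.normal_subgroupOf_of_le_normalizer hHnorm
  have hcommH : ∀ x y : H, x * y * x⁻¹ * y⁻¹ ∈ WP := by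
    intro x y
    have hdec : ∀ x : H, ∃ n : H, (n : G) ∈ Subgroup.normalizer ((P : Subgroup G) : Set G) ∧
        (QuotientGroup.mk x : H ⧸ WP) = QuotientGroup.mk n := by
      intro x
      obtain ⟨w, hw, n, hn, hx⟩ := (mem_Hsub P h).mp x.2
      refine ⟨⟨n, (le_sup_right : _ ≤ H) hn⟩, hn, ?_⟩
      rw [eq_comm, QuotientGroup.eq]
      show n⁻¹ * (x : G) ∈ W ⊔ (P : Subgroup G)
      rw [hx, ← mul_assoc]
      have hw' := (Subgroup.mem_normalizer_iff.mp (normalizer_le_normalizer_Wsub P h (inv_mem hn)) w).mp hw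
      rw [inv_inv] at hw'
      exact (le_sup_left : W ≤ W ⊔ P) hw'
    obtain ⟨n, hn, hxn⟩ := hdec x
    obtain ⟨n', hn', hyn⟩ := hdec y
    rw [← QuotientGroup.eq_one_iff, QuotientGroup.mk_mul, QuotientGroup.mk_mul, QuotientGroup.mk_mul,
      QuotientGroup.mk_inv, QuotientGroup.mk_inv, hxn, hyn, ← QuotientGroup.mk_inv,
      ← QuotientGroup.mk_inv, ← QuotientGroup.mk_mul, ← QuotientGroup.mk_mul, ← QuotientGroup.mk_mul,
      QuotientGroup.eq_one_iff]
    exact hCWP (hab _ hn _ hn')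
  -- multiplicities
  choose R hR using fun χ : IrrCharacter G => exists_mult_one W χ
  have hWPsum : ∀ χ ∈ members M G, ∑ u : WP, (χ : G → ℂ) ((u : H) : G) =
      (Nat.card W : ℂ) * ((R χ : ℂ) + (e : ℂ) * (d χ : ℂ)) := by
    intro χ hχ
    rw [← eqv.sum_comp, Fintype.sum_prod_type, Finset.sum_congr rfl
      (g := fun w : W => (χ : G → ℂ) (w : G) + (e : ℂ) * (d χ : ℂ)) fun w _ => ?_,
      Finset.sum_add_distrib, hR χ, Finset.sum_const, card_univ, ← Nat.card_eq_fintype_card,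
      nsmul_eq_mul]
    · ring
    show ∑ a : (P : Subgroup G), (χ : G → ℂ) ((w : G) * (a : G)) = _
    rw [← Finset.add_sum_erase _ _ (mem_univ (1 : (P : Subgroup G))), Finset.sum_congr rfl
      (g := fun _ => (d χ : ℂ)) (fun a ha => hWP χ hχ _ w.2 a (ne_of_mem_erase ha)), Finset.sum_const,
      Finset.card_erase_of_mem (mem_univ _), card_univ, ← Nat.card_eq_fintype_card, hQ,
      Nat.add_sub_cancel, nsmul_eq_mul]
    congr 1
    show (χ : G → ℂ) ((w : G) * ((1 : (P : Subgroup G)) : G)) = _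
    rw [OneMemClass.coe_one, mul_one]
  obtain ⟨s, hs1, hN⟩ := index_Hsub P h he hO hW
  set N := H.index with hNdef
  have hfpos : ∀ χ ∈ members M G, 0 < d χ → charDegree (χ : G → ℂ) ≤ N := by
    intro χ hχ hpos
    refine degree_le_index H WP hcommH χ ?_
    rw [hWPsum χ hχ]
    refine mul_ne_zero (Nat.cast_ne_zero.mpr Nat.card_pos.ne') ?_
    have hz : (0 : ℤ) < (R χ : ℤ) + (e : ℤ) * d χ :=
      add_pos_of_nonneg_of_pos (Int.natCast_nonneg _) (mul_pos (by omega) hpos)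
    intro h0
    have : (R χ : ℤ) + (e : ℤ) * d χ = 0 := by exact_mod_cast h0
    omega
  have hfneg : ∀ χ ∈ members M G, d χ < 0 →
      (e : ℤ) * (-d χ) + 1 ≤ (charDegree (χ : G → ℂ) : ℤ) := by
    intro χ hχ hneg
    obtain ⟨hle, heq⟩ := mean_lt_degree χ (hR χ)
    have hlt : R χ < charDegree (χ : G → ℂ) := by
      refine lt_of_le_of_ne hle fun h0 => ?_
      set K := CharCore.charKernel (CharCore.irr_isCharacter χ)
      haveI : K.Normal := CharCore.charKernel_normal _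
      have hWK : W ≤ K := fun x hx =>
        (CharCore.mem_charKernel (CharCore.irr_isCharacter χ) x).mpr (heq h0 x hx)
      have heven : 2 ∣ Nat.card K := by
        by_contra hodd
        refine hW (le_bot_iff.mp (hWK.trans (hO ▸ Thompson.le_pPrimeCore inferInstance ?_)))
        exact (Nat.prime_two.coprime_iff_not_dvd.mpr hodd).symm
      obtain ⟨t, ht⟩ := exists_prime_orderOf_dvd_card' (G := K) 2 heven
      obtain ⟨g, hg⟩ := isConj_iff.mp (isConj_inv P h he hO hW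
        (show orderOf (t : G) = 2 by rw [Subgroup.orderOf_coe, ht]) (orderOf_Om P h hτO hy₀1))
      have hχτ := hval χ τ hτ1
      rw [← hg, irr_class, (CharCore.mem_charKernel (CharCore.irr_isCharacter χ) (t : G)).mp t.2,
        irr_one_eq] at hχτ
      have : (charDegree (χ : G → ℂ) : ℤ) = d χ := by exact_mod_cast hχτ
      omega
    obtain ⟨m, hm⟩ : ∃ m : ℕ, (R χ : ℤ) + (e : ℤ) * d χ = (e + 1 : ℤ) * m := by
      obtain ⟨m, hm⟩ := exists_mult_one (W ⊔ (P : Subgroup G)) χ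
      refine ⟨m, ?_⟩
      have hcard : Nat.card WP = Nat.card W * (e + 1) := by
        rw [← hQ, ← Nat.card_prod, Nat.card_congr eqv]
      have h1 : ∑ u : WP, (χ : G → ℂ) ((u : H) : G) = ∑ x : (W ⊔ (P : Subgroup G) : Subgroup G),
          (χ : G → ℂ) (x : G) :=
        Fintype.sum_equiv (Subgroup.subgroupOfEquivOfLe hWPle).toEquiv _ _ fun _ => rfl
      rw [hWPsum χ hχ, hm, ← Nat.card_congr (Subgroup.subgroupOfEquivOfLe hWPle).toEquiv,
        ← hWPdef, hcard, Nat.cast_mul, mul_assoc] at h1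
      have h2 := mul_left_cancel₀ (Nat.cast_ne_zero.mpr Nat.card_pos.ne') h1
      push_cast at h2
      exact_mod_cast h2
    have h0 : (0 : ℤ) ≤ (e + 1 : ℤ) * m := by positivity
    have hlt' : (R χ : ℤ) + 1 ≤ (charDegree (χ : G → ℂ) : ℤ) := by exact_mod_cast hlt
    linarith
  -- the principal part at `τ`
  obtain ⟨γ, hγ, -, hγle⟩ := gamma_bound P h he hO hW hM hτO hy₀1
  rw [← hHdef, ← hNdef, ← hedef, hQ] at hγle
  have hγsum : γ = ∑ χ ∈ members M G, (d χ : ℝ) ^ 3 / (charDegree (χ : G → ℂ) : ℝ) := by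
    rw [← Complex.ofReal_inj, ← hγ, gamma]
    push_cast
    exact sum_congr rfl fun χ _ => by rw [hval χ τ hτ1, irr_one_eq]; ring
  have h1mem : oneIrr G ∈ members M G := mem_members.mpr oneIrr_mem
  set S := (members M G).erase (oneIrr G) with hSdef
  set Sp := S.filter fun χ => 0 < d χ
  set Sn := S.filter fun χ => ¬ 0 < d χ
  set Pp : ℤ := ∑ χ ∈ Sp, d χ * d χ with hPp
  set K : ℤ := ∑ χ ∈ Sn, d χ * d χ with hK
  have hPK : Pp + K = (e : ℤ) := by
    rw [hPp, hK, Finset.sum_filter_add_sum_filter_not]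
    have := Finset.add_sum_erase _ (fun χ => d χ * d χ) h1mem
    rw [hd2] at this
    simp only [hd1, mul_one] at this
    rw [hSdef]
    linarith
  have hmemS : ∀ {χ}, χ ∈ S → χ ∈ members M G := fun hχ => mem_of_mem_erase hχ
  have hneg : ∀ χ ∈ Sn, d χ < 0 := fun χ hχ => by
    have h1 := (mem_filter.mp hχ).2
    have h2 := hd0 χ (hmemS (mem_filter.mp hχ).1)
    omega
  have hone : charDegree (oneIrr G : G → ℂ) = 1 := by
    have : ((charDegree (oneIrr G : G → ℂ) : ℕ) : ℂ) = 1 := by rw [← irr_one_eq, coe_oneIrr]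
    exact_mod_cast this
  -- degrees
  have hA : (e : ℤ) * K + 1 ≤ 1 + (N : ℤ) * Pp := by
    have hsum := Finset.add_sum_erase _ (fun χ => d χ * (charDegree (χ : G → ℂ) : ℤ)) h1mem
    rw [hdf, ← hSdef, ← Finset.sum_filter_add_sum_filter_not S (fun χ => 0 < d χ)] at hsum
    simp only [hd1, hone, Nat.cast_one, mul_one] at hsum
    have hp : ∑ χ ∈ Sp, d χ * (charDegree (χ : G → ℂ) : ℤ) ≤ (N : ℤ) * Pp := by
      rw [hPp, Finset.mul_sum]
      refine Finset.sum_le_sum fun χ hχ => ?_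
      have h1 : (charDegree (χ : G → ℂ) : ℤ) ≤ N := by
        exact_mod_cast hfpos χ (hmemS (mem_filter.mp hχ).1) (mem_filter.mp hχ).2
      have h2 := (mem_filter.mp hχ).2
      nlinarith [mul_le_mul_of_nonneg_left h1 h2.le,
        mul_nonneg (show (0 : ℤ) ≤ N by positivity) (mul_nonneg h2.le (show 0 ≤ d χ - 1 by omega))]
    have hn : ∑ χ ∈ Sn, d χ * (charDegree (χ : G → ℂ) : ℤ) ≤ -((e : ℤ) * K) - 1 := by
      have hne : Sn.Nonempty := by
        rw [Finset.nonempty_iff_ne_empty]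
        intro h0
        rw [show S.filter (fun χ => ¬ 0 < d χ) = ∅ from h0, Finset.sum_empty, add_zero] at hsum
        have : (0 : ℤ) ≤ ∑ χ ∈ S.filter (fun χ => 0 < d χ), d χ * (charDegree (χ : G → ℂ) : ℤ) :=
          Finset.sum_nonneg fun χ hχ => mul_nonneg (mem_filter.mp hχ).2.le (Int.natCast_nonneg _)
        omega
      calc _ ≤ ∑ χ ∈ Sn, (-((e : ℤ) * (d χ * d χ)) - 1) := Finset.sum_le_sum fun χ hχ => by
            have h1 := hfneg χ (hmemS (mem_filter.mp hχ).1) (hneg χ hχ)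
            have h2 := hneg χ hχ
            nlinarith [mul_le_mul_of_nonpos_left h1 h2.le]
        _ = -((e : ℤ) * K) - (Sn.card : ℤ) := by
            rw [Finset.sum_sub_distrib, Finset.sum_neg_distrib, ← Finset.mul_sum, Finset.sum_const]
            simp [hK]
        _ ≤ _ := by
            have : (1 : ℤ) ≤ (Sn.card : ℤ) := by exact_mod_cast Finset.card_pos.mpr hne
            linarith
    linarith
  -- the bound
  have hN0 : (0 : ℝ) < (N : ℝ) := Nat.cast_pos.mpr (by omega)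
  have he0 : (0 : ℝ) < (e : ℝ) := Nat.cast_pos.mpr (by omega)
  have hB : 1 + (Pp : ℝ) / N - (K : ℝ) / e ≤ γ := by
    rw [hγsum, ← Finset.add_sum_erase _ _ h1mem, ← hSdef,
      ← Finset.sum_filter_add_sum_filter_not S (fun χ => 0 < d χ), hd1, hone, Int.cast_one,
      Nat.cast_one, one_pow, div_one, hPp, hK, Int.cast_sum, Int.cast_sum, Finset.sum_div,
      Finset.sum_div, sub_eq_add_neg, ← Finset.sum_neg_distrib, add_assoc]
    refine add_le_add le_rfl (add_le_add (Finset.sum_le_sum fun χ hχ => ?_)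
      (Finset.sum_le_sum fun χ hχ => ?_))
    · have hf0 : (0 : ℝ) < (charDegree (χ : G → ℂ) : ℝ) := by exact_mod_cast charDegree_pos χ
      have hfN : (charDegree (χ : G → ℂ) : ℝ) ≤ N :=
        Nat.cast_le.mpr (hfpos χ (hmemS (mem_filter.mp hχ).1) (mem_filter.mp hχ).2)
      have hd1' : (1 : ℝ) ≤ (d χ : ℝ) := by exact_mod_cast (mem_filter.mp hχ).2
      push_cast
      refine div_le_div₀ (by positivity) ?_ hf0 hfN
      nlinarith [mul_nonneg (mul_self_nonneg (d χ : ℝ)) (show (0:ℝ) ≤ (d χ : ℝ) - 1 by linarith)]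
    · have hf0 : (0 : ℝ) < (charDegree (χ : G → ℂ) : ℝ) := by exact_mod_cast charDegree_pos χ
      have hf : (e : ℝ) * (-(d χ : ℝ)) + 1 ≤ (charDegree (χ : G → ℂ) : ℝ) := by
        exact_mod_cast hfneg χ (hmemS (mem_filter.mp hχ).1) (hneg χ hχ)
      have hk : (d χ : ℝ) ≤ 0 := by exact_mod_cast (hneg χ hχ).le
      push_cast
      rw [← neg_div, div_le_div_iff₀ he0 hf0]
      nlinarith [mul_le_mul_of_nonneg_left hf (mul_self_nonneg (d χ : ℝ)), mul_self_nonneg (d χ : ℝ)]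
  have hAR : (e : ℝ) * K + 1 ≤ 1 + (N : ℝ) * Pp := by exact_mod_cast hA
  have hPKR : (Pp : ℝ) + K = (e : ℝ) := by exact_mod_cast hPK
  have h3 := mul_le_mul_of_nonneg_right hB (mul_nonneg he0.le hN0.le)
  have h4 : (1 + (Pp : ℝ) / N - (K : ℝ) / e) * ((e : ℝ) * N) = (e : ℝ) * N + e * Pp - N * K := by
    field_simp
  rw [h4] at h3
  push_cast at hγle
  nlinarith

end Cfsg.Agent.BC84.FreeAuto
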