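import Cfsg.Agent.Lib.BlocksCore.AbelianThree
import Cfsg.Agent.Lib.BlocksCore.AbelianThreeInvolution
import Cfsg.Agent.BC85.Pairs.Pair

/-!
# Orbit sums of linear characters of an abelian Sylow subgroup with free automizer
-/

set_option autoImplicit false
set_option linter.unusedSectionVars false
set_option linter.style.haveILetI false

namespace Cfsg.Agent.BC84.FreeAuto

open Cfsg BlocksCore BlocksDefect AbelianPrincipal AbelianShape CyclicPrincipal Finset
open AbelianThree (orbSum)
open scoped Classical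

universe u

variable {G : Type u} [Group G] [Fintype G] {p : ℕ} [Fact p.Prime] {P : Sylow p G}
  [Fintype (P : Subgroup G)]

theorem normal_cent :
    ((Subgroup.centralizer ((P : Subgroup G) : Set G)).subgroupOf
      (Subgroup.normalizer ((P : Subgroup G) : Set G))).Normal :=
  Subgroup.normal_subgroupOf_of_le_normalizer (BC85.normalizer_le_normalizer_centralizer _)

theorem pow_relIndex_mem {n : G} (hn : n ∈ Subgroup.normalizer ((P : Subgroup G) : Set G)) :
    n ^ (Subgroup.centralizer ((P : Subgroup G) : Set G)).relIndex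
      (Subgroup.normalizer ((P : Subgroup G) : Set G)) ∈
        Subgroup.centralizer ((P : Subgroup G) : Set G) := by
  haveI := normal_cent (G := G) (P := P)
  exact Subgroup.pow_index_mem ((Subgroup.centralizer ((P : Subgroup G) : Set G)).subgroupOf
    (Subgroup.normalizer ((P : Subgroup G) : Set G))) ⟨n, hn⟩

/-- The trivial character occurs in the restriction to `P` with integral multiplicity. -/
theorem exists_sum_eq (χ : IrrCharacter G) :
    ∃ a : ℕ, ∑ y : (P : Subgroup G), (χ : G → ℂ) (y : G) = (Nat.card P : ℂ) * a := by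
  obtain ⟨a, ha⟩ := CharCore.IsCharacter.exists_classInner_eq_natCast
    (CharCore.isCharacter_comp (CharCore.irr_isCharacter χ) (P : Subgroup G).subtype)
    (CharCore.IsIrrCharacter.isCharacter
      (CharCore.isIrrCharacter_hom (1 : ↥(P : Subgroup G) →* ℂˣ)))
  refine ⟨a, ?_⟩
  rw [← ha, Cfsg.classInner, ← mul_assoc,
    mul_inv_cancel₀ (Nat.cast_ne_zero.mpr Nat.card_pos.ne'), one_mul]
  exact Finset.sum_congr rfl fun y _ => by simp

/-- An integer value constant on `P ∖ 1` is congruent to the degree. -/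
theorem dvd_degree_sub (χ : IrrCharacter G) (d : ℤ)
    (hd : ∀ y : (P : Subgroup G), y ≠ 1 → (χ : G → ℂ) (y : G) = (d : ℂ)) :
    (Nat.card P : ℤ) ∣ (charDegree (χ : G → ℂ) : ℤ) - d := by
  obtain ⟨a, ha⟩ := exists_sum_eq (P := P) χ
  rw [← Finset.add_sum_erase _ _ (mem_univ (1 : (P : Subgroup G))), Finset.sum_congr rfl
    (g := fun _ => (d : ℂ)) (fun y hy => hd y (ne_of_mem_erase hy)), Finset.sum_const,
    Finset.card_erase_of_mem (mem_univ _), card_univ, ← Nat.card_eq_fintype_card, nsmul_eq_mul,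
    OneMemClass.coe_one, irr_one_eq, Nat.cast_sub Nat.card_pos] at ha
  refine ⟨(a : ℤ) - d, Int.cast_injective (α := ℂ) ?_⟩
  push_cast at ha ⊢
  linear_combination ha

variable (h : Free P)
include h

theorem eq_of_isConj_inv (hodd : ¬ 2 ∣ (Subgroup.centralizer ((P : Subgroup G) : Set G)).relIndex
      (Subgroup.normalizer ((P : Subgroup G) : Set G))) {y : G} (hy : y ∈ (P : Subgroup G))
    (hc : IsConj y y⁻¹) : y * y = 1 := by
  by_contra hne
  have hy1 : y ≠ 1 := fun h0 => hne (by rw [h0, one_mul])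
  obtain ⟨⟨n, hn⟩, hny⟩ := AbelianThree.exists_normalizer_conj h hy (inv_mem hy) hc
  simp only at hny
  have hn2 : n ^ 2 ∈ Subgroup.centralizer ((P : Subgroup G) : Set G) := by
    rw [← h.cent y hy hy1]
    refine ⟨Subgroup.mem_centralizer_singleton_iff.mpr (mul_inv_eq_iff_eq_mul.mp ?_), pow_mem hn 2⟩
    calc n ^ 2 * y * (n ^ 2)⁻¹ = n * (n * y * n⁻¹) * n⁻¹ := by simp only [pow_two]; group
      _ = n * y⁻¹ * n⁻¹ := by rw [hny]
      _ = (n * y * n⁻¹)⁻¹ := by group
      _ = y := by rw [hny, inv_inv]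
  obtain ⟨j, hj⟩ := Nat.not_even_iff_odd.mp fun hev => hodd (even_iff_two_dvd.mp hev)
  have he := pow_relIndex_mem (P := P) hn
  rw [hj, pow_succ', pow_mul] at he
  have hnC := mul_mem he (inv_mem (pow_mem hn2 j))
  rw [mul_inv_cancel_right] at hnC
  rw [← Subgroup.mem_centralizer_iff.mp hnC y hy, mul_inv_cancel_right] at hny
  exact hne (mul_eq_one_iff_eq_inv.mpr hny)

/-- The orbit sum at `t` is the sum over the conjugates of `t` in `P`. -/
theorem orbSum_eq_class {ψ : Dual P} (hψ : ψ ≠ 1) {t : (P : Subgroup G)} (ht : t ≠ 1) :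
    orbSum ψ t = ∑ z ∈ univ.filter (fun z : (P : Subgroup G) => IsConj (t : G) (z : G)),
      ((ψ z : ℂˣ) : ℂ) := by
  refine mul_right_cancel₀ (Nat.cast_ne_zero.mpr
    (Nat.card_pos (α := Subgroup.centralizer ((P : Subgroup G) : Set G))).ne') ?_
  rw [AbelianThree.orbSum_mul_cent h hψ, ← sum_isConj h t ht fun z => ((ψ z : ℂˣ) : ℂ), sum_filter]

/-- Summing over nontrivial characters counts each orbit `e` times. -/
theorem sum_erase_orb (F : Orb P → ℂ) (g : Dual P → ℂ)
    (hg : ∀ ψ (hψ : ψ ≠ 1), g ψ = F (orb ψ hψ)) :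
    ∑ ψ ∈ univ.erase (1 : Dual P), g ψ = ((Subgroup.centralizer ((P : Subgroup G) : Set G)).relIndex
      (Subgroup.normalizer ((P : Subgroup G) : Set G)) : ℂ) * ∑ o : Orb P, F o := by
  rw [Finset.sum_subtype (univ.erase (1 : Dual P)) (p := fun ψ => ψ ≠ 1) (by simp) g,
    ← Finset.sum_fiberwise univ (fun ψ : {ψ : Dual P // ψ ≠ 1} => Quotient.mk (setoid P) ψ),
    Finset.mul_sum]
  refine Finset.sum_congr rfl fun o _ => ?_
  rw [Finset.sum_congr rfl (g := fun _ => F o) fun ψ hψ => by
    rw [hg ψ.1 ψ.2, ← (mem_filter.mp hψ).2], Finset.sum_const, nsmul_eq_mul]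
  congr 1
  obtain ⟨⟨ψ, hψ⟩, rfl⟩ := Quotient.exists_rep o
  rw [← card_orbit h hψ, Nat.cast_inj]
  refine Finset.card_bij (fun φ _ => φ.1)
    (fun φ hφ => mem_filter.mpr ⟨mem_univ _, Quotient.exact (mem_filter.mp hφ).2⟩)
    (fun a _ b _ hab => Subtype.ext hab) fun φ hφ => ?_
  have hrel := (mem_filter.mp hφ).2
  refine ⟨⟨φ, ?_⟩, mem_filter.mpr ⟨mem_univ _, Quotient.sound hrel⟩, rfl⟩
  rintro rfl
  obtain ⟨n, hn⟩ := rel_symm hrel
  rw [MonoidHom.one_comp] at hn
  exact hψ hn.symm

/-- The third moment in terms of triples with product one. -/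
theorem sum_orbSum_sq {t v : (P : Subgroup G)} (ht : t ≠ 1) :
    (∑ ψ ∈ univ.erase (1 : Dual P), orbSum ψ t ^ 2 * orbSum ψ v) *
        (Nat.card (Subgroup.centralizer ((P : Subgroup G) : Set G)) : ℂ) =
      (Nat.card P : ℂ) * (∑ n : Subgroup.normalizer ((P : Subgroup G) : Set G),
        ∑ a ∈ univ.filter (fun z : (P : Subgroup G) => IsConj (t : G) (z : G)),
          ((univ.filter fun b : (P : Subgroup G) => IsConj (t : G) (b : G) ∧ a * b * cj P n v = 1).card
            : ℂ)) -
      ((univ.filter (fun z : (P : Subgroup G) => IsConj (t : G) (z : G))).card : ℂ) ^ 2 *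
        Nat.card (Subgroup.normalizer ((P : Subgroup G) : Set G)) := by
  set S := univ.filter (fun z : (P : Subgroup G) => IsConj (t : G) (z : G))
  have e : ∀ ψ ∈ univ.erase (1 : Dual P), orbSum ψ t ^ 2 * orbSum ψ v *
      (Nat.card (Subgroup.centralizer ((P : Subgroup G) : Set G)) : ℂ) =
      ∑ n : Subgroup.normalizer ((P : Subgroup G) : Set G), ∑ a ∈ S, ∑ b ∈ S,
        ((ψ (a * b * cj P n v) : ℂˣ) : ℂ) := by
    intro ψ hψ
    rw [mul_assoc, AbelianThree.orbSum_mul_cent h (ne_of_mem_erase hψ) v,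
      orbSum_eq_class h (ne_of_mem_erase hψ) ht, pow_two, Finset.sum_mul_sum, Finset.mul_sum]
    refine sum_congr rfl fun n _ => ?_
    rw [Finset.sum_mul]
    refine sum_congr rfl fun a _ => ?_
    rw [Finset.sum_mul]
    exact sum_congr rfl fun b _ => by rw [map_mul, map_mul, Units.val_mul, Units.val_mul]
  rw [Finset.sum_mul, Finset.sum_congr rfl e, Finset.sum_comm,
    Finset.sum_congr rfl (fun n _ => Finset.sum_comm)]
  have hin : ∀ w : (P : Subgroup G), ∑ ψ ∈ univ.erase (1 : Dual P), ((ψ w : ℂˣ) : ℂ) =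
      (Nat.card P : ℂ) * (if w = 1 then 1 else 0) - 1 := fun w => by
    rw [Finset.sum_erase_eq_sub (mem_univ _), sum_dual h]
    simp
  simp only [Finset.sum_comm (s := univ.erase (1 : Dual P)), hin, Finset.sum_sub_distrib,
    ← Finset.mul_sum, Finset.sum_boole, Finset.sum_const, nsmul_eq_mul, mul_one, card_univ,
    ← Nat.card_eq_fintype_card]
  congr 1
  · congr 1
    refine sum_congr rfl fun n _ => sum_congr rfl fun a _ => ?_
    rw [Finset.filter_filter]
  · ring

end Cfsg.Agent.BC84.FreeAuto
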