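import Cfsg.Agent.BC84.FreeAuto.Pairs
import Cfsg.Agent.BC84.FreeAuto.Orbit

/-!
# The Sylow subgroup is elementary abelian
-/

set_option autoImplicit false
set_option linter.unusedSectionVars false
set_option linter.style.haveILetI false
set_option maxHeartbeats 1000000

namespace Cfsg.Agent.BC84.FreeAuto

open Cfsg BlocksCore BlocksDefect AbelianPrincipal AbelianShape CyclicPrincipal Finset
open AbelianThree (orbSum)
open scoped Classical

universe u

variable {G : Type u} [Group G] [Fintype G] (P : Sylow 2 G) (h : AbelianPrincipal.Free P)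
  [Fintype (P : Subgroup G)]

include h

theorem card_P_ge (hlt : Nat.card (Om P h) < Nat.card P)
    (hfus : ∀ a ∈ Om P h, ∀ b ∈ Om P h, a ≠ 1 → b ≠ 1 → IsConj a b) :
    Nat.card (Om P h) * Nat.card (Om P h) ≤ Nat.card P := by
  haveI : Fact (Nat.Prime 2) := ⟨Nat.prime_two⟩
  let sq : (P : Subgroup G) →* (P : Subgroup G) :=
    { toFun := fun a => a * a
      map_one' := one_mul 1
      map_mul' := fun a b => Subtype.ext (by
        show (a : G) * b * ((a : G) * b) = (a : G) * a * ((b : G) * b)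
        rw [mul_assoc, ← mul_assoc (b : G), h.comm' b b.2 a a.2, mul_assoc (a : G) b, ← mul_assoc]) }
  have hker : Nat.card sq.ker = Nat.card (Om P h) := Nat.card_congr
    { toFun := fun a => ⟨a.1.1, a.1.2, congrArg Subtype.val (MonoidHom.mem_ker.mp a.2)⟩
      invFun := fun a => ⟨⟨a.1, a.2.1⟩, MonoidHom.mem_ker.mpr (Subtype.ext a.2.2)⟩
      left_inv := fun a => rfl
      right_inv := fun a => rfl }
  have hrange : Nat.card (Om P h) ≤ Nat.card sq.range := by
    obtain ⟨y, hy, hy2⟩ : ∃ y : (P : Subgroup G), True ∧ (y : G) * y ≠ 1 := by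
      by_contra hne
      push Not at hne
      have : Nat.card (Om P h) = Nat.card P := Nat.card_congr
        { toFun := fun a => ⟨a.1, a.2.1⟩
          invFun := fun a => ⟨a.1, a.2, hne a trivial⟩
          left_inv := fun a => rfl
          right_inv := fun a => rfl }
      omega
    obtain ⟨a₀, ha₀, ha₀O, ha₀1⟩ :=
      exists_Om_ne_one P h (mul_mem y.2 y.2) hy2
    have ha₀r : (⟨a₀, ha₀O.1⟩ : (P : Subgroup G)) ∈ sq.range := by
      obtain ⟨i, rfl⟩ := Subgroup.mem_zpowers_iff.mp ha₀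
      exact ⟨y ^ i, by rw [map_zpow]; rfl⟩
    refine Nat.card_le_card_of_injective (fun a : Om P h => (⟨⟨a.1, a.2.1⟩, ?_⟩ : sq.range))
      fun a b hab => Subtype.ext (congrArg (fun z : sq.range => ((z : (P : Subgroup G)) : G)) hab)
    by_cases ha1 : (a : G) = 1
    · exact ⟨1, Subtype.ext (by simp [ha1])⟩
    · obtain ⟨⟨n, hn⟩, hna⟩ := AbelianThree.exists_normalizer_conj h ha₀O.1 a.2.1
        (hfus _ ha₀O _ a.2 ha₀1 ha1)
      obtain ⟨z, hz⟩ := ha₀r
      refine ⟨cj P ⟨n, hn⟩ z, ?_⟩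
      show cj P ⟨n, hn⟩ z * cj P ⟨n, hn⟩ z = _
      rw [← map_mul, show z * z = ⟨a₀, ha₀O.1⟩ from hz]
      exact Subtype.ext hna
  calc Nat.card (Om P h) * Nat.card (Om P h) ≤ Nat.card sq.ker * Nat.card sq.range :=
        Nat.mul_le_mul hker.ge hrange
    _ = Nat.card P := by
        rw [← Subgroup.index_ker, mul_comm, Subgroup.index_mul_card]

variable (he : (5 : ℕ) ≤ (Subgroup.centralizer ((P : Subgroup G) : Set G)).relIndex
    (Subgroup.normalizer ((P : Subgroup G) : Set G)))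
  (hO : pPrimeCore 2 G = ⊥) (hW : Wsub P h ≠ ⊥)
include he hO hW

theorem card_eq_of_W_ne_bot {M : Ideal AlgInt} (hM : IsPModular 2 M) :
    Nat.card P = (Subgroup.centralizer ((P : Subgroup G) : Set G)).relIndex
      (Subgroup.normalizer ((P : Subgroup G) : Set G)) + 1 := by
  haveI : Fact (Nat.Prime 2) := ⟨Nat.prime_two⟩
  have := isPrime hM
  set e := (Subgroup.centralizer ((P : Subgroup G) : Set G)).relIndex
      (Subgroup.normalizer ((P : Subgroup G) : Set G)) with hedef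
  set Q := Nat.card P with hQdef
  have hOm : Nat.card (Om P h) = e + 1 := by
    have := relIndex_eq_card_Om P h he hO hW
    have := eight_le P h he
    omega
  have hfus : ∀ a ∈ Om P h, ∀ b ∈ Om P h, a ≠ 1 → b ≠ 1 → IsConj a b := fun a ha b hb ha1 hb1 =>
    isConj_inv P h he hO hW (orderOf_Om P h ha ha1) (orderOf_Om P h hb hb1)
  have hOle : Nat.card (Om P h) ≤ Q :=
    Subgroup.card_le_of_le (show Om P h ≤ P from fun a ha => ha.1)
  by_contra hne
  have hbig : (e + 1) * (e + 1) ≤ Q := hOm ▸ card_P_ge P h (by omega) hfus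
  have hodd : ¬ 2 ∣ e := fun hd => by
    obtain ⟨k, hk⟩ := IsPGroup.iff_card.mp ((P.2).to_le (show Om P h ≤ P from fun a ha => ha.1))
    rcases Nat.eq_zero_or_pos k with h0 | h0
    · rw [h0, pow_zero] at hk; omega
    · have := hk ▸ dvd_pow_self 2 h0.ne'
      omega
  obtain ⟨y, hy2⟩ : ∃ y : (P : Subgroup G), (y : G) * y ≠ 1 := by
    by_contra hall
    push Not at hall
    have : Nat.card (Om P h) = Q := Nat.card_congr
      { toFun := fun a => ⟨a.1, a.2.1⟩
        invFun := fun a => ⟨a.1, a.2, hall a⟩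
        left_inv := fun a => rfl
        right_inv := fun a => rfl }
    omega
  have hy1 : y ≠ 1 := fun h0 => hy2 (by simp [h0])
  have hy1' : (y : G) ≠ 1 := fun h0 => hy1 (Subtype.ext h0)
  obtain ⟨τ, -, hτ, hτ1⟩ := exists_Om_ne_one P h y.2 hy1'
  set t : (P : Subgroup G) := ⟨τ, hτ.1⟩ with htdef
  have ht1 : t ≠ 1 := fun h0 => hτ1 (congrArg Subtype.val h0)
  have hτ2 := orderOf_Om P h hτ hτ1
  -- no product of two conjugates of `τ` lies over `y`
  have hsqc : ∀ {s : G}, IsConj τ s → s * s = 1 := fun {s} hs => by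
    obtain ⟨g, rfl⟩ := isConj_iff.mp hs
    rw [conj_mul, hτ.2, mul_one, mul_inv_cancel]
  have hno : ∀ t₁ t₂ : G, IsConj τ t₁ → IsConj τ t₂ → ¬ IsPPart 2 (t₁ * t₂)⁻¹ (y : G) := by
    intro t₁ t₂ h₁ h₂ hpp
    have i1 : t₁⁻¹ = t₁ := inv_eq_of_mul_eq_one_right (hsqc h₁)
    have i2 : t₂⁻¹ = t₂ := inv_eq_of_mul_eq_one_right (hsqc h₂)
    have hpp' := AbelianThree.isPPart_inv hpp
    rw [mul_inv_rev, i1, i2] at hpp
    rw [inv_inv, show t₁ * t₂ = t₁ * (t₂ * t₁) * t₁⁻¹ by group] at hpp'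
    exact hy2 (eq_of_isConj_inv h hodd y.2
      (isConj_iff.mpr ⟨t₁, isPPart_unique Nat.prime_two (isPPart_conj hpp t₁) hpp'⟩))
  have hgy : gamma M τ (y : G) = 0 := AbelianThree.sum_sq_mul_eq_zero h hM y.2 hno
  -- the shape of the block
  have hrm := card_orb_mul h
  rw [← hedef, ← hQdef] at hrm
  set r := Fintype.card (Orb P) with hr
  have hr2 : e + 2 ≤ r := by
    by_contra hc
    have := Nat.mul_le_mul_right e (show r ≤ e + 1 by omega)
    have : Q - 1 + 1 = Q := Nat.sub_add_cancel Nat.card_pos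
    nlinarith
  haveI : Nontrivial (Orb P) := Fintype.one_lt_card_iff_nontrivial.mp (by omega)
  have hP1 : Nat.card P ≠ 1 := by
    have := Nat.mul_le_mul he he
    omega
  obtain ⟨D⟩ : Nonempty (Data M P e) := AbelianShape.exists_data hM h
  have hs := D.norm_split hM h
  rw [← hr] at hs
  have hX1 : oneIrr G ∈ D.X := D.one_mem_X hM h
  have hpos : ∀ χ ∈ D.X, 1 ≤ D.c χ * D.c χ := fun χ hχ =>
    mul_self_pos.mpr (D.c_ne_zero hM h hP1 hχ)
  have hc1 : D.c (oneIrr G) = -1 := D.c_one hM h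
  have hsum1 : 1 ≤ ∑ χ ∈ D.X, D.c χ * D.c χ := le_trans (hpos _ hX1)
    (Finset.single_le_sum (fun x hx => le_trans zero_le_one (hpos x hx)) hX1)
  have hd : D.d = 0 := by
    by_contra hd
    have hr' : (e : ℤ) + 2 ≤ r := by exact_mod_cast hr2
    have h1 : 1 ≤ D.d * D.d := mul_self_pos.mpr hd
    rcases D.sign with e' | e' <;> rw [e'] at hs <;>
      rcases lt_or_gt_of_ne hd with hl | hl <;>
      nlinarith [mul_le_mul_of_nonneg_right hr' (mul_self_nonneg D.d),
        mul_le_mul_of_nonneg_left h1 (show (0 : ℤ) ≤ e by positivity),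
        mul_nonneg (show (0:ℤ) ≤ D.d * D.d - 1 by omega) (show (0:ℤ) ≤ 1 by omega)]
  rw [hd, mul_zero, mul_zero, mul_zero, add_zero, add_zero] at hs
  have hrest : ∑ χ ∈ D.X.erase (oneIrr G), D.c χ * D.c χ = (e : ℤ) - 1 := by
    rw [← Finset.add_sum_erase _ _ hX1, hc1] at hs
    linarith
  haveI : Nonempty (Orb P) := inferInstance
  obtain ⟨o₀⟩ := ‹Nonempty (Orb P)›
  set x : ℕ := charDegree (D.f o₀ : G → ℂ) with hxdef
  have hx : ∀ o, (D.f o : G → ℂ) 1 = (x : ℂ) := fun o => by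
    rw [D.eq_regular hM h o o₀ (g := 1) (by rw [orderOf_one]; exact Nat.prime_two.not_dvd_one),
      irr_one_eq]
  have hval : ∀ χ ∈ D.X, ∀ z : (P : Subgroup G), z ≠ 1 →
      (χ : G → ℂ) (z : G) = ((-D.c χ : ℤ) : ℂ) := fun χ hχ z hz =>
    D.apply_X hM h hχ (isPPart_self z.2) z.2 fun h0 => hz (Subtype.ext h0)
  have hf : ∀ ψ (hψ : ψ ≠ 1) (z : (P : Subgroup G)), z ≠ 1 →
      (D.f (orb ψ hψ) : G → ℂ) (z : G) = (D.ε : ℂ) * orbSum ψ z := fun ψ hψ z hz => by
    rw [apply_of_exceptional h (D.f (orb ψ hψ)) D.d D.ε hψ (fun o => D.vec_f _ o) hz, hd, orbSum]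
    simp
  -- orbit sums
  have hfam : ∀ v : (P : Subgroup G), v ≠ 1 →
      (e : ℂ) * ∑ o, (D.f o : G → ℂ) (t : G) ^ 2 * (D.f o : G → ℂ) (v : G) =
        (D.ε : ℂ) ^ 3 * ∑ ψ ∈ univ.erase (1 : Dual P), orbSum ψ t ^ 2 * orbSum ψ v := fun v hv => by
    rw [Finset.mul_sum (univ.erase (1 : Dual P))]
    convert (sum_erase_orb h
      (fun o => (D.f o : G → ℂ) (t : G) ^ 2 * (D.f o : G → ℂ) (v : G))
      (fun ψ => (D.ε : ℂ) ^ 3 * (orbSum ψ t ^ 2 * orbSum ψ v))
      (fun ψ hψ => by rw [hf ψ hψ t ht1, hf ψ hψ v hv]; ring)).symm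
  set S := univ.filter (fun z : (P : Subgroup G) => IsConj (t : G) (z : G)) with hS
  have hScard : S.card = e := card_fusion P h ht1
  have hSmem : ∀ z : (P : Subgroup G), z ∈ S ↔ (z : G) * z = 1 ∧ z ≠ 1 := fun z => by
    simp only [hS, mem_filter, mem_univ, true_and]
    refine ⟨fun hz => ⟨hsqc hz, fun h0 => hτ1 ?_⟩, fun hz => hfus _ hτ _ ⟨z.2, hz.1⟩ hτ1
      fun h0 => hz.2 (Subtype.ext h0)⟩
    rw [h0] at hz
    exact isConj_one_left.mp hz
  have hγ0 : (Nat.card (Subgroup.centralizer ((P : Subgroup G) : Set G)) : ℂ) ≠ 0 := Nat.cast_ne_zero.mpr Nat.card_pos.ne'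
  have hNcard : (Nat.card (Subgroup.normalizer ((P : Subgroup G) : Set G)) : ℂ) = (e : ℂ) * (Nat.card (Subgroup.centralizer ((P : Subgroup G) : Set G)) : ℂ) := by
    rw [natCard_normalizer, ← hedef, Nat.cast_mul]
  have hmom : ∀ v : (P : Subgroup G), (∑ ψ ∈ univ.erase (1 : Dual P), orbSum ψ t ^ 2 * orbSum ψ v) *
        (Nat.card (Subgroup.centralizer ((P : Subgroup G) : Set G)) : ℂ) =
      (Q : ℂ) * (∑ n : Subgroup.normalizer ((P : Subgroup G) : Set G), ∑ a ∈ S,
          ((univ.filter fun b : (P : Subgroup G) => IsConj (t : G) (b : G) ∧ a * b * cj P n v = 1).card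
            : ℂ)) -
      (S.card : ℂ) ^ 2 * Nat.card (Subgroup.normalizer ((P : Subgroup G) : Set G)) := fun v => by
    convert sum_orbSum_sq h (v := v) ht1
  have hTy : ∑ ψ ∈ univ.erase (1 : Dual P), orbSum ψ t ^ 2 * orbSum ψ y = -(e : ℂ) ^ 3 := by
    refine mul_right_cancel₀ hγ0 ?_
    rw [hmom, hScard, hNcard, Finset.sum_eq_zero]
    · ring
    intro n _
    refine Finset.sum_eq_zero fun a ha => ?_
    rw [Nat.cast_eq_zero, Finset.card_eq_zero, filter_eq_empty_iff]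
    rintro b - ⟨hb, hab⟩
    refine hy2 ?_
    have hb2 : (b : G) * b = 1 := hsqc hb
    have ha2 : (a : G) * a = 1 := ((hSmem a).mp ha).1
    have h1 : (cj P n y : G) = ((a : G) * b)⁻¹ :=
      eq_inv_of_mul_eq_one_right (congrArg Subtype.val hab)
    have h2 : ((cj P n y : G)) * (cj P n y : G) = 1 := by
      rw [h1, ← mul_inv_rev, show (a : G) * b * ((a : G) * b) = (a : G) * ((b : G) * a) * b by group,
        h.comm' b b.2 a a.2, show (a : G) * ((a : G) * b) * b = (a : G) * a * ((b : G) * b) by group,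
        ha2, hb2, one_mul, inv_one]
    rwa [coe_cj, conj_mul, conj_eq_one_iff] at h2
  have hTt : ∑ ψ ∈ univ.erase (1 : Dual P), orbSum ψ t ^ 2 * orbSum ψ t =
      (Q : ℂ) * e * ((e : ℂ) - 1) - (e : ℂ) ^ 3 := by
    refine mul_right_cancel₀ hγ0 ?_
    rw [hmom, hScard, hNcard, Finset.sum_congr rfl
      (g := fun _ => (e : ℂ) - 1) fun n _ => ?_, Finset.sum_const, card_univ,
      ← Nat.card_eq_fintype_card, nsmul_eq_mul, hNcard]
    · ring
    set v := cj P n t with hv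
    have hvS : v ∈ S := by
      refine mem_filter.mpr ⟨mem_univ _, isConj_iff.mpr ⟨(n : G), ?_⟩⟩
      rw [hv, coe_cj]
    rw [Finset.sum_congr rfl (g := fun a => if a = v then (0 : ℂ) else 1) fun a ha => ?_,
      Finset.sum_ite, sum_const_zero, zero_add, sum_const, nsmul_eq_mul, mul_one,
      Finset.filter_ne' S v, Finset.card_erase_of_mem hvS, hScard, Nat.cast_sub (by omega),
      Nat.cast_one]
    have ha2 : (a : G) * a = 1 := ((hSmem a).mp ha).1
    have hv2 : (v : G) * v = 1 := ((hSmem v).mp hvS).1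
    split_ifs with hav
    · rw [Nat.cast_eq_zero, Finset.card_eq_zero, filter_eq_empty_iff]
      rintro b - ⟨hb, hab⟩
      subst hav
      refine ((hSmem b).mp (mem_filter.mpr ⟨mem_univ _, hb⟩)).2 (Subtype.ext ?_)
      have h1 : (v : G) * b * v = 1 := congrArg Subtype.val hab
      rw [mul_assoc, h.comm' b b.2 v v.2, ← mul_assoc, hv2, one_mul] at h1
      exact h1
    · rw [show (univ.filter fun b : (P : Subgroup G) => IsConj (t : G) (b : G) ∧ a * b * v = 1) =
        {a * v} from ?_, card_singleton, Nat.cast_one]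
      ext b
      simp only [mem_filter, mem_univ, true_and, mem_singleton]
      constructor
      · rintro ⟨-, hab⟩
        refine Subtype.ext ?_
        have h1 : (a : G) * b * v = 1 := congrArg Subtype.val hab
        calc (b : G) = ((a : G) * a) * b * ((v : G) * v) := by rw [ha2, hv2, one_mul, mul_one]
          _ = (a : G) * ((a : G) * b * v) * v := by group
          _ = _ := by rw [h1, mul_one]; rfl
      · rintro rfl
        refine ⟨(mem_filter.mp ((hSmem _).mpr ⟨?_, fun h0 => hav ?_⟩)).2, Subtype.ext ?_⟩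
        · show (a : G) * v * ((a : G) * v) = 1
          rw [show (a : G) * v * ((a : G) * v) = (a : G) * ((v : G) * a) * v by group,
            h.comm' v v.2 a a.2, show (a : G) * ((a : G) * v) * v = (a : G) * a * ((v : G) * v) by group,
            ha2, hv2, one_mul]
        · refine Subtype.ext ?_
          have h1 : (a : G) * v = 1 := congrArg Subtype.val h0
          calc (a : G) = (a : G) * v * v := by rw [mul_assoc, hv2, mul_one]
            _ = v := by rw [h1, one_mul]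
        · show (a : G) * ((a : G) * v) * v = 1
          rw [← mul_assoc, ha2, one_mul, hv2]
  -- the two values
  have hxpos : (0 : ℝ) < (x : ℝ) := by exact_mod_cast charDegree_pos (D.f o₀)
  have hsub : Finset.univ.image D.f ⊆ members M G := fun χ hχ => by
    obtain ⟨o, -, rfl⟩ := Finset.mem_image.mp hχ
    exact D.mem o
  have hsplit : ∀ v : (P : Subgroup G), v ≠ 1 → gamma M τ (v : G) =
      ∑ χ ∈ D.X, ((-D.c χ : ℤ) : ℂ) ^ 3 / (charDegree (χ : G → ℂ) : ℂ) +
      (∑ o, (D.f o : G → ℂ) (t : G) ^ 2 * (D.f o : G → ℂ) (v : G)) / (x : ℂ) := fun v hv => by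
    rw [gamma, ← Finset.sum_sdiff hsub, Finset.sum_image fun a _ b _ hab => D.inj hab,
      Finset.sum_div]
    congr 1
    · refine Finset.sum_congr (by rfl) fun χ hχ => ?_
      rw [hval χ hχ v hv, show (χ : G → ℂ) τ = _ from hval χ hχ t ht1, irr_one_eq]
      ring
    · exact Finset.sum_congr rfl fun o _ => by rw [hx o]; ring
  have hε3 : (D.ε : ℂ) ^ 3 = (D.ε : ℂ) := by rcases D.sign with e' | e' <;> rw [e'] <;> norm_num
  have he0 : (e : ℂ) ≠ 0 := Nat.cast_ne_zero.mpr (by omega)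
  have hFy : ∑ o, (D.f o : G → ℂ) (t : G) ^ 2 * (D.f o : G → ℂ) (y : G) =
      -(D.ε : ℂ) * (e : ℂ) ^ 2 := mul_left_cancel₀ he0 (by rw [hfam y hy1, hTy, hε3]; ring)
  have hFt : ∑ o, (D.f o : G → ℂ) (t : G) ^ 2 * (D.f o : G → ℂ) (t : G) =
      (D.ε : ℂ) * ((Q : ℂ) * ((e : ℂ) - 1) - (e : ℂ) ^ 2) :=
    mul_left_cancel₀ he0 (by rw [hfam t ht1, hTt, hε3]; ring)
  have h0 : ∑ χ ∈ D.X, ((-D.c χ : ℤ) : ℂ) ^ 3 / (charDegree (χ : G → ℂ) : ℂ) +
      (-(D.ε : ℂ) * (e : ℂ) ^ 2) / (x : ℂ) = 0 := by rw [← hFy, ← hsplit y hy1, hgy]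
  obtain ⟨γ, hγ, hγ0', hγle⟩ := gamma_bound P h he hO hW hM hτ hτ1
  have hγeq : (γ : ℂ) = (((D.ε : ℝ) * ((Q : ℝ) * ((e : ℝ) - 1)) / (x : ℝ) : ℝ) : ℂ) := by
    rw [← hγ, show gamma M τ τ = gamma M τ (t : G) from rfl, hsplit t ht1, hFt]
    push_cast at h0 ⊢
    linear_combination h0
  rw [Complex.ofReal_inj] at hγeq
  have heR : (5 : ℝ) ≤ (e : ℝ) := by exact_mod_cast he
  have hQR : (0 : ℝ) < (Q : ℝ) := by exact_mod_cast Nat.card_pos
  have hε : D.ε = 1 := by
    rcases D.sign with e' | e'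
    · exact e'
    · exfalso
      rw [e'] at hγeq
      push_cast at hγeq
      have : 0 < (Q : ℝ) * ((e : ℝ) - 1) / (x : ℝ) := div_pos (mul_pos hQR (by linarith)) hxpos
      rw [neg_one_mul, neg_div] at hγeq
      linarith
  rw [hε, Int.cast_one, one_mul] at hγeq
  obtain ⟨s, hs1, hN⟩ := index_Hsub P h he hO hW
  rw [hN, ← hQdef, ← hedef, hγeq] at hγle
  push_cast at hγle
  have hxle : (e : ℝ) * (1 + (Q : ℝ) * s) ≤ (x : ℝ) := by
    rw [div_mul_eq_mul_div, div_le_iff₀ hxpos] at hγle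
    have hpos' : 0 < ((e : ℝ) - 1) * Q := mul_pos (by linarith) hQR
    nlinarith
  -- the equation at `y` has no solution
  have hR : (1 : ℝ) + ∑ χ ∈ D.X.erase (oneIrr G),
      ((-D.c χ : ℤ) : ℝ) ^ 3 / (charDegree (χ : G → ℂ) : ℝ) - (e : ℝ) ^ 2 / (x : ℝ) = 0 := by
    rw [hε, ← Finset.add_sum_erase _ _ hX1, hc1] at h0
    rw [← Complex.ofReal_inj]
    push_cast
    have h1 : ((charDegree (oneIrr G : G → ℂ) : ℕ) : ℂ) = 1 := by rw [← irr_one_eq, coe_oneIrr]
    rw [h1] at h0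
    push_cast at h0
    linear_combination h0
  set m : ℝ := (Q : ℝ) - e + 1 with hm
  have hQe : ((e : ℝ) + 1) * ((e : ℝ) + 1) ≤ Q := by exact_mod_cast hbig
  have hm0 : 0 < m := by nlinarith
  have hbound : ∀ χ ∈ D.X.erase (oneIrr G), -(((e : ℝ) - 1) * ((D.c χ * D.c χ : ℤ) : ℝ) / m) ≤
      ((-D.c χ : ℤ) : ℝ) ^ 3 / (charDegree (χ : G → ℂ) : ℝ) := by
    intro χ hχ
    have hχX := mem_of_mem_erase hχ
    have hf0 : (0 : ℝ) < (charDegree (χ : G → ℂ) : ℝ) := by exact_mod_cast charDegree_pos χ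
    have hcc : D.c χ * D.c χ ≤ (e : ℤ) - 1 := by
      rw [← hrest]
      exact Finset.single_le_sum (fun x hx => le_trans zero_le_one (hpos x (mem_of_mem_erase hx))) hχ
    rcases le_or_gt (D.c χ) 0 with hc | hc
    · have h2 : (0 : ℝ) ≤ ((-D.c χ : ℤ) : ℝ) := by exact_mod_cast Int.neg_nonneg.mpr hc
      refine le_trans (neg_nonpos.mpr (div_nonneg (mul_nonneg (by linarith) ?_) hm0.le))
        (div_nonneg (pow_nonneg h2 3) hf0.le)
      exact_mod_cast mul_self_nonneg _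
    · have hck : D.c χ ≤ (e : ℤ) - 1 := by nlinarith
      have hdv := dvd_degree_sub (P := P) χ (-D.c χ) fun z hz => hval χ hχX z hz
      rw [sub_neg_eq_add] at hdv
      have hge := Int.le_of_dvd (by have := charDegree_pos χ; omega) hdv
      have hgeR : m ≤ (charDegree (χ : G → ℂ) : ℝ) := by
        have : ((Q : ℤ) : ℝ) ≤ (((charDegree (χ : G → ℂ) : ℤ) + D.c χ : ℤ) : ℝ) := Int.cast_le.mpr hge
        have h3 : ((D.c χ : ℤ) : ℝ) ≤ (((e : ℤ) - 1 : ℤ) : ℝ) := Int.cast_le.mpr hck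
        push_cast at this h3
        linarith
      have h3 : ((D.c χ : ℤ) : ℝ) ≤ (e : ℝ) - 1 := by
        have := (Int.cast_le (R := ℝ)).mpr hck
        push_cast at this
        exact this
      have hc0 : (0 : ℝ) ≤ (D.c χ : ℝ) := by exact_mod_cast hc.le
      push_cast
      rw [show (-(D.c χ : ℝ)) ^ 3 = -((D.c χ : ℝ) * ((D.c χ : ℝ) * D.c χ)) by ring, neg_div,
        neg_le_neg_iff]
      exact div_le_div₀ (mul_nonneg (by linarith) (mul_self_nonneg _))
        (mul_le_mul_of_nonneg_right h3 (mul_self_nonneg _)) hm0 hgeR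
  have hlow := Finset.sum_le_sum hbound
  rw [Finset.sum_neg_distrib, ← Finset.sum_div, ← Finset.mul_sum, ← Int.cast_sum, hrest] at hlow
  push_cast at hlow
  have hN1 : (1 : ℝ) + (Q : ℝ) ≤ 1 + (Q : ℝ) * s := by
    have : (1 : ℝ) ≤ (s : ℝ) := by exact_mod_cast hs1
    nlinarith
  have hx2 : (e : ℝ) ^ 2 / (x : ℝ) ≤ (e : ℝ) / m := by
    rw [div_le_div_iff₀ hxpos hm0]
    have h4 : (e : ℝ) * m ≤ (e : ℝ) * (1 + (Q : ℝ) * s) := mul_le_mul_of_nonneg_left
      (by linarith) (by linarith)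
    nlinarith [mul_le_mul_of_nonneg_left (h4.trans hxle) (show (0 : ℝ) ≤ e by linarith)]
  have hfin : ((e : ℝ) - 1) * ((e : ℝ) - 1) / m + (e : ℝ) / m < 1 := by
    rw [← add_div, div_lt_one hm0]
    nlinarith
  push_cast at hR
  linarith

end Cfsg.Agent.BC84.FreeAuto
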