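import Cfsg.Agent.BC84.FreeAuto.Main
import Cfsg.Agent.S4569
import Cfsg.Agent.S4646
import Mathlib.GroupTheory.SpecificGroups.ZGroup

/-!
# An involution with a centralizer of rank one
-/

set_option autoImplicit false
set_option linter.unusedSectionVars false
set_option linter.style.haveILetI false

namespace Cfsg.Agent.BC84.FreeAuto

open Cfsg BlocksCore BlocksDefect
open scoped Classical

universe u

variable {G : Type u} [Group G] [Fintype G]

/-- A group of order fifteen is commutative. -/
theorem comm_of_card_fifteen {A : Type u} [Group A] (hA : Nat.card A = 15) (a b : A) :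
    a * b = b * a := by
  haveI : Finite A := Nat.finite_of_card_ne_zero (by rw [hA]; norm_num)
  have hsq : Squarefree (Nat.card A) := by
    rw [hA, show (15 : ℕ) = 3 * 5 from rfl, Nat.squarefree_mul_iff]
    exact ⟨by norm_num, Nat.prime_three.squarefree, (by norm_num : Nat.Prime 5).squarefree⟩
  haveI : IsZGroup A := IsZGroup.of_squarefree hsq
  haveI : Group.IsNilpotent A := by
    refine ((Group.isNilpotent_of_finite_tfae (G := A)).out 0 3 rfl rfl).mpr fun p hp P => ?_
    haveI := hp
    have hn1 : Nat.card (Sylow p A) % p = 1 % p := card_sylow_modEq_one p A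
    have hn2 : Nat.card (Sylow p A) ∣ 15 := by
      have h1 := P.card_dvd_index.trans (Subgroup.index_dvd_card (P : Subgroup A))
      rwa [hA] at h1
    have hn3 : Nat.card (Sylow p A) ∣ (P : Subgroup A).index := P.card_dvd_index
    have h15 : Nat.card P * (P : Subgroup A).index = 15 := by rw [Subgroup.card_mul_index, hA]
    have hmem : Nat.card (Sylow p A) ∈ Nat.divisors 15 := Nat.mem_divisors.mpr ⟨hn2, by norm_num⟩
    by_cases hp15 : p ∣ 15
    · have hP : p ∣ Nat.card P := by
        have := P.card_eq_multiplicity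
        rw [hA] at this
        rw [this]
        exact dvd_pow_self p (hp.out.factorization_pos_of_dvd (by norm_num) hp15).ne'
      have hp' : p = 3 ∨ p = 5 := by
        have h2 : p ∈ Nat.divisors 15 := Nat.mem_divisors.mpr ⟨hp15, by norm_num⟩
        rw [show Nat.divisors 15 = {1, 3, 5, 15} by decide] at h2
        simp only [Finset.mem_insert, Finset.mem_singleton] at h2
        rcases h2 with rfl | rfl | rfl | rfl
        · exact absurd hp.out (by norm_num)
        · exact Or.inl rfl
        · exact Or.inr rfl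
        · exact absurd hp.out (by norm_num)
      have h1 : Nat.card (Sylow p A) = 1 := by
        obtain ⟨c, hc⟩ := hP
        have hdv : p * Nat.card (Sylow p A) ∣ 15 := by
          rw [← h15, hc, mul_assoc]
          exact mul_dvd_mul_left p (hn3.trans (dvd_mul_left _ c))
        rw [show Nat.divisors 15 = {1, 3, 5, 15} by decide] at hmem
        simp only [Finset.mem_insert, Finset.mem_singleton] at hmem
        rcases hmem with h | h | h | h <;> rcases hp' with rfl | rfl <;>
          first
            | exact h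
            | exact absurd (h ▸ hn1) (by decide)
            | exact absurd (h ▸ hdv) (by decide)
      haveI : Subsingleton (Sylow p A) := (Nat.card_eq_one_iff_unique.mp h1).1
      exact Sylow.normal_of_subsingleton P
    · rw [Subgroup.eq_bot_of_card_eq (P : Subgroup A) (by
        rw [P.card_eq_multiplicity, hA, Nat.factorization_eq_zero_of_not_dvd hp15, pow_zero])]
      infer_instance
  letI : CommGroup A := IsCyclic.commGroup
  exact mul_comm a b

/-- Elements normalizing `P` and fixing `x` centralize `P`. -/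
theorem normalizer_fixed {M : Ideal AlgInt} (hM : IsPModular 2 M) (P : Sylow 2 G)
    (hab : IsMulCommutative P) {x : G} (hxP : x ∈ (P : Subgroup G))
    (hl : blockRank 2 (principalBlock M ↥(Subgroup.centralizer ({x} : Set G))) = 1)
    {n : G} (hn : n ∈ Subgroup.normalizer ((P : Subgroup G) : Set G)) (hnx : n * x = x * n) :
    n ∈ Subgroup.centralizer ((P : Subgroup G) : Set G) := by
  haveI : Fact (Nat.Prime 2) := ⟨Nat.prime_two⟩
  set C := Subgroup.centralizer ({x} : Set G) with hC
  haveI : Fintype C := Fintype.ofFinite _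
  have hPC : (P : Subgroup G) ≤ C := fun a ha => Subgroup.mem_centralizer_singleton_iff.mpr
    (congrArg Subtype.val (hab.is_comm.comm ⟨a, ha⟩ ⟨x, hxP⟩))
  obtain ⟨R, N, hN, hc⟩ := (BC85.hasNormalPComplement_iff_nilpotentBlock hM).mpr
    ((S4646.result (G := C) 2 M hM).mpr hl)
  have hR : ∀ a b : C, a ∈ (R : Subgroup C) → b ∈ (R : Subgroup C) → a * b = b * a := by
    intro a b ha hb
    have e := Sylow.equiv R (P.subtype hPC)
    have h1 : e ⟨a, ha⟩ * e ⟨b, hb⟩ = e ⟨b, hb⟩ * e ⟨a, ha⟩ := Subtype.ext (Subtype.ext (by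
      show ((e ⟨a, ha⟩ : C) : G) * ((e ⟨b, hb⟩ : C) : G) = ((e ⟨b, hb⟩ : C) : G) * ((e ⟨a, ha⟩ : C) : G)
      exact congrArg Subtype.val (hab.is_comm.comm ⟨((e ⟨a, ha⟩ : C) : G), (e ⟨a, ha⟩).2⟩
        ⟨((e ⟨b, hb⟩ : C) : G), (e ⟨b, hb⟩).2⟩)))
    rw [← map_mul, ← map_mul] at h1
    exact congrArg Subtype.val (e.injective h1)
  have hcommN : ∀ a b : C, a * b * a⁻¹ * b⁻¹ ∈ N := by
    intro a b
    have hmk : ∀ c : C, ∃ r ∈ (R : Subgroup C),
        (c : C ⧸ N) = (r : C ⧸ N) := fun c => by
      have h1 : c ∈ N ⊔ (R : Subgroup C) := by rw [hc.sup_eq_top]; trivial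
      obtain ⟨m, hm, r, hr, rfl⟩ := Subgroup.mem_sup_of_normal_left.mp h1
      refine ⟨r, hr, ?_⟩
      rw [QuotientGroup.mk_mul, (QuotientGroup.eq_one_iff m).mpr hm, one_mul]
    obtain ⟨r, hr, hra⟩ := hmk a
    obtain ⟨s, hs, hsb⟩ := hmk b
    rw [← QuotientGroup.eq_one_iff]
    simp only [QuotientGroup.mk_mul, QuotientGroup.mk_inv, hra, hsb]
    simp only [← QuotientGroup.mk_inv, ← QuotientGroup.mk_mul]
    rw [hR r s hr hs, mul_inv_cancel_right, mul_inv_cancel, QuotientGroup.mk_one]
  have hNodd : ¬ 2 ∣ Nat.card N := fun hd => R.not_dvd_index (by rwa [hc.index_eq_card])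
  refine Subgroup.mem_centralizer_iff.mpr fun a ha => ?_
  have hnC : n ∈ C := Subgroup.mem_centralizer_singleton_iff.mpr hnx
  have h1 := hcommN ⟨n, hnC⟩ ⟨a, hPC ha⟩
  have h2 : n * a * n⁻¹ * a⁻¹ ∈ (P : Subgroup G) :=
    mul_mem ((Subgroup.mem_normalizer_iff.mp hn a).mp ha) (inv_mem ha)
  have h3 : ¬ 2 ∣ orderOf (n * a * n⁻¹ * a⁻¹) := fun hd => hNodd (hd.trans (by
    have := Subgroup.orderOf_dvd_natCard N h1
    rwa [← Subgroup.orderOf_coe] at this))
  have h4 := eq_one_of_mem_odd P h2 h3
  rw [mul_inv_eq_one, mul_inv_eq_iff_eq_mul] at h4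
  exact h4.symm

/-- Freeness passes to the quotient by an odd normal subgroup. -/
theorem free_quotient (P : Sylow 2 G) (h : AbelianPrincipal.Free P) (N : Subgroup G) [N.Normal]
    (hN : ¬ 2 ∣ Nat.card N) (P' : Sylow 2 (G ⧸ N))
    (hP' : (P' : Subgroup (G ⧸ N)) = (P : Subgroup G).map (QuotientGroup.mk' N))
    (hcomm : IsMulCommutative P') : AbelianPrincipal.Free P' := by
  refine ⟨hcomm, fun y hy hy1 => le_antisymm ?_ fun g hg =>
    ⟨Subgroup.mem_centralizer_singleton_iff.mpr (Subgroup.mem_centralizer_iff.mp hg y hy).symm,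
      Subgroup.centralizer_le_normalizer _ hg⟩⟩
  rintro g ⟨hgy, hgN⟩
  rw [hP'] at hy hgN ⊢
  obtain ⟨a, ha, rfl⟩ := hy
  rw [SetLike.mem_coe, ← map_normalizer] at hgN
  obtain ⟨n, hn, rfl⟩ := hgN
  have ha1 : a ≠ 1 := fun h0 => hy1 (by rw [h0, map_one])
  have h1 : n * a * n⁻¹ * a⁻¹ ∈ N := by
    rw [← QuotientGroup.eq_one_iff]
    show QuotientGroup.mk' N (n * a * n⁻¹ * a⁻¹) = 1
    rw [map_mul, map_mul, map_mul, map_inv, map_inv,
      Subgroup.mem_centralizer_singleton_iff.mp hgy]
    group
  have h2 := eq_one_of_mem_core P N hN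
    (mul_mem ((Subgroup.mem_normalizer_iff.mp hn a).mp ha) (inv_mem ha)) h1
  rw [mul_inv_eq_one, mul_inv_eq_iff_eq_mul] at h2
  have hnC : n ∈ Subgroup.centralizer ((P : Subgroup G) : Set G) := by
    rw [← h.cent a ha ha1]
    exact ⟨Subgroup.mem_centralizer_singleton_iff.mpr h2, hn⟩
  refine Subgroup.mem_centralizer_iff.mpr ?_
  rintro _ ⟨b, hb, rfl⟩
  rw [← map_mul, ← map_mul, Subgroup.mem_centralizer_iff.mp hnC b hb]

variable {M : Ideal AlgInt}

/-- The counts for a given Sylow subgroup containing the involution. -/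
theorem count_of_involution (hM : IsPModular 2 M) (P : Sylow 2 G) (hab : IsMulCommutative P) {x : G}
    (hx : orderOf x = 2) (hxP : x ∈ (P : Subgroup G))
    (hl : blockRank 2 (principalBlock M ↥(Subgroup.centralizer ({x} : Set G))) = 1) :
    (Nat.card P = 8 → Nat.card (principalBlock M G) = 8) ∧
      (Nat.card P = 16 → Nat.card (principalBlock M G) = 8 ∨ Nat.card (principalBlock M G) = 16) := by
  haveI : Fact (Nat.Prime 2) := ⟨Nat.prime_two⟩
  have hx1 : x ≠ 1 := fun h0 => by rw [h0, orderOf_one] at hx; omega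
  have hP1 : (P : Subgroup G) ≠ ⊥ := fun h0 => hx1 (Subgroup.mem_bot.mp (h0 ▸ hxP))
  letI : CommGroup (P : Subgroup G) :=
    { (inferInstance : Group (P : Subgroup G)) with mul_comm := hab.is_comm.comm }
  set Om := (powMonoidHom 2 : (P : Subgroup G) →* (P : Subgroup G)).ker with hOm
  have hxx : x * x = 1 := by
    have h2 := pow_orderOf_eq_one x
    rwa [hx, pow_two] at h2
  have hfix : ∀ n ∈ Subgroup.normalizer ((P : Subgroup G) : Set G), n * x * n⁻¹ = x →
      n ∈ Subgroup.centralizer ((P : Subgroup G) : Set G) := fun n hn h =>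
    normalizer_fixed hM P hab hxP hl hn (mul_inv_eq_iff_eq_mul.mp h)
  -- the orbit of `x`
  set N := Subgroup.normalizer ((P : Subgroup G) : Set G) with hNdef
  set Cn := (Subgroup.centralizer ((P : Subgroup G) : Set G)).subgroupOf N with hCn
  have hmemOm : ∀ n : N, (⟨(n : G) * x * (n : G)⁻¹, (Subgroup.mem_normalizer_iff.mp n.2 x).mp hxP⟩ :
      (P : Subgroup G)) ∈ Om := fun n => by
    rw [hOm, MonoidHom.mem_ker, powMonoidHom_apply]
    refine Subtype.ext ?_
    show ((n : G) * x * (n : G)⁻¹) ^ 2 = 1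
    rw [conj_pow, pow_two x, hxx]
    group
  let orb : N ⧸ Cn → {a : Om // a ≠ 1} :=
    Quotient.lift (s := QuotientGroup.leftRel Cn) (fun n => ⟨⟨_, hmemOm n⟩, fun h0 => hx1 (by
      have h1 : (n : G) * x * (n : G)⁻¹ = 1 := congrArg (fun a : Om => ((a : (P : Subgroup G)) : G)) h0
      rwa [mul_inv_eq_one, mul_eq_left] at h1)⟩) (fun n m hnm => by
      have h1 := Subgroup.mem_centralizer_iff.mp
        (show ((n⁻¹ * m : N) : G) ∈ Subgroup.centralizer ((P : Subgroup G) : Set G) from
          (QuotientGroup.leftRel_apply (s := Cn)).mp hnm) x hxP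
      refine Subtype.ext (Subtype.ext (Subtype.ext ?_))
      show (n : G) * x * (n : G)⁻¹ = (m : G) * x * (m : G)⁻¹
      have h2 : x * ((n : G)⁻¹ * m) = (n : G)⁻¹ * m * x := h1
      calc (n : G) * x * (n : G)⁻¹ = (n : G) * (x * ((n : G)⁻¹ * m)) * (m : G)⁻¹ := by group
        _ = (m : G) * x * (m : G)⁻¹ := by rw [h2]; group)
  have horb : Function.Injective orb := by
    intro a b hab'
    induction a using Quotient.inductionOn with
    | _ n =>
    induction b using Quotient.inductionOn with
    | _ m =>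
    have h1 : (n : G) * x * (n : G)⁻¹ = (m : G) * x * (m : G)⁻¹ :=
      congrArg (fun a : {a : Om // a ≠ 1} => (((a : Om) : (P : Subgroup G)) : G)) hab'
    refine Quotient.sound (QuotientGroup.leftRel_apply.mpr ?_)
    refine hfix _ (n⁻¹ * m : N).2 ?_
    show (n : G)⁻¹ * m * x * ((n : G)⁻¹ * m)⁻¹ = x
    calc (n : G)⁻¹ * m * x * ((n : G)⁻¹ * m)⁻¹ = (n : G)⁻¹ * ((m : G) * x * (m : G)⁻¹) * n := by group
      _ = x := by rw [← h1]; group
  set e := (Subgroup.centralizer ((P : Subgroup G) : Set G)).relIndex N with hedef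
  haveI : Fintype Om := Fintype.ofFinite _
  have hcardOm : Nat.card {a : Om // a ≠ 1} = Nat.card Om - 1 := by
    rw [Nat.card_eq_fintype_card, Fintype.card_subtype_compl, Fintype.card_subtype_eq,
      Nat.card_eq_fintype_card]
  have hecard : e = Nat.card (N ⧸ Cn) := rfl
  have hle : e ≤ Nat.card Om - 1 := by
    rw [hecard, ← hcardOm]
    exact Nat.card_le_card_of_injective orb horb
  have hOmd : Nat.card Om ∣ Nat.card P := Subgroup.card_subgroup_dvd_card Om
  have hPC : (P : Subgroup G) ≤ Subgroup.centralizer ((P : Subgroup G) : Set G) := fun a ha =>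
    Subgroup.mem_centralizer_iff.mpr fun b hb => congrArg Subtype.val (hab.is_comm.comm ⟨b, hb⟩ ⟨a, ha⟩)
  have hodd : ¬ 2 ∣ e := fun hd => P.not_dvd_index ((hd.trans
    (Subgroup.relIndex_dvd_of_le_left N hPC)).trans
      (Subgroup.relIndex_dvd_index_of_le Subgroup.le_normalizer))
  have he0 : e ≠ 0 := fun h0 => hodd (by rw [h0]; exact dvd_zero 2)
  have hOmP : Nat.card Om ≤ Nat.card P := Nat.le_of_dvd Nat.card_pos hOmd
  -- no automorphisms
  have hone : e = 1 → Nat.card (principalBlock M G) = Nat.card P := fun h1 => by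
    have hfree : AbelianPrincipal.Free P := ⟨hab, fun y hy _ => le_antisymm
      (fun g hg => Subgroup.relIndex_eq_one.mp h1 hg.2) fun g hg =>
      ⟨Subgroup.mem_centralizer_singleton_iff.mpr (Subgroup.mem_centralizer_iff.mp hg y hy).symm,
        Subgroup.centralizer_le_normalizer _ hg⟩⟩
    obtain ⟨-, hc, hsmall⟩ := block_count P hM hfree hP1
    rw [← hNdef, ← hedef] at hc hsmall
    rw [hsmall (by omega), h1] at hc
    have : 0 < Nat.card P := Nat.card_pos
    omega
  have hprime : e.Prime → (Nat.card P = 8 → Nat.card (principalBlock M G) = 8) ∧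
      (Nat.card P = 16 → Nat.card (principalBlock M G) = 8 ∨ Nat.card (principalBlock M G) = 16) := by
    intro hep
    obtain ⟨-, m, q, hmq, hq1, hdq, hk, -⟩ := structure_prime hM P hab hep
    rw [← hNdef, ← hedef] at hdq hk
    have he3 : 3 ≤ e := by
      have := hep.two_le
      have : e ≠ 2 := fun h2 => hodd (by rw [h2])
      omega
    have hle' : e ≤ q - 1 := Nat.le_of_dvd (by omega) hdq
    refine ⟨fun h8 => ?_, fun h16 => ?_⟩
    · rw [h8] at hmq
      have hqd : q ∈ Nat.divisors 8 := Nat.mem_divisors.mpr ⟨⟨m, by rw [hmq, mul_comm]⟩, by norm_num⟩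
      rw [show Nat.divisors 8 = {1, 2, 4, 8} by decide] at hqd
      simp only [Finset.mem_insert, Finset.mem_singleton] at hqd
      rw [hk]
      rcases hqd with rfl | rfl | rfl | rfl
      · omega
      · omega
      · have he_ : e = 3 := by omega
        rw [he_]; omega
      · have : e ∈ Nat.divisors 7 := Nat.mem_divisors.mpr ⟨hdq, by norm_num⟩
        rw [show Nat.divisors 7 = {1, 7} by decide] at this
        simp only [Finset.mem_insert, Finset.mem_singleton] at this
        have he_ : e = 7 := by omega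
        rw [he_]; omega
    · rw [h16] at hmq
      have hqd : q ∈ Nat.divisors 16 := Nat.mem_divisors.mpr ⟨⟨m, by rw [hmq, mul_comm]⟩, by norm_num⟩
      rw [show Nat.divisors 16 = {1, 2, 4, 8, 16} by decide] at hqd
      simp only [Finset.mem_insert, Finset.mem_singleton] at hqd
      rw [hk]
      rcases hqd with rfl | rfl | rfl | rfl | rfl
      · omega
      · omega
      · have he_ : e = 3 := by omega
        rw [he_]; omega
      · have : e ∈ Nat.divisors 7 := Nat.mem_divisors.mpr ⟨hdq, by norm_num⟩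
        rw [show Nat.divisors 7 = {1, 7} by decide] at this
        simp only [Finset.mem_insert, Finset.mem_singleton] at this
        have he_ : e = 7 := by omega
        rw [he_]; omega
      · have : e ∈ Nat.divisors 15 := Nat.mem_divisors.mpr ⟨hdq, by norm_num⟩
        rw [show Nat.divisors 15 = {1, 3, 5, 15} by decide] at this
        simp only [Finset.mem_insert, Finset.mem_singleton] at this
        rcases this with h | h | h | h
        · omega
        · rw [h]; omega
        · rw [h]; omega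
        · exact absurd (h ▸ hep) (by norm_num)
  constructor
  · intro h8
    have h7 : e ≤ 7 := by omega
    obtain h | h : e = 1 ∨ e.Prime := by
      have : e = 1 ∨ e = 3 ∨ e = 5 ∨ e = 7 := by omega
      rcases this with h | h | h | h
      · exact Or.inl h
      all_goals exact Or.inr (by rw [h]; norm_num)
    · rw [hone h, h8]
    · exact (hprime h).1 h8
  intro h16
  have h15 : e ≤ 15 := by omega
  by_cases he9 : e = 9 ∨ e = 15
  · have hOm16 : Nat.card Om = Nat.card P := by
      obtain ⟨c, hc⟩ := hOmd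
      rw [h16] at hc ⊢
      rcases c with _ | _ | c
      · omega
      · omega
      · have : Nat.card Om * 2 ≤ 16 := by
          rw [hc]; exact Nat.mul_le_mul_left _ (by omega)
        omega
    have hOmtop : Om = ⊤ := Subgroup.eq_top_of_card_eq _ hOm16
    have hel : ∀ a : (P : Subgroup G), a ^ 2 = 1 := fun a => by
      have : a ∈ Om := hOmtop ▸ Subgroup.mem_top a
      exact MonoidHom.mem_ker.mp this
    rcases he9 with h9 | h15'
    · exact Or.inr (S4569.result M hM P h16 hel h9).1
    · refine Or.inr ?_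
      have hsurj : Function.Surjective orb :=
        (horb.bijective_of_nat_card_le (by rw [hcardOm, ← hecard, h15', hOm16, h16])).2
      have hfree : AbelianPrincipal.Free P := ⟨hab, fun y hy hy1 => le_antisymm (fun g hg => by
          obtain ⟨q, hq⟩ := hsurj ⟨⟨⟨y, hy⟩, hOmtop ▸ Subgroup.mem_top _⟩, fun h0 =>
            hy1 (congrArg (fun a : Om => ((a : (P : Subgroup G)) : G)) h0)⟩
          induction q using Quotient.inductionOn with
          | _ n =>
          have hny : (n : G) * x * (n : G)⁻¹ = y :=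
            congrArg (fun a : {a : Om // a ≠ 1} => (((a : Om) : (P : Subgroup G)) : G)) hq
          have hgy : g * y = y * g := Subgroup.mem_centralizer_singleton_iff.mp hg.1
          have hgN : g ∈ N := hg.2
          have h1 := hfix ((n : G)⁻¹ * g * n) (mul_mem (mul_mem (inv_mem n.2) hgN) n.2) (by
            calc (n : G)⁻¹ * g * n * x * ((n : G)⁻¹ * g * n)⁻¹
                = (n : G)⁻¹ * (g * ((n : G) * x * (n : G)⁻¹)) * g⁻¹ * n := by group
              _ = x := by rw [hny, hgy, ← hny]; group)
          refine Subgroup.mem_centralizer_iff.mpr fun b hb => ?_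
          have hb' := (Subgroup.mem_normalizer_iff''.mp n.2 b).mp hb
          have h2 := Subgroup.mem_centralizer_iff.mp h1 _ hb'
          calc b * g = (n : G) * (((n : G)⁻¹ * b * n) * ((n : G)⁻¹ * g * n)) * (n : G)⁻¹ := by group
            _ = (n : G) * (((n : G)⁻¹ * g * n) * ((n : G)⁻¹ * b * n)) * (n : G)⁻¹ := by rw [h2]
            _ = g * b := by group) fun g hg =>
        ⟨Subgroup.mem_centralizer_singleton_iff.mpr (Subgroup.mem_centralizer_iff.mp hg y hy).symm,
          Subgroup.centralizer_le_normalizer _ hg⟩⟩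
      haveI := Fintype.ofFinite (G ⧸ pPrimeCore 2 G)
      obtain ⟨P', hP', hcard, hcomm, hrel, hO, hk, -, -⟩ := exists_core_reduction hM P
      have hNodd : ¬ 2 ∣ Nat.card (pPrimeCore 2 G) :=
        Nat.prime_two.coprime_iff_not_dvd.mp Thompson.card_pPrimeCore_coprime.symm
      have hfree' := free_quotient P hfree _ hNodd P' hP' (hcomm hab)
      have hP1' : (P' : Subgroup (G ⧸ pPrimeCore 2 G)) ≠ ⊥ := fun h0 => by
        have := Subgroup.eq_bot_iff_card _ |>.mp h0
        omega
      rw [← hNdef, ← hedef, h15'] at hrel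
      set N' := Subgroup.normalizer ((P' : Subgroup (G ⧸ pPrimeCore 2 G)) : Set (G ⧸ pPrimeCore 2 G))
        with hN'
      haveI hn' : ((Subgroup.centralizer ((P' : Subgroup (G ⧸ pPrimeCore 2 G)) :
          Set (G ⧸ pPrimeCore 2 G))).subgroupOf N').Normal :=
        Subgroup.normal_subgroupOf_of_le_normalizer fun g hg =>
          BC85.normalizer_le_normalizer_centralizer _ hg
      have hab' : ∀ g ∈ N', ∀ k ∈ N', g * k * g⁻¹ * k⁻¹ ∈
          Subgroup.centralizer ((P' : Subgroup (G ⧸ pPrimeCore 2 G)) : Set (G ⧸ pPrimeCore 2 G)) := by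
        intro g hg k hk
        set D := (Subgroup.centralizer ((P' : Subgroup (G ⧸ pPrimeCore 2 G)) :
          Set (G ⧸ pPrimeCore 2 G))).subgroupOf N'
        have h1 : ((⟨g, hg⟩ * ⟨k, hk⟩ * ⟨g, hg⟩⁻¹ * ⟨k, hk⟩⁻¹ : N') : N' ⧸ D) = 1 := by
          simp only [QuotientGroup.mk_mul, QuotientGroup.mk_inv]
          rw [comm_of_card_fifteen hrel ((⟨g, hg⟩ : N') : N' ⧸ D) ((⟨k, hk⟩ : N') : N' ⧸ D)]
          group
        exact (QuotientGroup.eq_one_iff (⟨g, hg⟩ * ⟨k, hk⟩ * ⟨g, hg⟩⁻¹ * ⟨k, hk⟩⁻¹ : N')).mp h1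
      obtain ⟨hl', -⟩ := free_five hM P' hfree' hP1' hO (by rw [← hN', hrel]; norm_num) hab'
      obtain ⟨-, hc, -⟩ := block_count P' hM hfree' hP1'
      rw [hl', ← hN', hrel, hcard, h16] at hc
      omega
  · obtain h | h : e = 1 ∨ e.Prime := by
      have : e = 1 ∨ e = 3 ∨ e = 5 ∨ e = 7 ∨ e = 11 ∨ e = 13 := by omega
      rcases this with h | h | h | h | h | h
      · exact Or.inl h
      all_goals exact Or.inr (by rw [h]; norm_num)
    · rw [hone h, h16]; exact Or.inr rfl
    · exact (hprime h).2 h16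

/-- The counts. -/
theorem count_main (hM : IsPModular 2 M) (P : Sylow 2 G) (hab : IsMulCommutative P) {x : G}
    (hx : orderOf x = 2)
    (hl : blockRank 2 (principalBlock M ↥(Subgroup.centralizer ({x} : Set G))) = 1) :
    (Nat.card P = 8 → Nat.card (principalBlock M G) = 8) ∧
      (Nat.card P = 16 → Nat.card (principalBlock M G) = 8 ∨ Nat.card (principalBlock M G) = 16) := by
  haveI : Fact (Nat.Prime 2) := ⟨Nat.prime_two⟩
  obtain ⟨T, hT⟩ := (IsPGroup.of_card (n := 1) (by rw [Nat.card_zpowers, hx, pow_one]) :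
    IsPGroup 2 (Subgroup.zpowers x)).exists_le_sylow
  have e := Sylow.equiv T P
  have hT' : IsMulCommutative T := ⟨⟨fun a b => e.injective (by
    rw [map_mul, map_mul]; exact hab.is_comm.comm _ _)⟩⟩
  have hc : Nat.card T = Nat.card P := Nat.card_congr e.toEquiv
  rw [← hc]
  exact count_of_involution hM T hT' hx (hT (Subgroup.mem_zpowers x)) hl

end Cfsg.Agent.BC84.FreeAuto
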