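import Cfsg.Agent.Lib.BlocksCore.AbelianPrincipal
import Cfsg.Agent.Lib.Thompson.Cores
import Cfsg.Agent.PF14.Compose
import Cfsg.Agent.Signal38.Basic
import Cfsg.Agent.SFT45.Final

/-!
# An abelian Sylow 2-subgroup with fixed-point-free automizer: the local structure
-/

set_option autoImplicit false
set_option linter.unusedSectionVars false
set_option linter.style.haveILetI false

namespace Cfsg.Agent.BC84.FreeAuto

open Cfsg BlocksCore Subgroup
open scoped Classical

universe u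

variable {G : Type u} [Group G] [Fintype G]

theorem not_two_dvd_of_dvd {a b : ℕ} (h : a ∣ b) (hb : ¬ 2 ∣ b) : ¬ 2 ∣ a := fun h2 => hb (h2.trans h)

theorem eq_one_of_sq {g : G} (h : g * g = 1) (hodd : ¬ 2 ∣ orderOf g) : g = 1 := by
  rcases (Nat.dvd_prime Nat.prime_two).mp (orderOf_dvd_of_pow_eq_one (by rw [pow_two]; exact h) :
    orderOf g ∣ 2) with h1 | h1
  · exact orderOf_eq_one_iff.mp h1
  · exact absurd h1.symm.dvd hodd

theorem orderOf_conj (c g : G) : orderOf (c * g * c⁻¹) = orderOf g := by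
  rw [← MulAut.conj_apply, MulEquiv.orderOf_eq]

variable (P : Sylow 2 G)

local notation "N(P)" => Subgroup.normalizer ((P : Subgroup G) : Set G)
local notation "C(P)" => Subgroup.centralizer ((P : Subgroup G) : Set G)

theorem eq_one_of_mem_odd {g : G} (hg : g ∈ (P : Subgroup G)) (hodd : ¬ 2 ∣ orderOf g) : g = 1 := by
  obtain ⟨k, hk⟩ := IsPGroup.iff_orderOf.mp P.2 ⟨g, hg⟩
  rw [Subgroup.orderOf_mk] at hk
  rcases Nat.eq_zero_or_pos k with rfl | hk0
  · exact orderOf_eq_one_iff.mp (by simpa using hk)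
  · exact absurd (hk ▸ dvd_pow_self 2 hk0.ne') hodd

variable (h : AbelianPrincipal.Free P)
include h

theorem le_centralizer_singleton {y : G} (hy : y ∈ (P : Subgroup G)) :
    (P : Subgroup G) ≤ centralizer ({y} : Set G) := fun a ha =>
  mem_centralizer_singleton_iff.mpr (h.comm' a ha y hy)

theorem le_centralizer_self : (P : Subgroup G) ≤ C(P) := fun a ha =>
  mem_centralizer_iff.mpr fun b hb => h.comm' b hb a ha

/-- The normal 2-complement of the centralizer of `y ∈ P`. -/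
theorem exists_kernel {y : G} (hy : y ∈ (P : Subgroup G)) (hy1 : y ≠ 1) :
    ∃ K : Subgroup (centralizer ({y} : Set G)), K.Normal ∧ ¬ 2 ∣ Nat.card K ∧
      (∀ x, ¬ 2 ∣ orderOf x → x ∈ K) ∧ K.index = Nat.card P :=
  SectionKernel.exists_kernel P h.comm' hy fun n hn hc => h.cent y hy hy1 ▸ ⟨hc, hn⟩

omit h in
/-- The elements of odd order centralizing `y`. -/
def oddCent (y : G) : Subgroup G :=
  closure {g | Commute g y ∧ ¬ 2 ∣ orderOf g}

theorem oddCent_spec {y : G} (hy : y ∈ (P : Subgroup G)) (hy1 : y ≠ 1) :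
    (∀ g, g ∈ oddCent y ↔ Commute g y ∧ ¬ 2 ∣ orderOf g) ∧ ¬ 2 ∣ Nat.card (oddCent y) ∧
      (∃ K : Subgroup (centralizer ({y} : Set G)), K.Normal ∧ K.map (centralizer ({y} : Set G)).subtype
        = oddCent y) ∧
      Nat.card (centralizer ({y} : Set G)) = Nat.card P * Nat.card (oddCent y) := by
  obtain ⟨K, hKn, hKodd, hreg, hidx⟩ := exists_kernel P h hy hy1
  have hmem : ∀ g, g ∈ K.map (centralizer ({y} : Set G)).subtype ↔
      Commute g y ∧ ¬ 2 ∣ orderOf g := by
    intro g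
    constructor
    · rintro ⟨x, hx, rfl⟩
      refine ⟨mem_centralizer_singleton_iff.mp x.2, ?_⟩
      rw [orderOf_injective _ (subtype_injective _) x]
      exact not_two_dvd_of_dvd (Subgroup.orderOf_dvd_natCard K hx) hKodd
    · rintro ⟨hc, ho⟩
      exact ⟨⟨g, mem_centralizer_singleton_iff.mpr hc⟩, hreg _ (by rwa [Subgroup.orderOf_mk]), rfl⟩
  have heq : oddCent y = K.map (centralizer ({y} : Set G)).subtype := by
    rw [oddCent, show {g | Commute g y ∧ ¬ 2 ∣ orderOf g} =
      ((K.map (centralizer ({y} : Set G)).subtype : Subgroup G) : Set G) from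
        Set.ext fun g => (hmem g).symm, closure_eq]
  have hcard : Nat.card (oddCent y) = Nat.card K := by
    rw [heq]
    exact (Nat.card_congr (K.equivMapOfInjective _ (subtype_injective _)).toEquiv).symm
  refine ⟨fun g => heq ▸ hmem g, hcard ▸ hKodd, ⟨K, hKn, heq.symm⟩, ?_⟩
  rw [hcard, ← hidx, mul_comm, Subgroup.card_mul_index]

/-- `C(y) = P * oddCent y`. -/
theorem exists_decomp {y : G} (hy : y ∈ (P : Subgroup G)) (hy1 : y ≠ 1) {g : G}
    (hg : Commute g y) : ∃ b ∈ (P : Subgroup G), ∃ c ∈ oddCent y, g = b * c := by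
  obtain ⟨-, hodd, ⟨K, hKn, hK⟩, hcard⟩ := oddCent_spec P h hy hy1
  have hPC := le_centralizer_singleton P h hy
  have hdis : Disjoint ((P : Subgroup G).subgroupOf (centralizer ({y} : Set G))) K := by
    refine disjoint_def.mpr fun {x} hx hxK => Subtype.ext (eq_one_of_mem_odd P hx ?_)
    exact not_two_dvd_of_dvd
      (Subgroup.orderOf_dvd_natCard (oddCent y) (hK.le ⟨x, hxK, rfl⟩)) hodd
  have hc : IsComplement' ((P : Subgroup G).subgroupOf (centralizer ({y} : Set G))) K := by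
    refine isComplement'_of_card_mul_and_disjoint ?_ hdis
    rw [Nat.card_congr (subgroupOfEquivOfLe hPC).toEquiv, hcard,
      ← hK, Nat.card_congr (K.equivMapOfInjective _ (subtype_injective _)).toEquiv]
  obtain ⟨⟨⟨b, hb⟩, ⟨c, hc'⟩⟩, hbc, -⟩ :=
    hc.existsUnique (⟨g, mem_centralizer_singleton_iff.mpr hg⟩ : centralizer ({y} : Set G))
  exact ⟨(b : G), hb, (c : G), hK.le ⟨c, hc', rfl⟩, (congrArg Subtype.val hbc).symm⟩

omit h in
theorem oddCent_map (n y : G) :
    (oddCent y).map (MulAut.conj n).toMonoidHom = oddCent (n * y * n⁻¹) := by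
  rw [oddCent, oddCent, MonoidHom.map_closure]
  congr 1
  ext g
  simp only [Set.mem_image, Set.mem_ofPred_eq, MulEquiv.coe_toMonoidHom, MulAut.conj_apply]
  constructor
  · rintro ⟨x, ⟨hc, ho⟩, rfl⟩
    exact ⟨by simpa [MulAut.conj_apply] using hc.map (MulAut.conj n), by rwa [orderOf_conj]⟩
  · rintro ⟨hc, ho⟩
    refine ⟨n⁻¹ * g * n, ⟨?_, ?_⟩, by group⟩
    · have := hc.map (MulAut.conj n⁻¹)
      simpa [MulAut.conj_apply, mul_assoc] using this
    · have := orderOf_conj n⁻¹ g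
      rw [inv_inv] at this
      rwa [this]

theorem isSolvable_centralizer {y : G} (hy : y ∈ (P : Subgroup G)) (hy1 : y ≠ 1) :
    Group.IsSolvable (centralizer ({y} : Set G)) := by
  haveI : Fact (Nat.Prime 2) := ⟨Nat.prime_two⟩
  obtain ⟨K, hKn, hKodd, hreg, hidx⟩ := exists_kernel P h hy hy1
  haveI : Group.IsSolvable K := PF14.feitThompson K
    (Nat.not_even_iff_odd.mp fun hev => hKodd (even_iff_two_dvd.mp hev))
  obtain ⟨k, hk⟩ := IsPGroup.iff_card.mp P.2
  have hq : IsPGroup 2 (centralizer ({y} : Set G) ⧸ K) :=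
    IsPGroup.of_card (n := k) (hidx.trans hk)
  haveI := hq.isNilpotent
  exact Group.isSolvable_of_ker_le_range K.subtype (QuotientGroup.mk' K) (by simp)

omit h in
/-- The elements of `P` of order dividing two. -/
def Om (h : AbelianPrincipal.Free P) : Subgroup G where
  carrier := {a | a ∈ (P : Subgroup G) ∧ a * a = 1}
  one_mem' := ⟨one_mem _, one_mul 1⟩
  mul_mem' := fun {a b} ha hb => ⟨mul_mem ha.1 hb.1, by
    calc a * b * (a * b) = a * (b * a) * b := by group
      _ = a * (a * b) * b := by rw [h.comm' b hb.1 a ha.1]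
      _ = (a * a) * (b * b) := by group
      _ = 1 := by rw [ha.2, hb.2, one_mul]⟩
  inv_mem' := fun {a} ha => ⟨inv_mem ha.1, by rw [← mul_inv_rev, ha.2, inv_one]⟩

theorem mem_Om {a : G} : a ∈ Om P h ↔ a ∈ (P : Subgroup G) ∧ a * a = 1 := Iff.rfl

theorem orderOf_Om {a : G} (ha : a ∈ Om P h) (ha1 : a ≠ 1) : orderOf a = 2 :=
  orderOf_eq_prime (by rw [pow_two]; exact ha.2) ha1

theorem elementary_Om : IsElementaryAbelian 2 (Om P h) :=
  ⟨⟨⟨fun a b => Subtype.ext (h.comm' a a.2.1 b b.2.1)⟩⟩, fun a ha => by rw [pow_two]; exact ha.2⟩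

theorem conj_mem_Om {n : G} (hn : n ∈ N(P)) {a : G} (ha : a ∈ Om P h) : n * a * n⁻¹ ∈ Om P h :=
  ⟨(mem_normalizer_iff.mp hn a).mp ha.1, by rw [conj_mul, ha.2, mul_one, mul_inv_cancel]⟩

/-- An element of `P` of order two lies in every nontrivial subgroup of `P`. -/
theorem exists_Om_ne_one {y : G} (hy : y ∈ (P : Subgroup G)) (hy1 : y ≠ 1) :
    ∃ a ∈ Subgroup.zpowers y, a ∈ Om P h ∧ a ≠ 1 := by
  obtain ⟨k, hk⟩ := IsPGroup.iff_orderOf.mp P.2 ⟨y, hy⟩
  rw [Subgroup.orderOf_mk] at hk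
  obtain ⟨j, rfl⟩ : ∃ j, k = j + 1 := Nat.exists_eq_succ_of_ne_zero fun h0 =>
    hy1 (orderOf_eq_one_iff.mp (by simpa [h0] using hk))
  refine ⟨y ^ 2 ^ j, pow_mem (mem_zpowers y) _, ⟨pow_mem hy _, ?_⟩, fun he => ?_⟩
  · rw [← pow_add, ← two_mul, ← pow_succ', ← hk, pow_orderOf_eq_one]
  · have hle := Nat.le_of_dvd (pow_pos two_pos j) (orderOf_dvd_of_pow_eq_one he)
    rw [hk, pow_succ] at hle
    have := pow_pos (two_pos : (0:ℕ) < 2) j
    omega

omit h in
/-- The subgroup generated by the elements of odd order centralizing some involution of `P`. -/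
def Wsub (h : AbelianPrincipal.Free P) : Subgroup G :=
  closure {g | ¬ 2 ∣ orderOf g ∧ ∃ a ∈ Om P h, a ≠ 1 ∧ Commute g a}

theorem oddCent_le_Wsub {y : G} (hy : y ∈ (P : Subgroup G)) (hy1 : y ≠ 1) :
    oddCent y ≤ Wsub P h := by
  obtain ⟨a, hay, ha, ha1⟩ := exists_Om_ne_one P h hy hy1
  rw [oddCent, closure_le]
  rintro g ⟨hgy, ho⟩
  obtain ⟨i, rfl⟩ := mem_zpowers_iff.mp hay
  exact subset_closure ⟨ho, _, ha, ha1, hgy.zpow_right i⟩

/-- The signalizer functor theorem: `Wsub` has odd order. -/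
theorem Wsub_odd (h8 : 8 ≤ Nat.card (Om P h)) : ¬ 2 ∣ Nat.card (Wsub P h) := by
  haveI : Fact (Nat.Prime 2) := ⟨Nat.prime_two⟩
  have hθ := Signal38.isSolvableSignalizerFunctor_centralizerPPrimeCore (p := 2) (elementary_Om P h)
    (fun a ha ha1 => isSolvable_centralizer P h ha.1 ha1)
  obtain ⟨W0, hW0, hle⟩ := SFT45.completable_of_odd (p := 2) (elementary_Om P h)
    (by simpa using h8) hθ fun a ha ha1 => by
      rw [← Nat.not_even_iff_odd, even_iff_two_dvd]
      exact hθ.1.2.1 a ha ha1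
  refine not_two_dvd_of_dvd (Subgroup.card_dvd_of_le ?_) hW0.2.1
  rw [Wsub, closure_le]
  rintro g ⟨ho, a, ha, ha1, hga⟩
  obtain ⟨hiff, hodd, ⟨K, hKn, hK⟩, -⟩ := oddCent_spec P h ha.1 ha1
  refine hle a ha ha1 ?_
  have hKle : K ≤ pPrimeCore 2 (centralizer ({a} : Set G)) := by
    refine Thompson.le_pPrimeCore hKn ((Nat.prime_two.coprime_iff_not_dvd.mpr ?_).symm)
    rwa [Nat.card_congr (K.equivMapOfInjective _ (subtype_injective _)).toEquiv, hK]
  have hg : g ∈ oddCent a := (hiff g).mpr ⟨hga, ho⟩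
  rw [← hK] at hg
  exact Subgroup.map_mono hKle hg

theorem Wsub_conj {n : G} (hn : ∀ a ∈ Om P h, n * a * n⁻¹ ∈ Om P h) {w : G} (hw : w ∈ Wsub P h) :
    n * w * n⁻¹ ∈ Wsub P h := by
  suffices (Wsub P h).map (MulAut.conj n).toMonoidHom ≤ Wsub P h from
    this ⟨w, hw, by simp⟩
  rw [Wsub, MonoidHom.map_closure, closure_le]
  rintro _ ⟨g, ⟨ho, a, ha, ha1, hga⟩, rfl⟩
  refine subset_closure ⟨?_, n * a * n⁻¹, hn a ha, conj_eq_one_iff.not.mpr ha1, ?_⟩
  · simpa [MulAut.conj_apply, orderOf_conj] using ho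
  · simpa [MulAut.conj_apply] using hga.map (MulAut.conj n)

theorem normalizer_le_normalizer_Wsub : N(P) ≤ normalizer ((Wsub P h : Subgroup G) : Set G) := by
  intro n hn
  refine mem_normalizer_iff.mpr fun w => ⟨fun hw => Wsub_conj P h (fun a => conj_mem_Om P h hn) hw,
    fun hw => ?_⟩
  have := Wsub_conj P h (fun a => conj_mem_Om P h (inv_mem hn)) hw
  simpa [mul_assoc] using this

variable [Fintype (P : Subgroup G)]

/-- The classes of nontrivial elements of `P` have the size of the automizer. -/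
theorem card_fusion {y : (P : Subgroup G)} (hy : y ≠ 1) :
    (Finset.univ.filter fun y' : (P : Subgroup G) => IsConj (y : G) (y' : G)).card =
      (C(P)).relIndex N(P) := by
  haveI : Fact (Nat.Prime 2) := ⟨Nat.prime_two⟩
  have h1 := AbelianPrincipal.sum_isConj h y hy (fun _ => (1 : ℂ))
  simp only [Finset.sum_boole, Finset.sum_const, Finset.card_univ, nsmul_eq_mul, mul_one,
    ← Nat.card_eq_fintype_card, AbelianPrincipal.natCard_normalizer, Nat.cast_mul] at h1
  have hc : (Nat.card C(P) : ℂ) ≠ 0 := Nat.cast_ne_zero.mpr Nat.card_pos.ne'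
  have h2 := mul_right_cancel₀ hc h1
  rw [Nat.cast_inj] at h2
  convert h2

/-- The size of the automizer divides the number of involutions of `P`. -/
theorem relIndex_dvd_card_Om : (C(P)).relIndex N(P) ∣ Nat.card (Om P h) - 1 := by
  set S := Finset.univ.filter fun y : (P : Subgroup G) => (y : G) ∈ Om P h ∧ y ≠ 1
  have hS : S.card = Nat.card (Om P h) - 1 := by
    have e : Nat.card (Om P h) = (Finset.univ.filter fun y : (P : Subgroup G) =>
        (y : G) ∈ Om P h).card := by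
      rw [← Nat.card_eq_finsetCard]
      exact Nat.card_congr
        { toFun := fun a => ⟨⟨a.1, a.2.1⟩, by simpa using a.2⟩
          invFun := fun y => ⟨y.1.1, (Finset.mem_filter.mp y.2).2⟩
          left_inv := fun a => rfl
          right_inv := fun y => rfl }
    rw [e, ← Finset.card_erase_of_mem (a := (1 : (P : Subgroup G))) (by simpa using (Om P h).one_mem)]
    congr 1
    ext y
    simp only [S, Finset.mem_filter, Finset.mem_univ, true_and, Finset.mem_erase]
    exact and_comm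
  rw [← hS, Finset.card_eq_sum_card_fiberwise (s := S)
    (t := S.image fun y : (P : Subgroup G) => ConjClasses.mk (y : G))
    (f := fun y : (P : Subgroup G) => ConjClasses.mk (y : G)) fun y hy => Finset.mem_image_of_mem _ hy]
  refine Finset.dvd_sum fun c hc => ?_
  obtain ⟨y, hyS, rfl⟩ := Finset.mem_image.mp hc
  obtain ⟨hyO, hy1⟩ := (Finset.mem_filter.mp hyS).2
  refine dvd_of_eq ((card_fusion P h hy1).symm.trans (congrArg Finset.card (Finset.ext fun z => ?_)))
  simp only [S, Finset.mem_filter, Finset.mem_univ, true_and, ConjClasses.mk_eq_mk_iff_isConj]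
  refine ⟨fun hz => ⟨⟨⟨z.2, ?_⟩, fun hz1 => hy1 (Subtype.ext ?_)⟩, hz.symm⟩, fun hz => hz.2.symm⟩
  · obtain ⟨c, hc⟩ := isConj_iff.mp hz
    rw [← hc, conj_mul, hyO.2, mul_one, mul_inv_cancel]
  · rw [hz1] at hz
    exact isConj_one_left.mp hz

/-- There are at least eight elements of order dividing two when the automizer is large. -/
theorem eight_le_card_Om (he : 5 ≤ (C(P)).relIndex N(P)) (hP : (P : Subgroup G) ≠ ⊥) :
    8 ≤ Nat.card (Om P h) := by
  have hd := relIndex_dvd_card_Om P h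
  obtain ⟨⟨y, hy⟩, hne⟩ := Subgroup.ne_bot_iff_exists_ne_one.mp hP
  have hy1 : y ≠ 1 := fun h0 => hne (Subtype.ext h0)
  obtain ⟨a, -, ha, ha1⟩ := exists_Om_ne_one P h hy hy1
  have hgt : 1 < Nat.card (Om P h) :=
    (Om P h).one_lt_card_iff_ne_bot.mpr fun h0 => ha1 (by simpa [h0] using ha)
  obtain ⟨k, hk⟩ := IsPGroup.iff_card.mp ((P.2).to_le (show Om P h ≤ P from fun a ha => ha.1))
  rcases Nat.lt_or_ge k 3 with hk3 | hk3
  · exfalso
    have := Nat.le_of_dvd (by omega) hd
    interval_cases k <;> omega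
  · exact hk ▸ le_trans (by norm_num) (Nat.pow_le_pow_right two_pos hk3)

end Cfsg.Agent.BC84.FreeAuto
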