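import Cfsg.Agent.BC86.Principal
import Cfsg.Agent.Lib.BlocksCore.PPart
import Cfsg.Agent.Lib.BlocksDefect.Quotient
import Cfsg.Agent.Lib.Thompson.Cores
import Cfsg.Agent.PF14.Compose
import Cfsg.Prelude.Def_BlockRank

/-!
# Passing to the quotient by the core
-/

set_option autoImplicit false
set_option linter.unusedSectionVars false
set_option linter.style.haveILetI false

namespace Cfsg.Agent.BC84.FreeAuto

open Cfsg BlocksCore BlocksDefect
open scoped Classical

universe u

variable {G : Type u} [Group G] [Fintype G] {M : Ideal AlgInt}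

theorem block_quotient (hM : IsPModular 2 M) (N : Subgroup G) [N.Normal] (hN : ¬ 2 ∣ Nat.card N) :
    Nat.card (principalBlock M (G ⧸ N)) = Nat.card (principalBlock M G) ∧
      blockRank 2 (principalBlock M (G ⧸ N)) = blockRank 2 (principalBlock M G) := by
  haveI : Fact (Nat.Prime 2) := ⟨Nat.prime_two⟩
  have := isPrime hM
  haveI := Fintype.ofFinite (G ⧸ N)
  let o : IrrCharacter (G ⧸ N) := ⟨fun _ => 1, CharCore.isIrrCharacter_one⟩
  have hbij : Set.BijOn (BlocksDefect.inflate N) (principalBlock M (G ⧸ N)) (principalBlock M G) := by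
    refine ⟨fun ψ hψ => BlocksDefect.sameBlock_inflate N hM (χ := o) hψ, ?_, ?_⟩
    · intro a _ b _ he
      refine Subtype.ext (funext fun q => ?_)
      obtain ⟨g, rfl⟩ := QuotientGroup.mk_surjective q
      exact congrFun (congrArg Subtype.val he) g
    · intro χ hχ
      have hk := BlocksDefect.kernel_of_sameBlock hM
        (χ := (⟨fun _ => 1, CharCore.isIrrCharacter_one⟩ : IrrCharacter G)) hχ N hN (fun n _ => rfl)
      obtain ⟨ψ, rfl⟩ := BlocksDefect.exists_inflate_eq N χ hk
      exact ⟨ψ, BlocksDefect.sameBlock_of_inflate_pPrime hM hN (χ := o) hχ, rfl⟩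
  refine ⟨Nat.card_congr (Set.BijOn.equiv _ hbij), ?_⟩
  let L : (G ⧸ N → ℂ) →ₗ[ℂ] (G → ℂ) :=
    { toFun := fun f => fun g => if IsPRegular 2 g then f (g : G ⧸ N) else 0
      map_add' := fun f f' => funext fun g => by
        simp only [Pi.add_apply]
        split_ifs <;> simp
      map_smul' := fun c f => funext fun g => by
        simp only [Pi.smul_apply, smul_eq_mul, RingHom.id_apply]
        split_ifs <;> simp }
  have hL : ∀ ψ : IrrCharacter (G ⧸ N), L (pRegularPart 2 (ψ : G ⧸ N → ℂ)) =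
      pRegularPart 2 (BlocksDefect.inflate N ψ : G → ℂ) := fun ψ => funext fun g => by
    show (if IsPRegular 2 g then pRegularPart 2 (ψ : G ⧸ N → ℂ) (g : G ⧸ N) else 0) =
      pRegularPart 2 (BlocksDefect.inflate N ψ : G → ℂ) g
    by_cases hg : IsPRegular 2 g
    · have hg' : IsPRegular 2 (g : G ⧸ N) := fun hd =>
        hg (hd.trans (orderOf_map_dvd (QuotientGroup.mk' N) g))
      simp only [pRegularPart, if_pos hg, if_pos hg']
      rfl
    · simp only [pRegularPart, if_neg hg]
  set V := Submodule.span ℂ ((fun ψ : IrrCharacter (G ⧸ N) => pRegularPart 2 (ψ : G ⧸ N → ℂ)) ''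
    principalBlock M (G ⧸ N)) with hV
  have hsupp : ∀ f ∈ V, ∀ q : G ⧸ N, ¬ IsPRegular 2 q → f q = 0 := by
    intro f hf q hq
    refine Submodule.span_induction (p := fun f _ => f q = 0) ?_ rfl
      (fun a b _ _ ha hb => by simp [ha, hb]) (fun c a _ ha => by simp [ha]) hf
    rintro _ ⟨ψ, -, rfl⟩
    simp only [pRegularPart, if_neg hq]
  have hinj : Function.Injective (L.comp V.subtype) := by
    rw [← LinearMap.ker_eq_bot, LinearMap.ker_eq_bot']
    rintro ⟨f, hf⟩ h0
    refine Subtype.ext (funext fun q => ?_)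
    by_cases hq : IsPRegular 2 q
    · induction q using QuotientGroup.induction_on with
      | _ g =>
      obtain ⟨y, z, hyz, -, ⟨k, hk⟩, hz, hyg, -⟩ := exists_isPPart (p := 2) Nat.prime_two g
      have hy1 : (y : G ⧸ N) = 1 := by
        have h1 : orderOf (y : G ⧸ N) ∣ 2 ^ k := hk ▸ orderOf_map_dvd (QuotientGroup.mk' N) y
        obtain ⟨i, rfl⟩ := Subgroup.mem_zpowers_iff.mp hyg
        have h2 : orderOf (((g ^ i : G)) : G ⧸ N) ∣ orderOf (g : G ⧸ N) := by
          rw [QuotientGroup.mk_zpow]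
          exact orderOf_dvd_of_mem_zpowers (Subgroup.zpow_mem_zpowers _ i)
        obtain ⟨j, -, hj⟩ := (Nat.dvd_prime_pow Nat.prime_two).mp h1
        rcases Nat.eq_zero_or_pos j with rfl | hj0
        · exact orderOf_eq_one_iff.mp (hj.trans (pow_zero 2))
        · exact absurd ((hj ▸ dvd_pow_self 2 hj0.ne').trans h2) hq
      have h3 : L f z = 0 := congrFun h0 z
      have hzr : IsPRegular 2 z := hz
      simp only [L, LinearMap.coe_mk, AddHom.coe_mk, if_pos hzr] at h3
      show f (g : G ⧸ N) = 0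
      rw [← hyz, QuotientGroup.mk_mul, hy1, one_mul]
      exact h3
    · exact hsupp f hf q hq
  have hmap : V.map L = Submodule.span ℂ
      ((fun χ : IrrCharacter G => pRegularPart 2 (χ : G → ℂ)) '' principalBlock M G) := by
    rw [hV, Submodule.map_span, ← Set.image_comp, ← hbij.image_eq, ← Set.image_comp]
    congr 1
    exact Set.image_congr fun ψ _ => hL ψ
  rw [blockRank, blockRank, ← hmap, ← hV,
    show V.map L = LinearMap.range (L.comp V.subtype) by
      rw [LinearMap.range_comp, Submodule.range_subtype], LinearMap.finrank_range_of_inj hinj]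

theorem solvable_quotient_iff (N : Subgroup G) [N.Normal] (hN : ¬ 2 ∣ Nat.card N) :
    Group.IsSolvable (G ⧸ N) ↔ Group.IsSolvable G := by
  refine ⟨fun hs => ?_, fun hs => Group.isSolvable_of_surjective
    (f := QuotientGroup.mk' N) (QuotientGroup.mk'_surjective N)⟩
  haveI := hs
  haveI : Group.IsSolvable N :=
    PF14.feitThompson N (Nat.not_even_iff_odd.mp fun hev => hN (even_iff_two_dvd.mp hev))
  exact Group.isSolvable_of_ker_le_range N.subtype (QuotientGroup.mk' N) (by simp)

theorem eq_one_of_mem_core (P : Sylow 2 G) (N : Subgroup G) (hN : ¬ 2 ∣ Nat.card N) {a : G}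
    (ha : a ∈ (P : Subgroup G)) (haN : a ∈ N) : a = 1 := by
  haveI : Fact (Nat.Prime 2) := ⟨Nat.prime_two⟩
  obtain ⟨k, hk⟩ := IsPGroup.iff_orderOf.mp P.2 ⟨a, ha⟩
  rw [Subgroup.orderOf_mk] at hk
  rcases Nat.eq_zero_or_pos k with rfl | hk0
  · exact orderOf_eq_one_iff.mp (hk.trans (pow_zero 2))
  · exact absurd ((hk ▸ dvd_pow_self 2 hk0.ne').trans (Subgroup.orderOf_dvd_natCard N haN)) hN

theorem map_normalizer (P : Sylow 2 G) (N : Subgroup G) [N.Normal] :
    (Subgroup.normalizer ((P : Subgroup G) : Set G)).map (QuotientGroup.mk' N) =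
      Subgroup.normalizer ((((P : Subgroup G).map (QuotientGroup.mk' N)) : Subgroup (G ⧸ N)) :
        Set (G ⧸ N)) := by
  haveI : Fact (Nat.Prime 2) := ⟨Nat.prime_two⟩
  set π := QuotientGroup.mk' N with hπ
  set Pq := (P : Subgroup G).map π with hPq
  refine le_antisymm ?_ ?_
  · rintro _ ⟨n, hn, rfl⟩
    refine Subgroup.mem_normalizer_iff_map_conj_eq.mpr ?_
    rw [hPq, Subgroup.map_map, show ((MulAut.conj (π n) : (G ⧸ N) ≃* (G ⧸ N)) : (G ⧸ N) →* (G ⧸ N)).comp π =
      π.comp ((MulAut.conj n : G ≃* G) : G →* G) from MonoidHom.ext fun x => by simp,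
      ← Subgroup.map_map, Subgroup.mem_normalizer_iff_map_conj_eq.mp hn]
  · intro x hx
    obtain ⟨g, rfl⟩ := QuotientGroup.mk'_surjective N x
    have hsub : (P : Subgroup G) ≤ Pq.comap π := Subgroup.le_comap_map π _
    have hg : ((MulAut.conj g • P : Sylow 2 G) : Subgroup G) ≤ Pq.comap π := by
      rintro _ ⟨a, ha, rfl⟩
      have h1 := (Subgroup.mem_normalizer_iff.mp hx (π a)).mp (Subgroup.mem_map_of_mem π ha)
      show π (g * a * g⁻¹) ∈ Pq
      rw [map_mul, map_mul, map_inv]
      exact h1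
    obtain ⟨k, hk⟩ := MulAction.exists_smul_eq (Pq.comap π)
      ((MulAut.conj g • P : Sylow 2 G).subtype hg) (P.subtype hsub)
    have hk' : ∀ y, y ∈ Pq.comap π → ∃ a ∈ (P : Subgroup G), ∃ m ∈ N, a * m = y := by
      intro y hy
      rw [hPq, Subgroup.comap_map_eq, QuotientGroup.ker_mk', Subgroup.mem_sup_of_normal_right] at hy
      exact hy
    obtain ⟨a, ha, m, hm, ham⟩ := hk' k k.2
    have hn : (k : G) * g ∈ Subgroup.normalizer ((P : Subgroup G) : Set G) := by
      refine Subgroup.mem_normalizer_iff_map_conj_eq.mpr (Subgroup.eq_of_le_of_card_ge ?_ ?_)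
      · rintro _ ⟨b, hb, rfl⟩
        have h1 : k * ⟨g * b * g⁻¹, hg ⟨b, hb, rfl⟩⟩ * k⁻¹ ∈
            ((P.subtype hsub : Sylow 2 _) : Subgroup (Pq.comap π)) := by
          rw [← hk]
          exact ⟨_, ⟨b, hb, rfl⟩, rfl⟩
        have h2 : ((k : G) * (g * b * g⁻¹) * (k : G)⁻¹) ∈ (P : Subgroup G) := h1
        simpa [mul_assoc] using h2
      · exact le_of_eq (Nat.card_congr ((P : Subgroup G).equivMapOfInjective _
          (MulAut.conj _).injective).toEquiv)
    refine ⟨m * g, ?_, ?_⟩
    · have h3 := mul_mem (inv_mem (Subgroup.le_normalizer ha)) hn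
      rw [← ham, mul_assoc, inv_mul_cancel_left] at h3
      exact h3
    · rw [map_mul, show π m = 1 from (QuotientGroup.eq_one_iff m).mpr hm, one_mul]

/-- The automizer of a Sylow 2-subgroup of the quotient. -/
theorem relIndex_quotient (P : Sylow 2 G) (N : Subgroup G) [N.Normal] (hN : ¬ 2 ∣ Nat.card N) :
    (Subgroup.centralizer ((((P : Subgroup G).map (QuotientGroup.mk' N)) : Subgroup (G ⧸ N)) :
        Set (G ⧸ N))).relIndex
      (Subgroup.normalizer ((((P : Subgroup G).map (QuotientGroup.mk' N)) : Subgroup (G ⧸ N)) :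
        Set (G ⧸ N))) =
      (Subgroup.centralizer ((P : Subgroup G) : Set G)).relIndex
        (Subgroup.normalizer ((P : Subgroup G) : Set G)) := by
  haveI : Fact (Nat.Prime 2) := ⟨Nat.prime_two⟩
  set π := QuotientGroup.mk' N with hπ
  set Pq := (P : Subgroup G).map π with hPq
  have hdis : ∀ a ∈ (P : Subgroup G), a ∈ N → a = 1 := fun a ha haN =>
    eq_one_of_mem_core P N hN ha haN
  have hmapN : (Subgroup.normalizer ((P : Subgroup G) : Set G)).map π =
      Subgroup.normalizer ((Pq : Subgroup (G ⧸ N)) : Set (G ⧸ N)) := map_normalizer P N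
  rw [← hmapN, ← Subgroup.relIndex_comap, ← Subgroup.inf_relIndex_right,
    ← Subgroup.inf_relIndex_right (Subgroup.centralizer ((P : Subgroup G) : Set G))]
  congr 1
  ext n
  simp only [Subgroup.mem_inf, Subgroup.mem_comap, Subgroup.mem_centralizer_iff]
  refine and_congr_left fun hn => ⟨fun hc a ha => ?_, fun hc => ?_⟩
  · have h1 := hc (π a) (Subgroup.mem_map_of_mem π ha)
    have h2 : a * n * a⁻¹ * n⁻¹ ∈ N := by
      rw [← QuotientGroup.eq_one_iff]
      show π (a * n * a⁻¹ * n⁻¹) = 1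
      rw [map_mul, map_mul, map_mul, map_inv, map_inv, h1]
      group
    have h3 : a * n * a⁻¹ * n⁻¹ ∈ (P : Subgroup G) := by
      have := mul_mem ha ((Subgroup.mem_normalizer_iff.mp hn a⁻¹).mp (inv_mem ha))
      simpa [mul_assoc] using this
    exact mul_inv_eq_iff_eq_mul.mp (mul_inv_eq_one.mp (hdis _ h3 h2))
  · rintro _ ⟨a, ha, rfl⟩
    rw [← map_mul, hc a ha, map_mul]

end Cfsg.Agent.BC84.FreeAuto
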