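import Cfsg.Agent.BC84.FreeAuto.Local
import Cfsg.Agent.BC84.FreeAuto.Count
import Cfsg.Agent.Lib.CharCore.Linear

/-!
# A normal Sylow subgroup with free abelian automizer
-/

set_option autoImplicit false
set_option linter.unusedSectionVars false
set_option linter.style.haveILetI false

namespace Cfsg.Agent.BC84.FreeAuto

open Cfsg BlocksCore BlocksDefect Finset
open scoped Classical

universe u

variable {G : Type u} [Group G] [Fintype G] (P : Sylow 2 G) (h : AbelianPrincipal.Free P)

include h

theorem centralizer_eq_self_of_normal [hPn : (P : Subgroup G).Normal] (hO : pPrimeCore 2 G = ⊥)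
    (hP1 : (P : Subgroup G) ≠ ⊥) :
    Subgroup.centralizer ((P : Subgroup G) : Set G) = (P : Subgroup G) := by
  obtain ⟨⟨y, hy⟩, hne⟩ := Subgroup.ne_bot_iff_exists_ne_one.mp hP1
  have hy1 : y ≠ 1 := fun h0 => hne (Subtype.ext h0)
  obtain ⟨hiff, hodd, -, -⟩ := oddCent_spec P h hy hy1
  set D := Subgroup.centralizer ((P : Subgroup G) : Set G) ⊓ oddCent y with hD
  have hCn : (Subgroup.centralizer ((P : Subgroup G) : Set G)).Normal := Subgroup.normal_centralizer
  have hDn : D.Normal := ⟨fun c hc g => by
    have h1 : g * c * g⁻¹ ∈ Subgroup.centralizer ((P : Subgroup G) : Set G) := hCn.conj_mem c hc.1 g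
    refine ⟨h1, (hiff _).mpr ⟨(Subgroup.mem_centralizer_iff.mp h1 y hy).symm, ?_⟩⟩
    rw [orderOf_conj]
    exact ((hiff c).mp hc.2).2⟩
  have hD1 : D = ⊥ := le_bot_iff.mp (hO ▸ Thompson.le_pPrimeCore hDn
    ((Nat.prime_two.coprime_iff_not_dvd.mpr fun hd =>
      hodd (hd.trans (Subgroup.card_dvd_of_le inf_le_right))).symm))
  refine le_antisymm (fun g hg => ?_) (le_centralizer_self P h)
  obtain ⟨b, hb, c, hc, rfl⟩ :=
    exists_decomp P h hy hy1 ((Subgroup.mem_centralizer_iff.mp hg y hy).symm : Commute g y)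
  have hcD : c ∈ D := ⟨by
    have := mul_mem (inv_mem (le_centralizer_self P h hb)) hg
    rwa [inv_mul_cancel_left] at this, hc⟩
  rw [hD1, Subgroup.mem_bot] at hcD
  rwa [hcD, mul_one]

theorem normal_rank {M : Ideal AlgInt} (hM : IsPModular 2 M) [hPn : (P : Subgroup G).Normal]
    (hO : pPrimeCore 2 G = ⊥) (hP1 : (P : Subgroup G) ≠ ⊥)
    (hab : ∀ g k : G, g * k * g⁻¹ * k⁻¹ ∈ Subgroup.centralizer ((P : Subgroup G) : Set G)) :
    blockRank 2 (principalBlock M G) = (Subgroup.centralizer ((P : Subgroup G) : Set G)).relIndex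
      (Subgroup.normalizer ((P : Subgroup G) : Set G)) := by
  haveI : Fact (Nat.Prime 2) := ⟨Nat.prime_two⟩
  have hMp := isPrime hM
  have hCP := centralizer_eq_self_of_normal P h hO hP1
  refine le_antisymm (block_count P hM h hP1).1 ?_
  rw [Subgroup.normalizer_eq_top_iff.mpr hPn, Subgroup.relIndex_top_right, hCP]
  letI : CommGroup (G ⧸ (P : Subgroup G)) := { (inferInstance : Group (G ⧸ (P : Subgroup G))) with
    mul_comm := fun x y => by
      induction x using QuotientGroup.induction_on with
      | _ a =>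
      induction y using QuotientGroup.induction_on with
      | _ b =>
      rw [← QuotientGroup.mk_mul, ← QuotientGroup.mk_mul, QuotientGroup.eq]
      have h1 := hCP.le (hab b⁻¹ a⁻¹)
      simpa [mul_assoc] using h1 }
  haveI : Fintype ((G ⧸ (P : Subgroup G)) →* ℂˣ) := Fintype.ofFinite _
  let lam : ((G ⧸ (P : Subgroup G)) →* ℂˣ) → IrrCharacter G := fun φ =>
    ⟨_, CharCore.isIrrCharacter_hom (φ.comp (QuotientGroup.mk' (P : Subgroup G)))⟩
  have hmem : ∀ φ, lam φ ∈ principalBlock M G := by
    intro φ g
    have hd : ∀ u : ℂˣ, ((Subgroup.centralizer ({g} : Set G)).index : ℂ) * (u : ℂ) / 1 =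
        ((Subgroup.centralizer ({g} : Set G)).index : ℂ) * (u : ℂ) := fun u => div_one _
    by_cases hg : g ∈ (P : Subgroup G)
    · refine ⟨0, 1, M.zero_mem, fun h1 => (hMp.ne_top) (M.eq_top_iff_one.mpr h1), ?_⟩
      have h1 : (lam φ : G → ℂ) g = 1 := by
        show ((φ (g : G ⧸ (P : Subgroup G)) : ℂˣ) : ℂ) = 1
        rw [(QuotientGroup.eq_one_iff g).mpr hg, map_one, Units.val_one]
      have h2 : (lam φ : G → ℂ) 1 = 1 := by simp [lam]
      simp [centralChar, h1, h2]
    · have h2dvd : 2 ∣ (Subgroup.centralizer ({g} : Set G)).index := by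
        by_contra hodd
        refine hg (hCP.le (Subgroup.mem_centralizer_iff.mpr fun b hb => ?_))
        obtain ⟨T⟩ := (inferInstance : Nonempty (Sylow 2 (Subgroup.centralizer ({g} : Set G))))
        have hle : ((T : Subgroup (Subgroup.centralizer ({g} : Set G))).map (Subgroup.centralizer ({g} : Set G)).subtype) =
            (P : Subgroup G) := by
          have hp : IsPGroup 2 ((T : Subgroup (Subgroup.centralizer ({g} : Set G))).map (Subgroup.centralizer ({g} : Set G)).subtype) :=
            T.2.map _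
          obtain ⟨S, hS⟩ := hp.exists_le_sylow
          haveI := Sylow.unique_of_normal P hPn
          rw [Subsingleton.elim S P] at hS
          refine Subgroup.eq_of_le_of_card_ge hS (le_of_eq ?_)
          rw [← Nat.card_congr ((T : Subgroup (Subgroup.centralizer ({g} : Set G))).equivMapOfInjective _
            (Subgroup.subtype_injective _)).toEquiv, T.card_eq_multiplicity, P.card_eq_multiplicity]
          congr 1
          have hmul := Subgroup.card_mul_index (Subgroup.centralizer ({g} : Set G))
          rw [← hmul, Nat.factorization_mul Nat.card_pos.ne' Subgroup.index_ne_zero_of_finite,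
            Finsupp.add_apply, Nat.factorization_eq_zero_of_not_dvd hodd, add_zero]
        have hb' := hle.ge hb
        obtain ⟨x, -, rfl⟩ := hb'
        exact Subgroup.mem_centralizer_singleton_iff.mp x.2
      obtain ⟨k, hk⟩ := h2dvd
      have hint : IsIntegral ℤ ((lam φ : G → ℂ) g) := BlocksCore.isIntegral_irr _ g
      refine ⟨(2 : AlgInt) * ((k : AlgInt) * (1 - ⟨_, hint⟩)), 1,
        M.mul_mem_right _ (by simpa using hM.2.2),
        fun h1 => (hMp.ne_top) (M.eq_top_iff_one.mpr h1), ?_⟩
      have h2 : (lam φ : G → ℂ) 1 = 1 := by simp [lam]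
      simp only [centralChar, h2, hk]
      push_cast
      rw [show ((2 : AlgInt) : ℂ) = 2 from rfl]
      ring
  -- independence at the regular elements
  have hindep : LinearIndependent ℂ (fun φ : (G ⧸ (P : Subgroup G)) →* ℂˣ =>
      pRegularPart 2 (lam φ : G → ℂ)) := by
    rw [Fintype.linearIndependent_iff]
    intro c hc φ₀
    have hall : ∀ q : G ⧸ (P : Subgroup G), ∑ φ, c φ * ((φ q : ℂˣ) : ℂ) = 0 := by
      intro q
      induction q using QuotientGroup.induction_on with
      | _ g =>
      obtain ⟨y, z, hyz, -, ⟨k, hk⟩, hz, -, -⟩ := exists_isPPart (p := 2) Nat.prime_two g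
      have hyP : y ∈ (P : Subgroup G) := by
        obtain ⟨S, hS⟩ := (IsPGroup.of_card (n := k) (by rw [Nat.card_zpowers, hk]) :
          IsPGroup 2 (Subgroup.zpowers y)).exists_le_sylow
        haveI := Sylow.unique_of_normal P hPn
        rw [Subsingleton.elim S P] at hS
        exact hS (Subgroup.mem_zpowers y)
      have h1 := congrFun hc z
      simp only [Finset.sum_apply, Pi.smul_apply, smul_eq_mul, Pi.zero_apply] at h1
      rw [← h1]
      refine sum_congr rfl fun φ _ => ?_
      rw [pRegularPart, if_pos (show IsPRegular 2 z from hz), ← hyz, QuotientGroup.mk_mul, (QuotientGroup.eq_one_iff y).mpr hyP,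
        one_mul]
      rfl
    have hli := (linearIndependent_monoidHom (G ⧸ (P : Subgroup G)) ℂ).comp
      (fun φ : (G ⧸ (P : Subgroup G)) →* ℂˣ => (Units.coeHom ℂ).comp φ)
      (fun a b hab => MonoidHom.ext fun q => Units.ext (DFunLike.congr_fun hab q))
    exact Fintype.linearIndependent_iff.mp hli c (funext fun q => by
      simpa [Finset.sum_apply] using hall q) φ₀
  have hcard : (P : Subgroup G).index = Fintype.card ((G ⧸ (P : Subgroup G)) →* ℂˣ) := by
    rw [← Nat.card_eq_fintype_card, CommGroup.card_monoidHom_of_hasEnoughRootsOfUnity]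
    rfl
  rw [hcard, ← finrank_span_eq_card hindep, blockRank]
  refine Submodule.finrank_mono (Submodule.span_mono ?_)
  rintro _ ⟨φ, rfl⟩
  exact ⟨lam φ, hmem φ, rfl⟩

end Cfsg.Agent.BC84.FreeAuto
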