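import Cfsg.Agent.BC84.FreeAuto.Normal
import Cfsg.Agent.Lib.BlocksCore.AbelianThreeInvolution

/-!
# A free automizer of order three in a nonsolvable group
-/

set_option autoImplicit false
set_option linter.unusedSectionVars false
set_option linter.style.haveILetI false

namespace Cfsg.Agent.BC84.FreeAuto

open Cfsg BlocksCore Subgroup
open scoped Classical

universe u

variable {G : Type u} [Group G] [Fintype G] (P : Sylow 2 G) (h : AbelianPrincipal.Free P)

include h

theorem three_main {M : Ideal AlgInt} (hM : IsPModular 2 M) (hO : pPrimeCore 2 G = ⊥)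
    (hns : ¬ Group.IsSolvable G)
    (he : (centralizer ((P : Subgroup G) : Set G)).relIndex
      (normalizer ((P : Subgroup G) : Set G)) = 3) : Nat.card P = 4 := by
  haveI : Fact (Nat.Prime 2) := ⟨Nat.prime_two⟩
  haveI : Nontrivial G := not_subsingleton_iff_nontrivial.mp fun hs => hns inferInstance
  -- a minimal normal subgroup
  have hex : ∃ k : ℕ, ∃ S : Subgroup G, S.Normal ∧ S ≠ ⊥ ∧ Nat.card S = k :=
    ⟨_, ⊤, inferInstance, top_ne_bot, rfl⟩
  obtain ⟨S, hSn, hS, hScard⟩ := Nat.find_spec hex
  have hmin : ∀ R : Subgroup G, R.Normal → R ≠ ⊥ → R ≤ S → R = S := fun R hR hR1 hle =>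
    eq_of_le_of_card_ge hle (hScard ▸ Nat.find_min' hex ⟨R, hR, hR1, rfl⟩)
  haveI := hSn
  obtain ⟨hle, hSns, n, hnS, hnN, hnC⟩ := normal_contains P h hO hns S hS
  haveI : Fintype S := Fintype.ofFinite _
  set PS : Sylow 2 S := P.subtype hle with hPS
  haveI : Fintype (PS : Subgroup S) := Fintype.ofFinite _
  have hfree := free_subtype P h S hle
  have heS : (centralizer ((PS : Subgroup S) : Set S)).relIndex
      (normalizer ((PS : Subgroup S) : Set S)) = 3 := by
    have hd := relIndex_subtype_dvd P h S hle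
    rw [he] at hd
    refine ((Nat.dvd_prime Nat.prime_three).mp hd).resolve_left fun h1 => hnC ?_
    exact (mem_centralizer_subtype P h S hle ⟨n, hnS⟩).mp
      (relIndex_eq_one.mp h1 ((mem_normalizer_subtype P h S hle ⟨n, hnS⟩).mpr hnN))
  have hOS : pPrimeCore 2 S = ⊥ := by
    have h1 := Thompson.map_pPrimeCore_normal_le (p := 2) S
    rw [hO, le_bot_iff, map_eq_bot_iff_of_injective _ S.subtype_injective] at h1
    exact h1
  have hgen : ∀ T : Subgroup S, T.Normal → T ≠ ⊥ → T = ⊤ := by
    intro T hT hT1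
    haveI := hT
    -- all conjugates of `T` contain `P`
    set T' := T.map S.subtype with hT'
    have hPT : ∀ g : G, ∀ p ∈ (P : Subgroup G), g * p * g⁻¹ ∈ T' := by
      intro g p hp
      set e : S ≃* S := MulAut.conjNormal g
      haveI : (T.map e.symm.toMonoidHom).Normal := hT.map _ e.symm.surjective
      have hne : T.map e.symm.toMonoidHom ≠ ⊥ := by
        rw [Ne, map_eq_bot_iff_of_injective _ e.symm.injective]
        exact hT1
      obtain ⟨hle', -⟩ := normal_contains PS hfree hOS hSns (T.map e.symm.toMonoidHom) hne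
      obtain ⟨t, ht, hte⟩ := hle' (show (⟨p, hle hp⟩ : S) ∈ (PS : Subgroup S) from hp)
      refine ⟨t, ht, ?_⟩
      have h1 : t = e ⟨p, hle hp⟩ := by rw [← hte]; exact (e.apply_symm_apply t).symm
      rw [h1]
      exact MulAut.conjNormal_apply _ _
    set R := Subgroup.normalClosure ((P : Subgroup G) : Set G) with hR
    have hRT : R ≤ T' := by
      rw [hR, Subgroup.normalClosure, closure_le]
      intro x hx
      obtain ⟨p, hp, hpx⟩ := Group.mem_conjugatesOfSet_iff.mp hx
      obtain ⟨g, rfl⟩ := isConj_iff.mp hpx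
      exact hPT g p hp
    have hR1 : R ≠ ⊥ := by
      intro h0
      have hP0 : (P : Subgroup G) = ⊥ := le_bot_iff.mp (h0 ▸ subset_normalClosure)
      refine hnC (mem_centralizer_iff.mpr fun x hx => ?_)
      rw [hP0] at hx
      rw [mem_bot.mp hx, one_mul, mul_one]
    have hRS : R = S := hmin R normalClosure_normal hR1 (hRT.trans (map_subtype_le T))
    refine eq_top_iff.mpr fun x _ => ?_
    obtain ⟨t, ht, hte⟩ := hRT (hRS.ge x.2)
    rwa [← Subtype.ext hte]
  -- apply the classification of the block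
  have hcardS : Nat.card PS = Nat.card P :=
    Nat.card_congr (subgroupOfEquivOfLe hle).toEquiv
  rw [← hcardS]
  by_contra hne
  have hQ : 3 + 1 < Nat.card PS := by
    obtain ⟨k, hk⟩ := IsPGroup.iff_card.mp PS.2
    have hd : 3 ∣ Nat.card PS - 1 := by
      rw [← AbelianPrincipal.card_orb_mul hfree, heS]
      exact dvd_mul_left _ _
    have hpos : 1 < Nat.card PS := by
      refine (PS : Subgroup S).one_lt_card_iff_ne_bot.mpr fun h0 => hnC ?_
      refine mem_centralizer_iff.mpr fun x hx => ?_
      have : (⟨x, hle hx⟩ : S) ∈ (PS : Subgroup S) := hx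
      rw [h0, mem_bot] at this
      rw [show x = 1 from congrArg Subtype.val this, one_mul, mul_one]
    rcases Nat.lt_or_ge k 3 with hk3 | hk3
    · interval_cases k <;> omega
    · rw [hk]
      exact lt_of_lt_of_le (by norm_num) (Nat.pow_le_pow_right two_pos hk3)
  obtain ⟨D, hd, hX, hsmall⟩ := AbelianThree.exists_data hM hfree heS hQ
  obtain ⟨t, ht⟩ := exists_prime_orderOf_dvd_card' (G := S) 2 (by
    obtain ⟨k, hk⟩ := IsPGroup.iff_card.mp PS.2
    refine Dvd.dvd.trans ?_ (Subgroup.card_subgroup_dvd_card (PS : Subgroup S))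
    rw [hk]
    exact dvd_pow_self 2 fun h0 => by rw [h0] at hk; omega)
  refine AbelianThree.false_of_two hfree heS hM D hd rfl hQ hX hsmall ht fun T hT htT =>
    hgen T hT fun h0 => ?_
  rw [h0, mem_bot] at htT
  rw [htT, orderOf_one] at ht
  omega

end Cfsg.Agent.BC84.FreeAuto
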