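import Cfsg.Agent.BC84.FreeAuto.Elementary
import Cfsg.Agent.BC84.FreeAuto.Count
import Cfsg.Agent.S2202
import Cfsg.Agent.S2331
import Cfsg.Agent.Lib.LinearGroup.Card
import Cfsg.Agent.Lib.LinearGroup.Generation

/-!
# Free abelian automizers of order at least five
-/

set_option autoImplicit false
set_option linter.unusedSectionVars false
set_option linter.style.haveILetI false
set_option maxHeartbeats 1000000

namespace Cfsg.Agent.BC84.FreeAuto

open Cfsg BlocksCore BlocksDefect CyclicPrincipal Finset
open scoped Classical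

universe u

variable {G : Type u} [Group G] [Fintype G] (P : Sylow 2 G) (h : AbelianPrincipal.Free P)
  [Fintype (P : Subgroup G)]

include h

theorem centralizer_eq_of_W_bot (hW : Wsub P h = ⊥) {y : G} (hy : y ∈ (P : Subgroup G))
    (hy1 : y ≠ 1) : Subgroup.centralizer ({y} : Set G) = (P : Subgroup G) := by
  refine le_antisymm (fun g hg => ?_) (le_centralizer_singleton P h hy)
  obtain ⟨b, hb, c, hc, rfl⟩ :=
    exists_decomp P h hy hy1 (Subgroup.mem_centralizer_singleton_iff.mp hg : Commute g y)
  have hc1 : c = 1 := by simpa [hW] using oddCent_le_Wsub P h hy hy1 hc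
  rwa [hc1, mul_one]

variable (he : (5 : ℕ) ≤ (Subgroup.centralizer ((P : Subgroup G) : Set G)).relIndex
    (Subgroup.normalizer ((P : Subgroup G) : Set G)))
  (hO : pPrimeCore 2 G = ⊥)
include he hO

theorem shape_of_W_bot (hW : Wsub P h = ⊥) (hPn : ¬ (P : Subgroup G).Normal) :
    (Subgroup.centralizer ((P : Subgroup G) : Set G) = (P : Subgroup G)) ∧
    (Subgroup.centralizer ((P : Subgroup G) : Set G)).relIndex
      (Subgroup.normalizer ((P : Subgroup G) : Set G)) + 1 = Nat.card P ∧
    (Subgroup.normalizer ((P : Subgroup G) : Set G)).index = Nat.card P + 1 ∧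
    Nat.card (ConjClasses G) = Nat.card P + 1 ∧
    ∀ f : G →* ℂˣ, f = 1 := by
  haveI : Fact (Nat.Prime 2) := ⟨Nat.prime_two⟩
  obtain ⟨y₀, hy₀, hy₀1⟩ := exists_ne_one_of_five P h he
  have hCP : Subgroup.centralizer ((P : Subgroup G) : Set G) = (P : Subgroup G) :=
    le_antisymm (fun g hg => centralizer_eq_of_W_bot P h hW hy₀ hy₀1 ▸
      Subgroup.mem_centralizer_singleton_iff.mpr (Subgroup.mem_centralizer_iff.mp hg y₀ hy₀).symm)
      (le_centralizer_self P h)
  -- abelian centralisers of involutions
  have hconjP : ∀ g : G, (∃ k, orderOf g = 2 ^ k) → ∃ c : G, c * g * c⁻¹ ∈ (P : Subgroup G) := by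
    rintro g ⟨k, hk⟩
    obtain ⟨T, hT⟩ := (IsPGroup.of_card (n := k) (by rw [Nat.card_zpowers, hk]) :
      IsPGroup 2 (Subgroup.zpowers g)).exists_le_sylow
    obtain ⟨c, hc⟩ := MulAction.exists_smul_eq G T P
    exact ⟨c, by rw [← hc]; exact ⟨g, hT (Subgroup.mem_zpowers g), rfl⟩⟩
  have habel : ∀ t : G, orderOf t = 2 → IsMulCommutative ↥(Subgroup.centralizer ({t} : Set G)) := by
    intro t ht
    obtain ⟨c, hc⟩ := hconjP t ⟨1, by rw [ht, pow_one]⟩
    have ht1 : t ≠ 1 := fun h0 => by rw [h0, orderOf_one] at ht; omega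
    have hC := centralizer_eq_of_W_bot P h hW hc (fun h0 => ht1 (conj_eq_one_iff.mp h0))
    refine ⟨⟨fun a b => Subtype.ext ?_⟩⟩
    have hm : ∀ x : Subgroup.centralizer ({t} : Set G), c * (x : G) * c⁻¹ ∈ (P : Subgroup G) := fun x => by
      rw [← hC, Subgroup.mem_centralizer_singleton_iff, conj_mul, conj_mul,
        Subgroup.mem_centralizer_singleton_iff.mp x.2]
    have h2 := h.comm' _ (hm a) _ (hm b)
    rw [conj_mul, conj_mul] at h2
    exact mul_left_cancel (mul_right_cancel h2)
  have h8 := eight_le P h he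
  have heven : Even (Nat.card G) := by
    obtain ⟨a, -, ha, ha1⟩ := exists_Om_ne_one P h hy₀ hy₀1
    rw [even_iff_two_dvd, ← orderOf_Om P h ha ha1]
    exact orderOf_dvd_natCard a
  rcases S2202.result heven habel with hcyc | hnorm | ⟨F, _, _, A, _, _, hchar, hA, ⟨φ⟩⟩
  · exfalso
    haveI := hcyc P
    have hle : Nat.card (Om P h) ≤ 2 := by
      have h2 := IsCyclic.card_pow_eq_one_le (α := (P : Subgroup G)) (n := 2) two_pos
      refine le_trans ?_ h2
      rw [← Nat.card_eq_finsetCard]
      refine Nat.card_le_card_of_injective (fun a => ⟨⟨a.1, a.2.1⟩, mem_filter.mpr ⟨mem_univ _,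
        Subtype.ext (by rw [SubgroupClass.coe_pow, pow_two]; exact a.2.2)⟩⟩) fun a b hab =>
        Subtype.ext (congrArg (fun z => ((z.1 : (P : Subgroup G)) : G)) hab)
    omega
  · exact absurd (hnorm P) hPn
  haveI := hchar
  -- the odd factor is trivial
  have hA1 : ∀ a : A, a = 1 := by
    intro a
    let j : A →* G := φ.symm.toMonoidHom.comp (MonoidHom.inr (Matrix.SpecialLinearGroup (Fin 2) F) A)
    haveI : j.range.Normal := by
      refine ⟨?_⟩
      rintro _ ⟨b, rfl⟩ g
      refine ⟨b, φ.injective ?_⟩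
      simp only [j, MonoidHom.coe_comp, MulEquiv.coe_toMonoidHom, Function.comp_apply, map_mul,
        map_inv, MulEquiv.apply_symm_apply, MonoidHom.inr_apply]
      ext : 1
      · simp
      · simp [mul_comm]
    have hle := Thompson.le_pPrimeCore (p := 2) (N := j.range) inferInstance (by
      refine (Nat.prime_two.coprime_iff_not_dvd.mpr fun hd => ?_).symm
      exact (Nat.not_even_iff_odd.mpr hA) (even_iff_two_dvd.mpr
        (hd.trans (Subgroup.card_range_dvd j))))
    have h1 : j a = 1 := by simpa [hO] using hle ⟨a, rfl⟩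
    have h2 := congrArg (fun g => (φ g).2) h1
    simpa [j] using h2
  haveI : Subsingleton A := ⟨fun a b => by rw [hA1 a, hA1 b]⟩
  haveI : Inhabited A := ⟨1⟩
  haveI : Unique A := Unique.mk' A
  let ι : G ≃* Matrix.SpecialLinearGroup (Fin 2) F := φ.trans
    { toFun := Prod.fst
      invFun := fun x => (x, 1)
      left_inv := fun x => Prod.ext rfl (Subsingleton.elim _ _)
      right_inv := fun x => rfl
      map_mul' := fun _ _ => rfl }
  set q := Nat.card F with hq
  have hG : Nat.card G = q * (q ^ 2 - 1) := by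
    rw [Nat.card_congr ι.toEquiv, LinearGroup.card_SL_two]
  obtain ⟨n, hn⟩ : ∃ n : ℕ, q = 2 ^ n := by
    obtain ⟨n, -, hn⟩ := FiniteField.card F 2
    exact ⟨n, by rw [hq, Nat.card_eq_fintype_card, hn]⟩
  have hq1 : 1 < q := Finite.one_lt_card
  have hn0 : n ≠ 0 := fun h0 => by rw [h0, pow_zero] at hn; omega
  have hodd : ¬ 2 ∣ q ^ 2 - 1 := by
    have h2 : 2 ∣ q ^ 2 := Dvd.dvd.pow (hn ▸ dvd_pow_self 2 hn0) two_ne_zero
    have : 0 < q ^ 2 := pow_pos (by omega) 2
    omega
  have hQ : Nat.card P = q := by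
    rw [P.card_eq_multiplicity, hG, Nat.factorization_mul (by omega) (fun h0 => hodd (by rw [h0]; exact dvd_zero 2)),
      Finsupp.add_apply, Nat.factorization_eq_zero_of_not_dvd hodd, add_zero, hn,
      Nat.Prime.factorization_pow Nat.prime_two, Finsupp.single_eq_same]
  set N := Subgroup.normalizer ((P : Subgroup G) : Set G) with hNdef
  set e := (Subgroup.centralizer ((P : Subgroup G) : Set G)).relIndex N with hedef
  have hmul : N.index * e = Nat.card P ^ 2 - 1 := by
    have h1 := Subgroup.card_mul_index N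
    rw [AbelianPrincipal.natCard_normalizer, ← hedef, hCP, hG, ← hQ] at h1
    refine Nat.eq_of_mul_eq_mul_left (Nat.card_pos (α := (P : Subgroup G))) ?_
    rw [← h1]
    ring
  -- `P` is a trivial intersection set
  obtain ⟨s, hs⟩ : ∃ s : ℕ, N.index = 1 + Nat.card P * s := by
    let o : G ⧸ N := QuotientGroup.mk 1
    have hfix : ∀ b : (P : Subgroup G), (b : G) • o = o := fun b =>
      TwoFusionB.smul_one_eq_iff.mpr (Subgroup.le_normalizer b.2)
    letI act : MulAction (P : Subgroup G) {x : G ⧸ N // x ≠ o} :=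
      { smul := fun b x => ⟨(b : G) • x.1, fun hx => x.2 (by
          have h1 := congrArg (fun z : G ⧸ N => (b : G)⁻¹ • z) hx
          simp only [inv_smul_smul] at h1
          rw [h1]
          exact inv_smul_eq_iff.mpr (hfix b).symm)⟩
        one_smul := fun x => Subtype.ext (one_smul G x.1)
        mul_smul := fun a b x => Subtype.ext (mul_smul (a : G) b x.1) }
    have hfree : ∀ x : {x : G ⧸ N // x ≠ o}, MulAction.stabilizer (P : Subgroup G) x = ⊥ := by
      rintro ⟨x, hx⟩
      induction x using QuotientGroup.induction_on with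
      | _ g =>
      refine eq_bot_iff.mpr fun b hb => ?_
      by_contra hb1
      have hb' : (b : G) ≠ 1 := fun h0 => hb1 (Subgroup.mem_bot.mpr (Subtype.ext h0))
      have hbx : (b : G) • (QuotientGroup.mk g : G ⧸ N) = QuotientGroup.mk g := congrArg Subtype.val hb
      have hmem := TwoFusionB.smul_mk_eq_iff.mp hbx
      have hmemP : g⁻¹ * (b : G) * g ∈ (P : Subgroup G) := by
        obtain ⟨k, hk⟩ := IsPGroup.iff_orderOf.mp P.2 b
        rw [← Subgroup.orderOf_coe] at hk
        have hord : orderOf (⟨g⁻¹ * (b : G) * g, hmem⟩ : N) = 2 ^ k := by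
          have := orderOf_conj g⁻¹ (b : G)
          rw [inv_inv] at this
          rw [Subgroup.orderOf_mk, this, hk]
        obtain ⟨T, hT⟩ := (IsPGroup.of_card (n := k) (by rw [Nat.card_zpowers, hord]) :
          IsPGroup 2 (Subgroup.zpowers (⟨g⁻¹ * (b : G) * g, hmem⟩ : N))).exists_le_sylow
        haveI : ((P.subtype Subgroup.le_normalizer : Sylow 2 N) : Subgroup N).Normal := by
          rw [Sylow.coe_subtype]
          exact Subgroup.normal_in_normalizer
        haveI := Sylow.unique_of_normal (P.subtype Subgroup.le_normalizer : Sylow 2 N) inferInstance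
        rw [Subsingleton.elim T (P.subtype Subgroup.le_normalizer)] at hT
        exact hT (Subgroup.mem_zpowers _)
      have hne : g⁻¹ * (b : G) * g ≠ 1 := fun h0 => hb' (by
        calc (b : G) = g * (g⁻¹ * (b : G) * g) * g⁻¹ := by group
          _ = 1 := by rw [h0]; group)
      refine hx (QuotientGroup.eq.mpr ?_)
      rw [mul_one]
      refine inv_mem (Subgroup.mem_normalizer_iff.mpr fun a => ?_)
      have hC1 := centralizer_eq_of_W_bot P h hW b.2 hb'
      have hC2 := centralizer_eq_of_W_bot P h hW hmemP hne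
      rw [← SetLike.ext_iff.mp hC1 (g * a * g⁻¹), ← SetLike.ext_iff.mp hC2 a,
        Subgroup.mem_centralizer_singleton_iff, Subgroup.mem_centralizer_singleton_iff]
      constructor
      · intro ha
        calc g * a * g⁻¹ * (b : G) = g * (a * (g⁻¹ * (b : G) * g)) * g⁻¹ := by group
          _ = g * ((g⁻¹ * (b : G) * g) * a) * g⁻¹ := by rw [ha]
          _ = _ := by group
      · intro ha
        calc a * (g⁻¹ * (b : G) * g) = g⁻¹ * (g * a * g⁻¹ * (b : G)) * g := by group
          _ = g⁻¹ * ((b : G) * (g * a * g⁻¹)) * g := by rw [ha]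
          _ = _ := by group
    have hcard := Nat.card_congr
      (MulAction.selfEquivOrbitsQuotientProd' (G := (P : Subgroup G)) Quotient.out_eq' hfree)
    rw [Nat.card_prod] at hcard
    refine ⟨Nat.card (Quotient (MulAction.orbitRel (P : Subgroup G) {x : G ⧸ N // x ≠ o})), ?_⟩
    rw [mul_comm, ← hcard]
    show Nat.card (G ⧸ N) = _
    rw [Nat.card_congr (Equiv.sumCompl (fun x : G ⧸ N => x = o)).symm, Nat.card_sum, Nat.card_unique]
  have hQe : e + 1 = Nat.card P := by
    have hQ1 : 1 < Nat.card P := hQ ▸ hq1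
    have hle : e ≤ Nat.card P - 1 := by
      have hr := AbelianPrincipal.card_orb_mul h
      rw [← hNdef, ← hedef] at hr
      rw [← hr]
      refine Nat.le_mul_of_pos_left _ (Nat.pos_of_ne_zero fun h0 => ?_)
      rw [h0, zero_mul] at hr
      omega
    have hsq : Nat.card P ^ 2 - 1 + 1 = Nat.card P ^ 2 := Nat.sub_add_cancel
      (Nat.pow_pos (show 0 < Nat.card P by omega))
    have h1 : (e + 1) + Nat.card P * s * e = Nat.card P * Nat.card P := by
      rw [← pow_two, ← hsq, ← hmul, hs]
      ring
    have hdvd : Nat.card P ∣ e + 1 :=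
      (Nat.dvd_add_left (Dvd.intro (s * e) (mul_assoc _ _ _).symm)).mp (h1 ▸ dvd_mul_right _ _)
    have := Nat.le_of_dvd (by omega) hdvd
    omega
  refine ⟨hCP, hQe, ?_, ?_, ?_⟩
  · refine Nat.eq_of_mul_eq_mul_right (m := e) (by omega) ?_
    rw [hmul, ← hQe]
    have : (e + 1) ^ 2 = (e + 1 + 1) * e + 1 := by ring
    omega
  · rw [hQ, hq, Nat.card_eq_fintype_card (α := F), ← S2331.result (F := F)]
    exact Nat.card_congr
      { toFun := ConjClasses.map ι.toMonoidHom
        invFun := ConjClasses.map ι.symm.toMonoidHom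
        left_inv := fun c => by
          obtain ⟨a, rfl⟩ := ConjClasses.exists_rep c
          simp [ConjClasses.map, ConjClasses.mk]
          rfl
        right_inv := fun c => by
          obtain ⟨a, rfl⟩ := ConjClasses.exists_rep c
          simp [ConjClasses.map, ConjClasses.mk]
          rfl }
  · intro f
    have h4 : 4 ≤ q := by
      have hle : Nat.card (Om P h) ≤ Nat.card P :=
        Subgroup.card_le_of_le (show Om P h ≤ P from fun a ha => ha.1)
      omega
    obtain ⟨a, ha, ha2⟩ : ∃ a : F, a ≠ 0 ∧ a ^ 2 ≠ 1 := by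
      by_contra! hall
      have hsub : (Finset.univ : Finset F) ⊆ {0, 1, -1} := fun a _ => by
        by_cases ha : a = 0
        · simp [ha]
        · rcases sq_eq_one_iff.1 (hall a ha) with h' | h' <;> simp [h']
      have := (Finset.card_le_card hsub).trans Finset.card_le_three
      rw [card_univ, ← Nat.card_eq_fintype_card] at this
      omega
    have hperf : commutator (Matrix.SpecialLinearGroup (Fin 2) F) = ⊤ :=
      LinearGroup.commutator_SL_eq_top' fun _ => ⟨a, ha, ha2⟩
    ext g
    have hk := Abelianization.commutator_subset_ker (f.comp ι.symm.toMonoidHom)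
      (hperf ▸ Subgroup.mem_top (ι g))
    simpa using hk

variable {M : Ideal AlgInt}

/-- The principal block has rank the order of the automizer, and `P` is elementary. -/
theorem five_main (hM : IsPModular 2 M)
    (hab : ∀ g ∈ Subgroup.normalizer ((P : Subgroup G) : Set G),
      ∀ k ∈ Subgroup.normalizer ((P : Subgroup G) : Set G),
        g * k * g⁻¹ * k⁻¹ ∈ Subgroup.centralizer ((P : Subgroup G) : Set G))
    (hPn : ¬ (P : Subgroup G).Normal) :
    (Subgroup.centralizer ((P : Subgroup G) : Set G)).relIndex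
        (Subgroup.normalizer ((P : Subgroup G) : Set G)) + 1 = Nat.card P ∧
      blockRank 2 (principalBlock M G) = (Subgroup.centralizer ((P : Subgroup G) : Set G)).relIndex
        (Subgroup.normalizer ((P : Subgroup G) : Set G)) := by
  haveI : Fact (Nat.Prime 2) := ⟨Nat.prime_two⟩
  have := isPrime hM
  have hW := Wsub_eq_bot P h he hO hM hab
  obtain ⟨hCP, hQe, hidx, hk, hlin⟩ := shape_of_W_bot P h he hO hW hPn
  refine ⟨hQe, ?_⟩
  set N := Subgroup.normalizer ((P : Subgroup G) : Set G) with hN
  set e := (Subgroup.centralizer ((P : Subgroup G) : Set G)).relIndex N with hedef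
  set Q := Nat.card P with hQ
  have hP1 : (P : Subgroup G) ≠ ⊥ := fun h0 => by
    obtain ⟨y, hy, hy1⟩ := exists_ne_one_of_five P h he
    exact hy1 (by simpa [h0] using hy)
  obtain ⟨hle, hcnt, -⟩ := block_count P hM h hP1
  rw [← hN, ← hedef] at hle hcnt
  set U : Subgroup N := (P : Subgroup G).subgroupOf N
  haveI : U.Normal := Subgroup.normal_in_normalizer
  have habU : ∀ x y : N, x * y * x⁻¹ * y⁻¹ ∈ U := fun x y => hCP.le (hab _ x.2 _ y.2)
  -- characters outside the block
  set out := (univ : Finset (IrrCharacter G)).filter fun χ => χ ∉ principalBlock M G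
  have hzero : ∀ χ ∈ out, ∀ y ∈ (P : Subgroup G), y ≠ 1 → (χ : G → ℂ) y = 0 := by
    intro χ hχ y hy hy1
    have h1 := sum_coset h hM hy hy1 χ
    rw [if_neg (mem_filter.mp hχ).2] at h1
    have hsub : ∀ c : oddCent y, (c : G) = 1 := fun c => by
      simpa [hW] using oddCent_le_Wsub P h hy hy1 c.2
    haveI : Unique (oddCent y) := ⟨⟨1⟩, fun c => Subtype.ext (hsub c)⟩
    rw [Fintype.sum_unique, hsub, mul_one] at h1
    exact h1
  have hUsum : ∀ χ ∈ out, ∑ u : U, (χ : G → ℂ) ((u : N) : G) = (charDegree (χ : G → ℂ) : ℂ) := by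
    intro χ hχ
    refine (Finset.sum_eq_single (1 : U) (fun u _ hu =>
      hzero χ hχ _ u.2 fun h0 => hu (Subtype.ext (Subtype.ext h0)))
      (fun h0 => absurd (mem_univ _) h0)).trans ?_
    rw [← irr_one_eq]
    simp
  have hdeg : ∀ χ ∈ out, charDegree (χ : G → ℂ) = Q := by
    intro χ hχ
    obtain ⟨a, ha⟩ := exists_mult_one (P : Subgroup G) χ
    have hs : ∑ u : (P : Subgroup G), (χ : G → ℂ) (u : G) = (charDegree (χ : G → ℂ) : ℂ) := by
      refine (Finset.sum_eq_single (1 : (P : Subgroup G)) (fun u _ hu =>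
        hzero χ hχ _ u.2 fun h0 => hu (Subtype.ext h0)) (fun h0 => absurd (mem_univ _) h0)).trans ?_
      rw [OneMemClass.coe_one, irr_one_eq]
    have ha' : (charDegree (χ : G → ℂ) : ℂ) = (Q : ℂ) * (a : ℂ) := by rw [← hs]; convert ha
    have hfQ : charDegree (χ : G → ℂ) = Q * a := by exact_mod_cast ha'
    have hle' := degree_le_index N U habU χ (by
      rw [hUsum χ hχ]; exact Nat.cast_ne_zero.mpr (charDegree_pos χ).ne')
    rw [hidx, hfQ] at hle'
    have hpos := charDegree_pos χ
    rw [hfQ] at hpos ⊢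
    rcases Nat.lt_or_ge a 2 with h2 | h2
    · interval_cases a <;> simp at hpos ⊢
    · exfalso
      have := Nat.mul_le_mul_left Q h2
      omega
  -- each of them has the trivial character of the normalizer as a constituent
  choose n₁ hn₁ using fun χ : IrrCharacter G => exists_mult_one N χ
  have hpos1 : ∀ χ ∈ out, 1 ≤ n₁ χ := by
    intro χ hχ
    by_contra hlt
    have hn0 : n₁ χ = 0 := by omega
    -- some nontrivial linear character of the normalizer occurs
    letI : CommGroup (N ⧸ U) := { (inferInstance : Group (N ⧸ U)) with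
      mul_comm := fun x y => by
        induction x using QuotientGroup.induction_on with
        | _ a =>
        induction y using QuotientGroup.induction_on with
        | _ b =>
        rw [← QuotientGroup.mk_mul, ← QuotientGroup.mk_mul, QuotientGroup.eq]
        have h1 := habU b⁻¹ a⁻¹
        simpa [mul_assoc] using h1 }
    haveI : Fintype ((N ⧸ U) →* ℂˣ) := Fintype.ofFinite _
    have hsum : ∑ φ : (N ⧸ U) →* ℂˣ, ∑ x : N, (χ : G → ℂ) (x : G) * ((φ (x : N ⧸ U) : ℂˣ) : ℂ) ≠ 0 := by
      rw [Finset.sum_comm, Finset.sum_congr rfl (g := fun x : N => if x ∈ U then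
        (χ : G → ℂ) (x : G) * (Fintype.card ((N ⧸ U) →* ℂˣ) : ℂ) else 0) (fun x _ => ?_),
        ← Finset.sum_filter, Finset.sum_subtype (univ.filter fun x : N => x ∈ U) (p := fun x => x ∈ U)
          (by simp), ← Finset.sum_mul, hUsum χ hχ]
      · exact mul_ne_zero (Nat.cast_ne_zero.mpr (charDegree_pos χ).ne')
          (Nat.cast_ne_zero.mpr Fintype.card_ne_zero)
      · rw [← Finset.mul_sum]
        split_ifs with hx
        · congr 1
          rw [(QuotientGroup.eq_one_iff x).mpr hx]
          simp
        · rw [sum_dual_apply fun h1 => hx ((QuotientGroup.eq_one_iff x).mp h1), mul_zero]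
    obtain ⟨φ, -, hφ⟩ := Finset.exists_ne_zero_of_sum_ne_zero hsum
    choose a ha using fun χ' : IrrCharacter G => exists_mult N χ' (φ.comp (QuotientGroup.mk' U))
    have haχ : 1 ≤ a χ := Nat.pos_of_ne_zero fun h0 => hφ (by
      have := ha χ
      rw [h0, Nat.cast_zero, mul_zero] at this
      exact this)
    have hφ1 : φ ≠ 1 := fun h0 => hφ (by
      rw [h0]
      simp [hn₁ χ, hn0])
    -- the remaining degree is one
    have htot := sum_mult_mul_degree N (φ.comp (QuotientGroup.mk' U)) a ha
    rw [hidx, ← Finset.add_sum_erase _ _ (mem_univ χ), hdeg χ hχ] at htot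
    have hQ1 : 1 < Q := by omega
    have haχ1 : a χ = 1 := by
      rcases Nat.lt_or_ge (a χ) 2 with h2 | h2
      · omega
      · exfalso
        have := Nat.mul_le_mul_right Q h2
        omega
    rw [haχ1, one_mul] at htot
    obtain ⟨χ', hχ', hne'⟩ := Finset.exists_ne_zero_of_sum_ne_zero (s := univ.erase χ)
      (f := fun χ' : IrrCharacter G => a χ' * charDegree (χ' : G → ℂ)) (by omega)
    have hle1 := Finset.single_le_sum (f := fun χ' : IrrCharacter G => a χ' * charDegree (χ' : G → ℂ))
      (fun _ _ => Nat.zero_le _) hχ'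
    have hone : charDegree (χ' : G → ℂ) = 1 := by
      have h1 : charDegree (χ' : G → ℂ) ≤ a χ' * charDegree (χ' : G → ℂ) :=
        Nat.le_mul_of_pos_left _ (Nat.pos_of_ne_zero fun h0 => hne' (by simp [h0]))
      have := charDegree_pos χ'
      omega
    obtain ⟨f, hf⟩ := CharCore.IsCharacter.exists_hom_of_degree_one (CharCore.irr_isCharacter χ')
      (by rw [irr_one_eq, hone, Nat.cast_one])
    -- it is trivial
    refine hne' ?_
    have hzeroN : ∑ x : N, ((φ (x : N ⧸ U) : ℂˣ) : ℂ) = 0 := by
      refine sum_hom_units_eq_zero ((Units.coeHom ℂ).comp (φ.comp (QuotientGroup.mk' U))) fun h1 => hφ1 ?_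
      refine MonoidHom.ext fun w => ?_
      induction w using QuotientGroup.induction_on with
      | _ x => exact Units.ext (DFunLike.congr_fun h1 x)
    have h2 := ha χ'
    rw [Finset.sum_congr rfl (g := fun x : N => ((φ (x : N ⧸ U) : ℂˣ) : ℂ)) (fun x _ => ?_),
      hzeroN] at h2
    · have h3 := (mul_eq_zero.mp h2.symm).resolve_left (Nat.cast_ne_zero.mpr Nat.card_pos.ne')
      simp [show a χ' = 0 by exact_mod_cast h3]
    · rw [hf, hlin f]
      simp
  -- at most one
  have hcardout : out.card ≤ 1 := by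
    have htot := sum_mult_mul_degree N 1 n₁ (fun χ => by simpa using hn₁ χ)
    rw [hidx] at htot
    have hone : oneIrr G ∉ out := fun h0 => (mem_filter.mp h0).2 oneIrr_mem
    have h1 : 1 ≤ n₁ (oneIrr G) * charDegree (oneIrr G : G → ℂ) := by
      refine Nat.mul_pos ?_ (charDegree_pos _)
      refine Nat.pos_of_ne_zero fun h0 => ?_
      have := hn₁ (oneIrr G)
      rw [h0, Nat.cast_zero, mul_zero, coe_oneIrr] at this
      simp at this
    have h2 := Finset.sum_le_sum_of_subset (f := fun χ : IrrCharacter G => n₁ χ * charDegree (χ : G → ℂ))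
      (Finset.subset_univ (insert (oneIrr G) out))
    rw [Finset.sum_insert hone, htot] at h2
    have h3 : out.card * Q ≤ ∑ χ ∈ out, n₁ χ * charDegree (χ : G → ℂ) := by
      rw [← smul_eq_mul, ← Finset.sum_const]
      exact Finset.sum_le_sum fun χ hχ => by
        rw [hdeg χ hχ]; exact Nat.le_mul_of_pos_left _ (hpos1 χ hχ)
    by_contra hgt
    have := Nat.mul_le_mul_right Q (show 2 ≤ out.card by omega)
    omega
  have hkB : Q ≤ Nat.card (principalBlock M G) := by
    have hall : Nat.card (IrrCharacter G) = Q + 1 := CharCore.card_irr.trans hk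
    have : Nat.card (principalBlock M G) + out.card = Q + 1 := by
      rw [← hall, ← Nat.card_eq_finsetCard, ← Nat.card_sum]
      refine Nat.card_congr ((Equiv.sumCongr (Equiv.refl _) (Equiv.subtypeEquivRight fun χ => ?_)).trans
        (Equiv.sumCompl fun χ => χ ∈ principalBlock M G))
      simp [out]
    omega
  have hk1 : Nat.card (principalBlock M G) = blockRank 2 (principalBlock M G) + 1 := by
    refine Nat.eq_of_mul_eq_mul_left (show 0 < e by omega) ?_
    rw [hcnt, mul_add, mul_one]
    omega
  omega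

end Cfsg.Agent.BC84.FreeAuto
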