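import Cfsg.Agent.BC84.FreeAuto.Residual
import Cfsg.Agent.BC84.FreeAuto.Quotient
import Cfsg.Agent.BC84.FreeAuto.Trivial
import Cfsg.Agent.BC84.FreeAuto.Three
import Cfsg.Agent.BC84.FreeAuto.Solvable

/-!
# Abelian Sylow 2-subgroups with an automizer of prime order
-/

set_option autoImplicit false
set_option linter.unusedSectionVars false
set_option linter.style.haveILetI false

namespace Cfsg.Agent.BC84.FreeAuto

open Cfsg BlocksCore BlocksDefect
open scoped Classical

universe u

theorem not_isSolvable_not_normal {G : Type u} [Group G] [Finite G] (P : Sylow 2 G)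
    (hns : ¬ Group.IsSolvable G) : ¬ (P : Subgroup G).Normal := fun hn => hns (by
  haveI := hn
  haveI : Fact (Nat.Prime 2) := ⟨Nat.prime_two⟩
  haveI := P.2.isNilpotent
  haveI : Group.IsSolvable (G ⧸ (P : Subgroup G)) := PF14.feitThompson _
    (Nat.not_even_iff_odd.mp fun hev => P.not_dvd_index
      (by rw [Subgroup.index_eq_card]; exact even_iff_two_dvd.mp hev))
  exact Group.isSolvable_of_ker_le_range (P : Subgroup G).subtype
    (QuotientGroup.mk' (P : Subgroup G)) (by simp))

/-- The free case with trivial core and abelian automizer, at least five automorphisms. -/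
theorem free_five {G : Type u} [Group G] [Fintype G] {M : Ideal AlgInt} (hM : IsPModular 2 M)
    (P : Sylow 2 G) (h : AbelianPrincipal.Free P) (hP1 : (P : Subgroup G) ≠ ⊥)
    (hO : pPrimeCore 2 G = ⊥)
    (he : 5 ≤ (Subgroup.centralizer ((P : Subgroup G) : Set G)).relIndex
      (Subgroup.normalizer ((P : Subgroup G) : Set G)))
    (hab : ∀ g ∈ Subgroup.normalizer ((P : Subgroup G) : Set G),
      ∀ k ∈ Subgroup.normalizer ((P : Subgroup G) : Set G),
        g * k * g⁻¹ * k⁻¹ ∈ Subgroup.centralizer ((P : Subgroup G) : Set G)) :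
    blockRank 2 (principalBlock M G) = (Subgroup.centralizer ((P : Subgroup G) : Set G)).relIndex
        (Subgroup.normalizer ((P : Subgroup G) : Set G)) ∧
      (¬ (P : Subgroup G).Normal → (Subgroup.centralizer ((P : Subgroup G) : Set G)).relIndex
        (Subgroup.normalizer ((P : Subgroup G) : Set G)) + 1 = Nat.card P) := by
  haveI : Fintype (P : Subgroup G) := Fintype.ofFinite _
  by_cases hn : (P : Subgroup G).Normal
  · refine ⟨normal_rank P h hM (hPn := hn) hO hP1 fun g k => ?_, fun h' => absurd hn h'⟩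
    haveI := hn
    exact hab g (by rw [Subgroup.normalizer_eq_top_iff.mpr hn]; trivial) k
      (by rw [Subgroup.normalizer_eq_top_iff.mpr hn]; trivial)
  · obtain ⟨h1, h2⟩ := five_main P h he hO hM hab hn
    exact ⟨h2, fun _ => h1⟩

/-- The free case with trivial core and automizer of prime order. -/
theorem free_prime {G : Type u} [Group G] [Fintype G] {M : Ideal AlgInt} (hM : IsPModular 2 M)
    (P : Sylow 2 G) (h : AbelianPrincipal.Free P) (hP1 : (P : Subgroup G) ≠ ⊥)
    (hO : pPrimeCore 2 G = ⊥)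
    (he : ((Subgroup.centralizer ((P : Subgroup G) : Set G)).relIndex
      (Subgroup.normalizer ((P : Subgroup G) : Set G))).Prime) :
    blockRank 2 (principalBlock M G) = (Subgroup.centralizer ((P : Subgroup G) : Set G)).relIndex
        (Subgroup.normalizer ((P : Subgroup G) : Set G)) ∧
      (¬ Group.IsSolvable G → Nat.card P = (Subgroup.centralizer ((P : Subgroup G) : Set G)).relIndex
        (Subgroup.normalizer ((P : Subgroup G) : Set G)) + 1) := by
  haveI : Fact (Nat.Prime 2) := ⟨Nat.prime_two⟩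
  obtain ⟨-, hc, hsmall⟩ := block_count P hM h hP1
  set e := (Subgroup.centralizer ((P : Subgroup G) : Set G)).relIndex
    (Subgroup.normalizer ((P : Subgroup G) : Set G)) with hedef
  obtain ⟨a, ha⟩ := IsPGroup.iff_card.mp P.2
  have ha0 : a ≠ 0 := fun h0 => hP1 (Subgroup.eq_bot_of_card_eq _ (by rw [ha, h0, pow_zero]))
  have hq : ¬ 2 ∣ Nat.card P - 1 := fun hd => by
    have h2 : 2 ∣ Nat.card P := ha ▸ dvd_pow_self 2 ha0
    have h3 : 0 < Nat.card P := Nat.card_pos
    omega
  have he2 : e ≠ 2 := fun h2 => hq (by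
    have h3 : e ∣ Nat.card P - 1 :=
      (Nat.dvd_add_right (dvd_mul_right e (blockRank 2 (principalBlock M G)))).mp
        (hc ▸ dvd_mul_right e (Nat.card (principalBlock M G)))
    rwa [h2] at h3)
  by_cases h3 : e = 3
  · refine ⟨hsmall (by omega), fun hns => ?_⟩
    rw [h3]
    exact three_main P h hM hO hns h3
  · have h5 : 5 ≤ e := by
      have := he.two_le
      have h4 : e ≠ 4 := fun h4 => absurd (h4 ▸ he) (by decide)
      omega
    obtain ⟨h1, h2⟩ := free_five hM P h hP1 hO h5 (automizer_abelian P h.comm he)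
    exact ⟨h1, fun hns => (h2 (not_isSolvable_not_normal P hns)).symm⟩

/-- The Sylow subgroup in the quotient by the core. -/
theorem exists_core_reduction {G : Type u} [Group G] [Fintype G] {M : Ideal AlgInt}
    (hM : IsPModular 2 M) (P : Sylow 2 G) :
    ∃ P' : Sylow 2 (G ⧸ pPrimeCore 2 G),
      (P' : Subgroup (G ⧸ pPrimeCore 2 G)) = (P : Subgroup G).map (QuotientGroup.mk' _) ∧
      Nat.card P' = Nat.card P ∧
      (IsMulCommutative P → IsMulCommutative P') ∧
      (Subgroup.centralizer ((P' : Subgroup (G ⧸ pPrimeCore 2 G)) : Set (G ⧸ pPrimeCore 2 G))).relIndex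
        (Subgroup.normalizer ((P' : Subgroup (G ⧸ pPrimeCore 2 G)) : Set (G ⧸ pPrimeCore 2 G))) =
        (Subgroup.centralizer ((P : Subgroup G) : Set G)).relIndex
          (Subgroup.normalizer ((P : Subgroup G) : Set G)) ∧
      pPrimeCore 2 (G ⧸ pPrimeCore 2 G) = ⊥ ∧
      Nat.card (principalBlock M (G ⧸ pPrimeCore 2 G)) = Nat.card (principalBlock M G) ∧
      blockRank 2 (principalBlock M (G ⧸ pPrimeCore 2 G)) = blockRank 2 (principalBlock M G) ∧
      (Group.IsSolvable (G ⧸ pPrimeCore 2 G) ↔ Group.IsSolvable G) := by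
  haveI : Fact (Nat.Prime 2) := ⟨Nat.prime_two⟩
  set N := pPrimeCore 2 G with hN
  have hNodd : ¬ 2 ∣ Nat.card N :=
    Nat.prime_two.coprime_iff_not_dvd.mp Thompson.card_pPrimeCore_coprime.symm
  refine ⟨P.mapSurjective (QuotientGroup.mk'_surjective N), Sylow.coe_mapSurjective _ _, ?_, ?_, ?_,
    Thompson.pPrimeCore_quotient_pPrimeCore, (block_quotient hM N hNodd).1,
    (block_quotient hM N hNodd).2, solvable_quotient_iff N hNodd⟩
  · have hdis : ∀ a ∈ (P : Subgroup G), a ∈ N → a = 1 := fun a ha haN => by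
      obtain ⟨k, hk⟩ := IsPGroup.iff_orderOf.mp P.2 ⟨a, ha⟩
      rw [Subgroup.orderOf_mk] at hk
      rcases Nat.eq_zero_or_pos k with rfl | hk0
      · exact orderOf_eq_one_iff.mp (hk.trans (pow_zero 2))
      · exact absurd ((hk ▸ dvd_pow_self 2 hk0.ne').trans (Subgroup.orderOf_dvd_natCard N haN)) hNodd
    rw [Sylow.coe_mapSurjective]
    refine (Nat.card_congr (Equiv.ofBijective
      ((QuotientGroup.mk' N).subgroupMap (P : Subgroup G)) ⟨?_,
        MonoidHom.subgroupMap_surjective _ _⟩)).symm
    intro a b hab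
    have h1 : QuotientGroup.mk' N (a : G) = QuotientGroup.mk' N (b : G) := congrArg Subtype.val hab
    refine Subtype.ext ?_
    have h2 := hdis ((a : G)⁻¹ * b) (mul_mem (inv_mem a.2) b.2) (QuotientGroup.eq.mp h1)
    exact inv_mul_eq_one.mp h2
  · intro hab
    refine ⟨⟨fun x y => ?_⟩⟩
    obtain ⟨_, a, ha, rfl⟩ := x
    obtain ⟨_, b, hb, rfl⟩ := y
    refine Subtype.ext ?_
    show QuotientGroup.mk' N a * QuotientGroup.mk' N b = QuotientGroup.mk' N b * QuotientGroup.mk' N a
    rw [← map_mul, ← map_mul]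
    exact congrArg _ (congrArg Subtype.val (hab.is_comm.comm ⟨a, ha⟩ ⟨b, hb⟩))
  · rw [Sylow.coe_mapSurjective]
    exact relIndex_quotient P N hNodd

/-- The invariants for an automizer of prime order. -/
theorem structure_prime {G : Type u} [Group G] [Fintype G] {M : Ideal AlgInt} (hM : IsPModular 2 M)
    (P : Sylow 2 G) (hab : IsMulCommutative P)
    (he : ((Subgroup.centralizer ((P : Subgroup G) : Set G)).relIndex
      (Subgroup.normalizer ((P : Subgroup G) : Set G))).Prime) :
    blockRank 2 (principalBlock M G) = (Subgroup.centralizer ((P : Subgroup G) : Set G)).relIndex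
        (Subgroup.normalizer ((P : Subgroup G) : Set G)) ∧
      ∃ m q : ℕ, Nat.card P = m * q ∧ 1 < q ∧
        (Subgroup.centralizer ((P : Subgroup G) : Set G)).relIndex
          (Subgroup.normalizer ((P : Subgroup G) : Set G)) ∣ q - 1 ∧
        Nat.card (principalBlock M G) = m * ((Subgroup.centralizer ((P : Subgroup G) : Set G)).relIndex
          (Subgroup.normalizer ((P : Subgroup G) : Set G)) + (q - 1) /
            (Subgroup.centralizer ((P : Subgroup G) : Set G)).relIndex
              (Subgroup.normalizer ((P : Subgroup G) : Set G))) ∧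
        (¬ Group.IsSolvable G → q = (Subgroup.centralizer ((P : Subgroup G) : Set G)).relIndex
          (Subgroup.normalizer ((P : Subgroup G) : Set G)) + 1) := by
  haveI : Fact (Nat.Prime 2) := ⟨Nat.prime_two⟩
  haveI := Fintype.ofFinite (G ⧸ pPrimeCore 2 G)
  obtain ⟨P', -, hcard, hcomm, hrel, hO, hk, hl, hsol⟩ := exists_core_reduction hM P
  rw [← hrel] at he
  obtain ⟨K, hKn, Q, -, hfree, hQne, hrelQ, hcardQ, hkK, hlK, hsolK⟩ :=
    residual_reduction P' (hcomm hab) he hM
  haveI : Fintype K := Fintype.ofFinite _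
  haveI := hKn
  have hOK : pPrimeCore 2 K = ⊥ := by
    have h1 := Thompson.map_pPrimeCore_normal_le (p := 2) K
    rw [hO, le_bot_iff] at h1
    exact (Subgroup.map_eq_bot_iff_of_injective _ K.subtype_injective).mp h1
  rw [← hrelQ] at he
  obtain ⟨hl', hq'⟩ := free_prime hM Q hfree hQne hOK he
  obtain ⟨-, hc, -⟩ := block_count Q hM hfree hQne
  rw [hrelQ, hrel] at hl' hq' hc he
  set e := (Subgroup.centralizer ((P : Subgroup G) : Set G)).relIndex
    (Subgroup.normalizer ((P : Subgroup G) : Set G)) with hedef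
  refine ⟨?_, K.index, Nat.card Q, ?_, Subgroup.one_lt_card_iff_ne_bot _ |>.mpr hQne, ?_, ?_, ?_⟩
  · rw [← hl, hlK, hl']
  · rw [← hcard, hcardQ]
  · exact (Nat.dvd_add_right (dvd_mul_right e (blockRank 2 (principalBlock M K)))).mp
      (hc ▸ dvd_mul_right e (Nat.card (principalBlock M K)))
  · rw [← hk, hkK]
    congr 1
    rw [hl'] at hc
    obtain ⟨d, hd⟩ : e ∣ Nat.card Q - 1 := (Nat.dvd_add_right (dvd_mul_right e e)).mp
      (hc ▸ dvd_mul_right e (Nat.card (principalBlock M K)))
    rw [hd, Nat.mul_div_cancel_left _ he.pos]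
    rw [hd, ← mul_add] at hc
    exact Nat.eq_of_mul_eq_mul_left he.pos hc
  · exact fun hns => hq' fun hs => hns (hsol.mp (hsolK hs))

end Cfsg.Agent.BC84.FreeAuto
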