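import Cfsg.Agent.BC84.FreeAuto.Local
import Cfsg.Agent.Lib.Transfer.Focal
import Cfsg.Agent.BC85.Pairs.Pair

/-!
# Normal subgroups and overgroups of a Sylow subgroup with free automizer
-/

set_option autoImplicit false
set_option linter.unusedSectionVars false
set_option linter.style.haveILetI false

namespace Cfsg.Agent.BC84.FreeAuto

open Cfsg BlocksCore Subgroup

universe u

variable {G : Type u} [Group G] [Fintype G] (P : Sylow 2 G) (h : AbelianPrincipal.Free P)

local notation "N(P)" => Subgroup.normalizer ((P : Subgroup G) : Set G)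
local notation "C(P)" => Subgroup.centralizer ((P : Subgroup G) : Set G)

include h

theorem mem_normalizer_subtype (S : Subgroup G) (hle : (P : Subgroup G) ≤ S) (x : S) :
    x ∈ normalizer ((P.subtype hle : Subgroup S) : Set S) ↔ (x : G) ∈ N(P) := by
  rw [Sylow.coe_subtype, mem_normalizer_iff, mem_normalizer_iff]
  constructor
  · intro hx a
    constructor
    · intro ha
      exact (hx ⟨a, hle ha⟩).mp ha
    · intro ha
      have haS : a ∈ S := by
        have := mul_mem (mul_mem (inv_mem x.2) (hle ha)) x.2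
        simpa [mul_assoc] using this
      exact (hx ⟨a, haS⟩).mpr ha
  · intro hx a
    exact hx (a : G)

theorem mem_centralizer_subtype (S : Subgroup G) (hle : (P : Subgroup G) ≤ S) (x : S) :
    x ∈ centralizer ((P.subtype hle : Subgroup S) : Set S) ↔ (x : G) ∈ C(P) := by
  rw [Sylow.coe_subtype, mem_centralizer_iff, mem_centralizer_iff]
  exact ⟨fun hx a ha => congrArg Subtype.val (hx ⟨a, hle ha⟩ ha),
    fun hx a ha => Subtype.ext (hx (a : G) ha)⟩

/-- Free automizers pass to subgroups containing `P`. -/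
theorem free_subtype (S : Subgroup G) (hle : (P : Subgroup G) ≤ S) :
    AbelianPrincipal.Free (P.subtype hle) where
  comm := ⟨⟨fun a b => Subtype.ext (Subtype.ext (h.comm' _ a.2 _ b.2))⟩⟩
  cent y hy hy1 := by
    ext x
    rw [mem_inf, mem_normalizer_subtype P h, mem_centralizer_subtype P h, ← h.cent (y : G) hy
      (fun h0 => hy1 (Subtype.ext h0)), mem_inf, mem_centralizer_singleton_iff,
      mem_centralizer_singleton_iff, Subtype.ext_iff]
    rfl

theorem relIndex_subtype_dvd (S : Subgroup G) (hle : (P : Subgroup G) ≤ S) :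
    (centralizer ((P.subtype hle : Subgroup S) : Set S)).relIndex
        (normalizer ((P.subtype hle : Subgroup S) : Set S)) ∣ (C(P)).relIndex N(P) := by
  have e1 : centralizer ((P.subtype hle : Subgroup S) : Set S) = (C(P)).subgroupOf S :=
    Subgroup.ext fun x => mem_centralizer_subtype P h S hle x
  have e2 : normalizer ((P.subtype hle : Subgroup S) : Set S) = (N(P) ⊓ S).subgroupOf S :=
    Subgroup.ext fun x => by rw [mem_normalizer_subtype P h, mem_subgroupOf, mem_inf]; exact (and_iff_left x.2).symm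
  rw [e1, e2, relIndex_subgroupOf inf_le_right]
  haveI : ((C(P)).subgroupOf N(P)).Normal := normal_subgroupOf_of_le_normalizer fun g hg => by
    exact BC85.normalizer_le_normalizer_centralizer _ hg
  have h1 := relIndex_dvd_index_of_normal ((C(P)).subgroupOf N(P)) ((N(P) ⊓ S).subgroupOf N(P))
  rwa [relIndex_subgroupOf inf_le_left] at h1

variable (hO : pPrimeCore 2 G = ⊥)
include hO

/-- With trivial core and nonsolvable group, nontrivial normal subgroups are nonsolvable and
contain `P`. -/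
theorem normal_contains (hns : ¬ Group.IsSolvable G) (S : Subgroup G) [hSn : S.Normal] (hS : S ≠ ⊥) :
    ∃ hle : (P : Subgroup G) ≤ S, ¬ Group.IsSolvable S ∧
      ∃ n ∈ S, n ∈ N(P) ∧ n ∉ C(P) := by
  classical
  haveI : Fact (Nat.Prime 2) := ⟨Nat.prime_two⟩
  -- no nontrivial solvable normal subgroup
  have hSns : ¬ Group.IsSolvable S := by
    intro hsol
    obtain ⟨n, hn⟩ := hsol.solvable
    have hex : ∃ k, derivedSeries S k = ⊥ := ⟨n, hn⟩
    obtain ⟨m, hm⟩ : ∃ m, Nat.find hex = m + 1 := Nat.exists_eq_succ_of_ne_zero fun h0 => by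
      have := Nat.find_spec hex
      rw [h0, derivedSeries_zero] at this
      exact hS (by
        have h1 := congrArg (Subgroup.map S.subtype) this
        rwa [← MonoidHom.range_eq_map, range_subtype, Subgroup.map_bot] at h1)
    set A₀ := (derivedSeries S m).map S.subtype with hA₀
    haveI : (derivedSeries S m).Characteristic := derivedSeries_characteristic S m
    haveI : A₀.Normal := ConjAct.normal_of_characteristic_of_normal
    have hA0 : A₀ ≠ ⊥ := by
      rw [hA₀, Ne, map_eq_bot_iff_of_injective _ S.subtype_injective]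
      exact Nat.find_min hex (by omega)
    have hcomm : ∀ a ∈ A₀, ∀ b ∈ A₀, a * b = b * a := by
      rintro _ ⟨a, ha, rfl⟩ _ ⟨b, hb, rfl⟩
      have h1 : derivedSeries S (m + 1) = ⊥ := hm ▸ Nat.find_spec hex
      rw [derivedSeries_succ, commutator_eq_bot_iff_le_centralizer] at h1
      exact congrArg Subtype.val (mem_centralizer_iff.mp (h1 hb) a ha)
    have h2grp : ∀ a ∈ A₀, ¬ 2 ∣ orderOf a → a = 1 := by
      intro a ha hodd
      let X : Subgroup G :=
        { carrier := {x | x ∈ A₀ ∧ ¬ 2 ∣ orderOf x}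
          one_mem' := ⟨one_mem _, by rw [orderOf_one]; exact Nat.prime_two.not_dvd_one⟩
          mul_mem' := fun {x y} hx hy => ⟨mul_mem hx.1 hy.1, fun hd =>
            (Nat.prime_two.dvd_mul.mp (hd.trans (Commute.orderOf_mul_dvd_mul_orderOf
              (hcomm x hx.1 y hy.1)))).elim hx.2 hy.2⟩
          inv_mem' := fun {x} hx => ⟨inv_mem hx.1, by rw [orderOf_inv]; exact hx.2⟩ }
      haveI : X.Normal := ⟨fun x hx g => ⟨(inferInstance : A₀.Normal).conj_mem x hx.1 g, by
        rw [orderOf_conj]; exact hx.2⟩⟩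
      have hX : ¬ 2 ∣ Nat.card X := fun hd => by
        obtain ⟨x, hx⟩ := exists_prime_orderOf_dvd_card' (G := X) 2 hd
        exact x.2.2 (by rw [Subgroup.orderOf_coe, hx])
      have := Thompson.le_pPrimeCore (p := 2) (N := X) inferInstance
        (Nat.prime_two.coprime_iff_not_dvd.mpr hX).symm
      rw [hO] at this
      exact mem_bot.mp (this ⟨ha, hodd⟩)
    have hA0p : IsPGroup 2 A₀ := by
      rw [IsPGroup.iff_orderOf]
      intro a
      obtain ⟨y, z, hyz, -, ⟨k, hk⟩, hz, -, hzp⟩ := exists_isPPart (p := 2) Nat.prime_two (a : G)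
      refine ⟨k, ?_⟩
      rw [← Subgroup.orderOf_coe, ← hyz, h2grp z (zpowers_le.mpr a.2 hzp) hz, mul_one, hk]
    have hA0P : A₀ ≤ (P : Subgroup G) := by
      obtain ⟨T, hT⟩ := hA0p.exists_le_sylow
      obtain ⟨c, hc⟩ := MulAction.exists_smul_eq G T P
      intro a ha
      rw [← hc]
      exact ⟨c⁻¹ * a * c, hT (by simpa using (inferInstance : A₀.Normal).conj_mem a ha c⁻¹), by simp [mul_assoc]⟩
    obtain ⟨⟨a, ha⟩, hne⟩ := ne_bot_iff_exists_ne_one.mp hA0
    have ha1 : a ≠ 1 := fun h0 => hne (Subtype.ext h0)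
    set CA := centralizer ((A₀ : Subgroup G) : Set G) with hCA
    haveI : CA.Normal := normal_centralizer
    haveI : Group.IsSolvable CA := by
      haveI := isSolvable_centralizer P h (hA0P ha) ha1
      exact Group.isSolvable_of_isSolvable_injective
        (inclusion_injective (show CA ≤ centralizer ({a} : Set G) from
          centralizer_le (by simpa using ha)))
    haveI : Group.IsSolvable (G ⧸ CA) := by
      refine PF14.feitThompson _ (Nat.not_even_iff_odd.mp fun hev => ?_)
      refine P.not_dvd_index ?_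
      refine (even_iff_two_dvd.mp hev).trans (index_dvd_of_le ?_)
      exact fun b hb => mem_centralizer_iff.mpr fun x hx => h.comm' x (hA0P hx) b hb
    exact hns (Group.isSolvable_of_ker_le_range CA.subtype (QuotientGroup.mk' CA) (by simp))
  -- Burnside transfer in `S`
  obtain ⟨T, hT⟩ := Transfer.exists_sylow_subgroupOf_normal P S
  obtain ⟨n, hn, hnC⟩ : ∃ n : S, n ∈ normalizer ((T : Subgroup S) : Set S) ∧
      n ∉ centralizer ((T : Subgroup S) : Set S) := by
    by_contra hall
    push Not at hall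
    set K := (MonoidHom.transferSylow T hall).ker
    haveI : (pPrimeCore 2 S).Characteristic := inferInstance
    have hK : ¬ 2 ∣ Nat.card K := MonoidHom.not_dvd_card_ker_transferSylow T hall
    have hKbot : K = ⊥ := by
      have h1 := (Subgroup.map_mono (f := S.subtype) (Thompson.le_pPrimeCore (p := 2) (N := K)
        inferInstance (Nat.prime_two.coprime_iff_not_dvd.mpr hK).symm)).trans
          (Thompson.map_pPrimeCore_normal_le S)
      rw [hO, le_bot_iff, map_eq_bot_iff_of_injective _ S.subtype_injective] at h1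
      exact h1
    have hc := (MonoidHom.ker_transferSylow_isComplement' T hall).card_mul
    rw [show (MonoidHom.transferSylow T hall).ker = ⊥ from hKbot, Subgroup.card_bot, one_mul] at hc
    obtain ⟨k, hk⟩ := IsPGroup.iff_card.mp T.2
    haveI := (IsPGroup.of_card (n := k) (hc.symm.trans hk) : IsPGroup 2 S).isNilpotent
    exact hSns inferInstance
  have hTmem : ∀ x : S, x ∈ (T : Subgroup S) ↔ (x : G) ∈ (P : Subgroup G) := fun x => by
    rw [hT]; rfl
  -- an element of `C(T)` moving `n` into the normalizer of `P`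
  obtain ⟨a, haT, ha1⟩ : ∃ a : S, a ∈ (T : Subgroup S) ∧ (a : G) ≠ 1 := by
    by_contra hno
    push Not at hno
    exact hnC (mem_centralizer_iff.mpr fun x hx => Subtype.ext (by simp [hno x hx]))
  have hnN : ∀ x : S, x ∈ (T : Subgroup S) → n * x * n⁻¹ ∈ (T : Subgroup S) := fun x hx =>
    (mem_normalizer_iff.mp hn x).mp hx
  set CT := centralizer (((T : Subgroup S).map S.subtype : Subgroup G) : Set G) with hCT
  have hPCT : (P : Subgroup G) ≤ CT := fun b hb => mem_centralizer_iff.mpr (by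
    rintro _ ⟨x, hx, rfl⟩
    exact h.comm' _ ((hTmem x).mp hx) b hb)
  have hnN' : ∀ x : S, x ∈ (T : Subgroup S) → n⁻¹ * x * n ∈ (T : Subgroup S) := fun x hx => by
    have := (mem_normalizer_iff.mp (inv_mem hn) x).mp hx
    rwa [inv_inv] at this
  have hnPCT : ∀ b ∈ (P : Subgroup G), (n : G) * b * (n : G)⁻¹ ∈ CT := fun b hb =>
    mem_centralizer_iff.mpr (by
      rintro _ ⟨x, hx, rfl⟩
      have h1 := h.comm' _ ((hTmem _).mp (hnN' x hx)) b hb
      calc (x : G) * ((n : G) * b * (n : G)⁻¹)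
          = (n : G) * (((n⁻¹ * x * n : S) : G) * b) * (n : G)⁻¹ := by push_cast; group
        _ = (n : G) * (b * ((n⁻¹ * x * n : S) : G)) * (n : G)⁻¹ := by rw [h1]
        _ = _ := by push_cast; simp only [Subgroup.coe_subtype]; group)
  obtain ⟨c, hc, hcn⟩ : ∃ c ∈ CT, c * (n : G) ∈ N(P) := by
    have hle' : ((MulAut.conj (n : G) • P : Sylow 2 G) : Subgroup G) ≤ CT := by
      rintro _ ⟨b, hb, rfl⟩
      exact hnPCT b hb
    obtain ⟨c, hc⟩ := MulAction.exists_smul_eq CT ((MulAut.conj (n : G) • P : Sylow 2 G).subtype hle')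
      (P.subtype hPCT)
    refine ⟨c, c.2, mem_normalizer_iff_map_conj_eq.mpr ?_⟩
    have h1 := congrArg (fun X : Sylow 2 CT => (X : Subgroup CT).map CT.subtype) hc
    simp only [Sylow.coe_subtype, subgroupOf_map_subtype, inf_eq_left.mpr hPCT] at h1
    refine le_antisymm ?_ ?_
    · rintro _ ⟨b, hb, rfl⟩
      rw [← h1]
      refine ⟨c * ⟨(n : G) * b * (n : G)⁻¹, hnPCT b hb⟩ * c⁻¹, ⟨_, ⟨b, hb, rfl⟩, rfl⟩, ?_⟩
      simp [mul_assoc]
    · intro b hb
      rw [← h1] at hb
      obtain ⟨_, ⟨w, ⟨b', hb', hw⟩, rfl⟩, rfl⟩ := hb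
      refine ⟨b', hb', ?_⟩
      show (c : G) * (n : G) * b' * ((c : G) * (n : G))⁻¹ = _
      have hw' : (n : G) * b' * (n : G)⁻¹ = (w : G) := hw
      simp [← hw', mul_assoc]
  set n' := c * (n : G) with hn'
  have hn'C : n' ∉ C(P) := by
    intro hC
    refine hnC (mem_centralizer_iff.mpr fun x hx => Subtype.ext ?_)
    have hxP := (hTmem x).mp hx
    have h1 := mem_centralizer_iff.mp hC (x : G) hxP
    have h2 : (x : G) * c = c * (x : G) := mem_centralizer_iff.mp hc (x : G) ⟨x, hx, rfl⟩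
    rw [hn', ← mul_assoc, h2, mul_assoc, mul_assoc] at h1
    exact mul_left_cancel h1
  -- commutators with `n'` fill `P` and lie in `S`
  obtain ⟨hiff, hodd, ⟨K, hKn, hK⟩, -⟩ := oddCent_spec P h ((hTmem a).mp haT) ha1
  obtain ⟨b, hb, k, hk, hck⟩ := exists_decomp P h ((hTmem a).mp haT) ha1
    ((mem_centralizer_iff.mp hc (a : G) ⟨a, haT, rfl⟩).symm : Commute c (a : G))
  have hkey : ∀ u ∈ (P : Subgroup G), n' * u * n'⁻¹ * u⁻¹ ∈ S := by
    intro u hu
    set π := QuotientGroup.mk' S
    have hπn : π (n : G) = 1 := (QuotientGroup.eq_one_iff _).mpr n.2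
    set p := n' * u * n'⁻¹ * u⁻¹ with hp
    set d := b * (k * u * k⁻¹ * u⁻¹) * b⁻¹ with hd
    have hpd : π p = π d := by
      have hd' : d = c * u * c⁻¹ * u⁻¹ := by
        rw [hd, hck]
        calc b * (k * u * k⁻¹ * u⁻¹) * b⁻¹ = b * k * u * k⁻¹ * (u⁻¹ * b⁻¹) := by group
          _ = b * k * u * k⁻¹ * (b⁻¹ * u⁻¹) := by rw [h.comm' u⁻¹ (inv_mem hu) b⁻¹ (inv_mem hb)]
          _ = _ := by group
      rw [hd', hp, hn']
      simp only [map_mul, map_inv, hπn, mul_one]
    have hd0 : d ∈ oddCent (a : G) := by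
      have hconj : ∀ g : G, g ∈ (P : Subgroup G) → ∀ x ∈ oddCent (a : G), g * x * g⁻¹ ∈ oddCent (a : G) :=
        fun g hg x hx => (hiff _).mpr ⟨by
          have hga : Commute g (a : G) := h.comm' g hg _ ((hTmem a).mp haT)
          exact (hga.mul_left ((hiff x).mp hx).1).mul_left hga.inv_left, by
          rw [orderOf_conj]; exact ((hiff x).mp hx).2⟩
      refine hconj b hb _ ?_
      have : k * u * k⁻¹ * u⁻¹ = k * (u * k⁻¹ * u⁻¹) := by group
      rw [this]
      exact mul_mem hk (hconj u hu _ (inv_mem hk))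
    have hpP : p ∈ (P : Subgroup G) :=
      mul_mem ((mem_normalizer_iff.mp hcn u).mp hu) (inv_mem hu)
    have h1 : orderOf (π p) ∣ orderOf p := orderOf_map_dvd π p
    have h2 : orderOf (π p) ∣ orderOf d := hpd ▸ orderOf_map_dvd π d
    obtain ⟨j, hj⟩ := IsPGroup.iff_orderOf.mp P.2 ⟨p, hpP⟩
    rw [Subgroup.orderOf_mk] at hj
    rw [hj] at h1
    obtain ⟨i, -, hi⟩ := (Nat.dvd_prime_pow Nat.prime_two).mp h1
    rcases Nat.eq_zero_or_pos i with rfl | hi0
    · exact (QuotientGroup.eq_one_iff _).mp (orderOf_eq_one_iff.mp (hi.trans (pow_zero 2)))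
    · exact absurd ((hi ▸ dvd_pow_self 2 hi0.ne').trans h2) ((hiff d).mp hd0).2
  have hle : (P : Subgroup G) ≤ S := by
    intro p hp
    let f : ↥(P : Subgroup G) → ↥(P : Subgroup G) := fun u => ⟨n' * u * n'⁻¹ * (u : G)⁻¹,
      mul_mem ((mem_normalizer_iff.mp hcn u).mp u.2) (inv_mem u.2)⟩
    have hinj : Function.Injective f := by
      intro u v huv
      by_contra hne
      have h1 : n' * u * n'⁻¹ * (u : G)⁻¹ = n' * v * n'⁻¹ * (v : G)⁻¹ := congrArg Subtype.val huv
      have hw : (v : G)⁻¹ * u ≠ 1 := fun h0 => hne (Subtype.ext (inv_mul_eq_one.mp h0).symm)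
      refine hn'C (h.cent _ (mul_mem (inv_mem v.2) u.2) hw ▸ ⟨?_, hcn⟩)
      refine mem_centralizer_singleton_iff.mpr ?_
      have h2 : n' * u * n'⁻¹ = n' * v * n'⁻¹ * (v : G)⁻¹ * u := mul_inv_eq_iff_eq_mul.mp h1
      calc n' * ((v : G)⁻¹ * u) = n' * (v : G)⁻¹ * n'⁻¹ * (n' * u * n'⁻¹) * n' := by group
        _ = (v : G)⁻¹ * u * n' := by rw [h2]; group
    obtain ⟨u, hu⟩ := (Finite.injective_iff_surjective.mp hinj) ⟨p, hp⟩
    have h1 : n' * u * n'⁻¹ * (u : G)⁻¹ = p := congrArg Subtype.val hu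
    exact h1 ▸ hkey u u.2
  refine ⟨hle, hSns, (n : G), n.2, ?_, ?_⟩
  · refine mem_normalizer_iff.mpr fun g => ⟨fun hg => (hTmem _).mp (hnN ⟨g, hle hg⟩ ((hTmem _).mpr hg)),
      fun hg => ?_⟩
    have hgS : g ∈ S := by
      have := mul_mem (mul_mem (inv_mem n.2) (hle hg)) n.2
      simpa [mul_assoc] using this
    exact (hTmem ⟨g, hgS⟩).mp ((mem_normalizer_iff.mp hn ⟨g, hgS⟩).mpr ((hTmem _).mpr hg))
  · intro hC
    exact hnC (mem_centralizer_iff.mpr fun x hx =>
      Subtype.ext (mem_centralizer_iff.mp hC (x : G) ((hTmem x).mp hx)))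

end Cfsg.Agent.BC84.FreeAuto
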