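import Cfsg.Agent.BC84.FreeAuto.Local
import Cfsg.Agent.InvChar68.CharTools
import Cfsg.Agent.Lib.BlocksDefect.Lifting

/-!
# The class equation over the section of an element of an abelian Sylow 2-subgroup
-/

set_option autoImplicit false
set_option linter.unusedSectionVars false
set_option linter.style.haveILetI false

namespace Cfsg.Agent.BC84.FreeAuto

open Cfsg BlocksCore BlocksDefect CyclicPrincipal Subgroup
open scoped Classical ComplexConjugate

universe u

variable {G : Type u} [Group G] [Fintype G] {M : Ideal AlgInt} {P : Sylow 2 G}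
  (h : AbelianPrincipal.Free P)

include h

/-- The sum of a character over the coset `y K` of the 2-complement of the centralizer of `y`. -/
theorem sum_coset (hM : IsPModular 2 M) {y : G} (hy : y ∈ (P : Subgroup G)) (hy1 : y ≠ 1)
    (χ : IrrCharacter G) :
    ∑ c : oddCent y, (χ : G → ℂ) (y * (c : G)) =
      if χ ∈ principalBlock M G then (Nat.card (oddCent y) : ℂ) * (χ : G → ℂ) y else 0 := by
  haveI : Fact (Nat.Prime 2) := ⟨Nat.prime_two⟩
  have := isPrime hM
  obtain ⟨K, hKn, hKodd, hreg, -⟩ := exists_kernel P h hy hy1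
  obtain ⟨k, hk⟩ := IsPGroup.iff_orderOf.mp P.2 ⟨y, hy⟩
  rw [Subgroup.orderOf_mk] at hk
  obtain ⟨hiff, -, -, -⟩ := oddCent_spec P h hy hy1
  let eqv : oddCent y ≃ K :=
    { toFun := fun c => ⟨⟨c, mem_centralizer_singleton_iff.mpr ((hiff c).mp c.2).1⟩,
        hreg _ (by rw [Subgroup.orderOf_mk]; exact ((hiff c).mp c.2).2)⟩
      invFun := fun x => ⟨((x : centralizer ({y} : Set G)) : G), (hiff _).mpr
        ⟨mem_centralizer_singleton_iff.mp (x : centralizer ({y} : Set G)).2, by
          rw [Subgroup.orderOf_coe]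
          exact not_two_dvd_of_dvd (Subgroup.orderOf_dvd_natCard K x.2) hKodd⟩⟩
      left_inv := fun c => rfl
      right_inv := fun x => rfl }
  by_cases hχ : χ ∈ principalBlock M G
  · have hc : ∀ c ∈ (Finset.univ : Finset (oddCent y)), (χ : G → ℂ) (y * (c : G)) = (χ : G → ℂ) y :=
      fun c _ => SectionKernel.apply_mul hM hk hKodd hreg hχ (eqv c).2
    rw [if_pos hχ, Finset.sum_congr rfl hc, Finset.sum_const, Finset.card_univ,
      nsmul_eq_mul, Nat.card_eq_fintype_card]
  · rw [if_neg hχ]
    have hnot : ¬ IsInducedBlock M (centralizer ({y} : Set G))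
        (principalBlock M (centralizer ({y} : Set G))) (blockOf M (χ : G → ℂ)) := fun hi =>
      hχ (eq_principal_of_inducing hM hi ▸ mem_blockOf_self χ)
    have h1 := sum_blockCoeff_section_eq_zero hM hk isPBlock_principal hnot
      (1 : centralizer ({y} : Set G))
      (by rw [orderOf_one]; exact Nat.prime_two.not_dvd_one)
    rw [SectionKernel.blockCoeff_principal hM K hKodd hreg] at h1
    simp only [OneMemClass.coe_one, mul_one] at h1
    rw [sum_subInd_mul] at h1
    have h2 := (mul_eq_zero.mp h1).resolve_left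
      (inv_ne_zero (Nat.cast_ne_zero.mpr Nat.card_pos.ne'))
    rw [← h2]
    refine Fintype.sum_equiv eqv _ _ fun c => ?_
    show (χ : G → ℂ) (y * (c : G)) = (χ : G → ℂ) ((c : G) * y)
    rw [((hiff c).mp c.2).1.eq]

/-- The contribution of the principal block at the section of `y`. -/
noncomputable def gamma (M : Ideal AlgInt) (t y : G) : ℂ :=
  ∑ χ ∈ members M G, (χ : G → ℂ) t ^ 2 / (χ : G → ℂ) 1 * (χ : G → ℂ) y

/-- Pairs of conjugates of `t` with product in the section of `y`. -/
theorem card_section_pairs (hM : IsPModular 2 M) {t y : G} (hy : y ∈ (P : Subgroup G))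
    (hy1 : y ≠ 1) :
    (∑ c : oddCent y, (Nat.card {q : G × G // IsConj t q.1 ∧ IsConj t q.2 ∧
        q.1 * q.2 = (y * (c : G))⁻¹} : ℂ)) * Nat.card G =
      (Nat.card {z : G // IsConj t z} : ℂ) ^ 2 * ((Nat.card (oddCent y) : ℂ) * gamma M t y) := by
  have := isPrime hM
  rw [Finset.sum_mul, Finset.sum_congr rfl fun c _ => InvChar68.card_pairs_mul_card t _,
    ← Finset.mul_sum]
  congr 1
  rw [Finset.sum_comm, gamma, Finset.mul_sum,
    ← Finset.sum_subset (Finset.subset_univ (members M G))]
  · refine Finset.sum_congr rfl fun χ hχ => ?_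
    rw [Finset.sum_congr rfl (g := fun c : oddCent y => ((χ : G → ℂ) t ^ 2 / (χ : G → ℂ) 1) *
      (χ : G → ℂ) (y * (c : G))) (fun c _ => by rw [conj_irr, inv_inv]; ring), ← Finset.mul_sum,
      sum_coset h hM hy hy1, if_pos (mem_members.mp hχ)]
    ring
  · intro χ _ hχ
    rw [Finset.sum_congr rfl (g := fun c : oddCent y => ((χ : G → ℂ) t ^ 2 / (χ : G → ℂ) 1) *
      (χ : G → ℂ) (y * (c : G))) (fun c _ => by rw [conj_irr, inv_inv]; ring), ← Finset.mul_sum,
      sum_coset h hM hy hy1, if_neg (fun hm => hχ (mem_members.mpr hm)), mul_zero]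

end Cfsg.Agent.BC84.FreeAuto
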