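import Cfsg.Agent.BC84.FreeAuto.Strong
import Cfsg.Agent.BC84.FreeAuto.Sections

/-!
# Counting pairs of involutions with product in the section of an involution
-/

set_option autoImplicit false
set_option linter.unusedSectionVars false
set_option linter.style.haveILetI false

namespace Cfsg.Agent.BC84.FreeAuto

open Cfsg BlocksCore Subgroup
open scoped Classical

universe u

variable {G : Type u} [Group G] [Fintype G]

/-- The elements of `U` inverted by `b`. -/
noncomputable def inv' (b : G) (U : Subgroup G) : ℕ := Nat.card {i : G // i ∈ U ∧ b * i * b = i⁻¹}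

theorem inv'_pos (b : G) (U : Subgroup G) (hb : b * b = 1) : 0 < inv' b U :=
  Nat.card_pos_iff.mpr ⟨⟨⟨1, one_mem _, by rw [mul_one, hb, inv_one]⟩⟩, inferInstance⟩

theorem bbc (b x : G) (hb : b * b = 1) : b * (b * x * b) * b = x := by
  calc b * (b * x * b) * b = (b * b) * x * (b * b) := by group
    _ = x := by rw [hb, one_mul, mul_one]

theorem eq_of_mul_self_eq {x y : G} (hx : ¬ 2 ∣ orderOf x) (hy : ¬ 2 ∣ orderOf y)
    (he : x * x = y * y) : x = y := by
  have hn : ¬ 2 ∣ orderOf x * orderOf y := fun hd =>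
    (Nat.prime_two.dvd_mul.mp hd).elim hx hy
  obtain ⟨m, hm⟩ := Nat.not_even_iff_odd.mp fun hev => hn (even_iff_two_dvd.mp hev)
  have hpow : ∀ g : G, orderOf g ∣ orderOf x * orderOf y → (g * g) ^ (m + 1) = g := fun g hg => by
    rw [← pow_two, ← pow_mul, show 2 * (m + 1) = (2 * m + 1) + 1 by ring, pow_succ, ← hm,
      orderOf_dvd_iff_pow_eq_one.mp hg, one_mul]
  rw [← hpow x (dvd_mul_right _ _), he, hpow y (dvd_mul_left _ _)]

theorem commute_of_mul_self {x y : G} (hy : ¬ 2 ∣ orderOf y) (hc : Commute x (y * y)) :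
    Commute x y := by
  obtain ⟨m, hm⟩ := Nat.not_even_iff_odd.mp fun hev => hy (even_iff_two_dvd.mp hev)
  have he : (y * y) ^ (m + 1) = y := by
    rw [← pow_two, ← pow_mul, show 2 * (m + 1) = (2 * m + 1) + 1 by ring, pow_succ, ← hm,
      pow_orderOf_eq_one, one_mul]
  exact he ▸ hc.pow_right (m + 1)

/-- An involution acting on a group of odd order: fixed points times inverted elements. -/
theorem card_eq_fix_mul_inv {U : Subgroup G} (hU : ¬ 2 ∣ Nat.card U) {b : G} (hb : b * b = 1)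
    (hn : ∀ u ∈ U, b * u * b ∈ U) :
    Nat.card U = Nat.card (U ⊓ centralizer ({b} : Set G) : Subgroup G) * inv' b U := by
  obtain ⟨m, hm⟩ := Nat.not_even_iff_odd.mp fun hev => hU (even_iff_two_dvd.mp hev)
  have hodd : ∀ u ∈ U, ¬ 2 ∣ orderOf u := fun u hu =>
    fun hd => hU (hd.trans (Subgroup.orderOf_dvd_natCard U hu))
  have hroot : ∀ i ∈ U, i ^ (m + 1) * i ^ (m + 1) = i := fun i hi => by
    rw [← pow_add, show m + 1 + (m + 1) = Nat.card U + 1 by omega, pow_succ,
      orderOf_dvd_iff_pow_eq_one.mp (Subgroup.orderOf_dvd_natCard U hi), one_mul]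
  have hinvroot : ∀ i, b * i * b = i⁻¹ → b * i ^ (m + 1) * b = (i ^ (m + 1))⁻¹ := fun i hi => by
    have hbi : b⁻¹ = b := inv_eq_of_mul_eq_one_right hb
    calc b * i ^ (m + 1) * b = b * i ^ (m + 1) * b⁻¹ := by rw [hbi]
      _ = (b * i * b⁻¹) ^ (m + 1) := conj_pow.symm
      _ = _ := by rw [hbi, hi, inv_pow]
  rw [inv', ← Nat.card_prod]
  symm
  refine Nat.card_eq_of_bijective
    (fun q : ↥(U ⊓ centralizer ({b} : Set G) : Subgroup G) × {i : G // i ∈ U ∧ b * i * b = i⁻¹} =>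
      (⟨(q.1 : G) * q.2.1 ^ (m + 1), mul_mem q.1.2.1 (pow_mem q.2.2.1 _)⟩ : U)) ⟨?_, ?_⟩
  · rintro ⟨⟨c, hcU, hcb⟩, ⟨i, hiU, hi⟩⟩ ⟨⟨c', hcU', hcb'⟩, ⟨i', hiU', hi'⟩⟩ hq
    have h1 : c * i ^ (m + 1) = c' * i' ^ (m + 1) := congrArg Subtype.val hq
    set r := i ^ (m + 1) with hr
    set r' := i' ^ (m + 1) with hr'
    have hd : r' * r⁻¹ = c'⁻¹ * c := by
      rw [mul_inv_eq_iff_eq_mul, mul_assoc, h1, inv_mul_cancel_left]
    have hcomm : b * (r' * r⁻¹) * b = r' * r⁻¹ := by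
      rw [hd]
      have h2 : b * (c'⁻¹ * c) = c'⁻¹ * c * b :=
        ((Commute.inv_right (mem_centralizer_singleton_iff.mp hcb' : Commute c' b).symm).mul_right
          (mem_centralizer_singleton_iff.mp hcb : Commute c b).symm).eq
      rw [h2, mul_assoc (c'⁻¹ * c), hb, mul_one]
    have hexp : b * (r' * r⁻¹) * b = r'⁻¹ * r := by
      calc b * (r' * r⁻¹) * b = (b * r' * b) * (b * r⁻¹ * b) := by
            rw [show (b * r' * b) * (b * r⁻¹ * b) = b * r' * (b * b) * r⁻¹ * b by group, hb]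
            group
        _ = (b * r' * b) * (b * r * b)⁻¹ := by
            congr 1
            rw [mul_inv_rev, mul_inv_rev, inv_eq_of_mul_eq_one_right hb, mul_assoc]
        _ = r'⁻¹ * r := by rw [hinvroot i hi, hinvroot i' hi', inv_inv]
    have hsq : r' * r' = r * r := by
      have h3 := hexp.symm.trans hcomm
      calc r' * r' = r' * (r' * r⁻¹) * r := by group
        _ = r' * (r'⁻¹ * r) * r := by rw [h3]
        _ = r * r := by group
    obtain rfl : i = i' := by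
      rw [← hroot i hiU, ← hroot i' hiU', ← hr, ← hr', hsq]
    obtain rfl : c = c' := mul_right_cancel h1
    rfl
  · rintro ⟨u, hu⟩
    set i := b * u⁻¹ * b * u with hidef
    have hiU : i ∈ U := mul_mem (hn _ (inv_mem hu)) hu
    have hbi : b⁻¹ = b := inv_eq_of_mul_eq_one_right hb
    have hi : b * i * b = i⁻¹ := by
      rw [hidef, mul_inv_rev, mul_inv_rev, mul_inv_rev, inv_inv, hbi,
        show b * (b * u⁻¹ * b * u) * b = (b * b) * (u⁻¹ * b * u * b) by group, hb, one_mul]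
      group
    have hcU : u * (i ^ (m + 1))⁻¹ ∈ U := mul_mem hu (inv_mem (pow_mem hiU _))
    refine ⟨⟨⟨u * (i ^ (m + 1))⁻¹, hcU, ?_⟩, ⟨i, hiU, hi⟩⟩,
      Subtype.ext ?_⟩
    · refine mem_centralizer_singleton_iff.mpr ?_
      set r := i ^ (m + 1) with hr
      have hbr : b * r⁻¹ * b = r := by
        have := congrArg (fun x => x⁻¹) (hinvroot i hi)
        simpa [mul_inv_rev, hbi, mul_assoc] using this
      have e1 : b * (u * r⁻¹) * b = (b * u * b) * r := by
        conv_rhs => rw [← hbr, show b * u * b * (b * r⁻¹ * b) = b * u * (b * b) * r⁻¹ * b by group, hb]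
        group
      have e2 : b * u * b = u * r⁻¹ * r⁻¹ := by
        rw [mul_assoc u, ← mul_inv_rev, hroot i hiU, hidef, mul_inv_rev, mul_inv_rev, mul_inv_rev,
          inv_inv, hbi]
        group
      have e3 : b * (u * r⁻¹) * b = u * r⁻¹ := by rw [e1, e2]; group
      calc u * r⁻¹ * b = b * (u * r⁻¹) * b * b := by rw [e3]
        _ = b * (u * r⁻¹) := by rw [mul_assoc, hb, mul_one]
    · exact inv_mul_cancel_right _ _

variable (P : Sylow 2 G) (h : AbelianPrincipal.Free P)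

local notation "N(P)" => Subgroup.normalizer ((P : Subgroup G) : Set G)
local notation "C(P)" => Subgroup.centralizer ((P : Subgroup G) : Set G)

include h

theorem conj_oddCent {τ b : G} (hτ : τ ∈ Om P h) (hτ1 : τ ≠ 1) (hb : b ∈ Om P h) {u : G}
    (hu : u ∈ oddCent τ) : b * u * b ∈ oddCent τ := by
  obtain ⟨hiff, -⟩ := oddCent_spec P h hτ.1 hτ1
  obtain ⟨hc, ho⟩ := (hiff u).mp hu
  have hbi : b⁻¹ = b := inv_eq_of_mul_eq_one_right hb.2
  have hcb : Commute b τ := h.comm' b hb.1 τ hτ.1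
  refine (hiff _).mpr ⟨(hcb.mul_left hc).mul_left hcb, ?_⟩
  rwa [show b * u * b = b * u * b⁻¹ by rw [hbi], orderOf_conj]

theorem card_oddCent_eq {a a' : G} (ha : IsConj a a') :
    Nat.card (oddCent a) = Nat.card (oddCent a') := by
  obtain ⟨n, hn⟩ := isConj_iff.mp ha
  rw [← hn, ← oddCent_map n a]
  exact Nat.card_congr ((oddCent a).equivMapOfInjective _ (MulAut.conj n).injective).toEquiv

theorem inv'_eq {τ b : G} (hτ : τ ∈ Om P h) (hτ1 : τ ≠ 1) (hb : b ∈ Om P h) (hbτ : b * τ ≠ 1)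
    (hcard : Nat.card (oddCent τ) = Nat.card (oddCent (b * τ))) :
    inv' b (oddCent τ) = inv' b (oddCent (b * τ)) := by
  have hbτO : b * τ ∈ Om P h := mul_mem hb hτ
  obtain ⟨hiff, hodd, -⟩ := oddCent_spec P h hτ.1 hτ1
  obtain ⟨hiff', hodd', -⟩ := oddCent_spec P h hbτO.1 hbτ
  have hD : (oddCent (b * τ) ⊓ centralizer ({b} : Set G) : Subgroup G) =
      oddCent τ ⊓ centralizer ({b} : Set G) := by
    ext g
    simp only [mem_inf, mem_centralizer_singleton_iff, hiff, hiff']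
    constructor
    · rintro ⟨⟨h1, ho⟩, h2⟩
      have : Commute g (b * (b * τ)) := (show Commute g b from h2).mul_right h1
      rw [← mul_assoc, hb.2, one_mul] at this
      exact ⟨⟨this, ho⟩, h2⟩
    · rintro ⟨⟨h1, ho⟩, h2⟩
      exact ⟨⟨(show Commute g b from h2).mul_right h1, ho⟩, h2⟩
  have e1 := card_eq_fix_mul_inv hodd hb.2 fun u hu => conj_oddCent P h hτ hτ1 hb hu
  have e2 := card_eq_fix_mul_inv hodd' hb.2 fun u hu => conj_oddCent P h hbτO hbτ hb hu
  rw [hD, ← hcard, e1] at e2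
  exact Nat.eq_of_mul_eq_mul_left Nat.card_pos e2

variable [Fintype (P : Subgroup G)]
  (he : (5 : ℕ) ≤ (Subgroup.centralizer ((P : Subgroup G) : Set G)).relIndex
    (Subgroup.normalizer ((P : Subgroup G) : Set G)))
include he

theorem inv'_mul_le {τ b : G} (hτ : τ ∈ Om P h) (hτ1 : τ ≠ 1) (hb : b ∈ Om P h) (hbτ : b * τ ≠ 1) :
    inv' b (oddCent τ) * inv' b (oddCent (b * τ)) ≤ inv' b (Wsub P h) := by
  have hbτO : b * τ ∈ Om P h := mul_mem hb hτ
  obtain ⟨hiff, hodd, -⟩ := oddCent_spec P h hτ.1 hτ1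
  obtain ⟨hiff', hodd', -⟩ := oddCent_spec P h hbτO.1 hbτ
  have hbi : b⁻¹ = b := inv_eq_of_mul_eq_one_right hb.2
  have hcbτ : Commute τ b := h.comm' τ hτ.1 b hb.1
  rw [inv', inv', inv', ← Nat.card_prod]
  refine Nat.card_le_card_of_injective
    (fun q : {i : G // i ∈ oddCent τ ∧ b * i * b = i⁻¹} ×
        {i : G // i ∈ oddCent (b * τ) ∧ b * i * b = i⁻¹} =>
      (⟨q.1.1 * q.2.1 * q.1.1, mul_mem (mul_mem (oddCent_le_Wsub P h hτ.1 hτ1 q.1.2.1)
        (oddCent_le_Wsub P h hbτO.1 hbτ q.2.2.1)) (oddCent_le_Wsub P h hτ.1 hτ1 q.1.2.1), by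
        calc b * (q.1.1 * q.2.1 * q.1.1) * b
            = (b * q.1.1 * b⁻¹) * (b * q.2.1 * b⁻¹) * (b * q.1.1 * b⁻¹) * (b * b) := by group
          _ = (q.1.1 * q.2.1 * q.1.1)⁻¹ := by
            rw [hbi, q.1.2.2, q.2.2.2, hb.2, mul_one]; group⟩ :
        {i : G // i ∈ Wsub P h ∧ b * i * b = i⁻¹})) ?_
  rintro ⟨⟨y, hy, hyb⟩, ⟨z, hz, hzb⟩⟩ ⟨⟨y', hy', hyb'⟩, ⟨z', hz', hzb'⟩⟩ hq
  have h1 : y * z * y = y' * z' * y' := congrArg Subtype.val hq
  -- apply `τ`
  have hcy : ∀ {x : G}, x ∈ oddCent τ → τ * x * τ = x := fun {x} hx => by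
    rw [← ((hiff x).mp hx).1.eq, mul_assoc, hτ.2, mul_one]
  have hcz : ∀ {x : G}, x ∈ oddCent (b * τ) → b * x * b = x⁻¹ → τ * x * τ = x⁻¹ := fun {x} hx hxb => by
    have hc := ((hiff' x).mp hx).1.eq
    calc τ * x * τ = b * ((b * τ) * x) * τ := by
          rw [show b * ((b * τ) * x) * τ = (b * b) * τ * x * τ by group, hb.2, one_mul]
      _ = b * (x * (b * τ)) * τ := by rw [hc]
      _ = b * x * b * (τ * τ) := by group
      _ = x⁻¹ := by rw [hxb, hτ.2, mul_one]
  have h2 : y * z⁻¹ * y = y' * z'⁻¹ * y' := by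
    have hmul : ∀ p q : G, τ * (p * q) * τ = (τ * p * τ) * (τ * q * τ) := fun p q => by
      rw [show (τ * p * τ) * (τ * q * τ) = τ * p * (τ * τ) * q * τ by group, hτ.2]
      group
    have := congrArg (fun x => τ * x * τ) h1
    rwa [hmul, hmul, hmul (y' * z'), hmul y', hcy hy, hcy hy', hcz hz hzb, hcz hz' hzb'] at this
  set u := (y * y'⁻¹) * (y'⁻¹ * y) with hu
  have hz1 : z' = (y'⁻¹ * y) * z * (y * y'⁻¹) := by
    calc z' = y'⁻¹ * (y' * z' * y') * y'⁻¹ := by group
      _ = y'⁻¹ * (y * z * y) * y'⁻¹ := by rw [h1]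
      _ = _ := by group
  have hz2 : z' = (y * y'⁻¹)⁻¹ * z * (y'⁻¹ * y)⁻¹ := by
    calc z' = ((y'⁻¹) * (y' * z'⁻¹ * y') * y'⁻¹)⁻¹ := by group
      _ = ((y'⁻¹) * (y * z⁻¹ * y) * y'⁻¹)⁻¹ := by rw [h2]
      _ = _ := by group
  have huz : u * z * u = z := by
    calc u * z * u = (y * y'⁻¹) * ((y'⁻¹ * y) * z * (y * y'⁻¹)) * (y'⁻¹ * y) := by rw [hu]; group
      _ = (y * y'⁻¹) * ((y * y'⁻¹)⁻¹ * z * (y'⁻¹ * y)⁻¹) * (y'⁻¹ * y) := by rw [← hz1, hz2]
      _ = z := by group
  have huK : u ∈ oddCent τ := mul_mem (mul_mem hy (inv_mem hy')) (mul_mem (inv_mem hy') hy)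
  have hz3 : z⁻¹ * u * z = u⁻¹ := by
    calc z⁻¹ * u * z = z⁻¹ * (u * z * u) * u⁻¹ := by group
      _ = _ := by rw [huz]; group
  have hc2 : Commute u (z * z) := by
    show u * (z * z) = z * z * u
    calc u * (z * z) = z * (z⁻¹ * u * z) * z := by group
      _ = z * u⁻¹ * z := by rw [hz3]
      _ = z * (z * (z⁻¹ * u * z)⁻¹) := by group
      _ = _ := by rw [hz3, inv_inv, mul_assoc]
  have hc := commute_of_mul_self ((hiff' z).mp hz).2 hc2
  have hu2 : u * u = 1 := by
    have e : u = u⁻¹ := by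
      rw [← hz3, mul_assoc, hc.eq, inv_mul_cancel_left]
    nth_rewrite 2 [e]
    exact mul_inv_cancel u
  have hu1 := eq_one_of_sq hu2 ((hiff u).mp huK).2
  have hsq : y * y = y' * y' := by
    have e : (y'⁻¹ * y') = 1 := inv_mul_cancel _
    calc y * y = y * y'⁻¹ * (y'⁻¹ * y) * ((y'⁻¹ * y)⁻¹ * y' * y) := by group
      _ = u * ((y'⁻¹ * y)⁻¹ * y' * y) := by rw [hu]
      _ = y⁻¹ * y' * y' * y := by rw [hu1, one_mul]; group
      _ = y' * y' := by
        have h5 : u = 1 := hu1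
        rw [hu] at h5
        have h6 : y'⁻¹ * y'⁻¹ = y⁻¹ * y⁻¹ := by
          calc y'⁻¹ * y'⁻¹ = y⁻¹ * ((y * y'⁻¹) * (y'⁻¹ * y)) * y⁻¹ := by group
            _ = _ := by rw [h5, mul_one]
        have h7 : y' * y' = y * y := by
          have := congrArg (fun x => x⁻¹) h6
          simpa [mul_inv_rev] using this
        rw [mul_assoc y⁻¹, h7]
        group
  obtain rfl : y = y' := eq_of_mul_self_eq ((hiff y).mp hy).2 ((hiff y').mp hy').2 hsq
  obtain rfl : z = z' := mul_left_cancel (mul_right_cancel h1)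
  rfl

variable (hO : pPrimeCore 2 G = ⊥) (hW : Wsub P h ≠ ⊥)
include hO hW

/-- Pairs of involutions with product in the section of the involution `τ`. -/
theorem card_pairs_le {τ : G} (hτ : τ ∈ Om P h) (hτ1 : τ ≠ 1) :
    (∑ c : oddCent τ, Nat.card {q : G × G // IsConj τ q.1 ∧ IsConj τ q.2 ∧
        q.1 * q.2 = (τ * (c : G))⁻¹}) * Nat.card (oddCent τ) ≤
      ((C(P)).relIndex N(P) - 1) * Nat.card (Wsub P h) := by
  obtain ⟨hiff, hodd, -, -⟩ := oddCent_spec P h hτ.1 hτ1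
  have hτ2 : orderOf τ = 2 := orderOf_Om P h hτ hτ1
  set B := {b : Om P h // (b : G) ≠ 1 ∧ (b : G) ≠ τ}
  have hB : Nat.card B = (C(P)).relIndex N(P) - 1 := by
    rw [relIndex_eq_card_Om P h he hO hW, Nat.sub_sub, Nat.card_eq_fintype_card,
      Nat.card_eq_fintype_card, Fintype.card_subtype]
    have : (Finset.univ.filter fun b : Om P h => (b : G) ≠ 1 ∧ (b : G) ≠ τ) =
        Finset.univ \ {1, ⟨τ, hτ⟩} := by
      ext b
      simp only [Finset.mem_filter, Finset.mem_univ, true_and, Finset.mem_sdiff, Finset.mem_insert,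
        Finset.mem_singleton, not_or]
      exact and_congr (not_congr (Subtype.ext_iff (a1 := b) (a2 := 1)).symm)
        (not_congr (Subtype.ext_iff (a1 := b) (a2 := ⟨τ, hτ⟩)).symm)
    rw [this, Finset.card_univ_sdiff, Finset.card_pair fun h0 => hτ1 (congrArg Subtype.val h0).symm]
  have hbound : ∀ b : B, inv' (b.1 : G) (oddCent τ) * inv' (b.1 : G) (oddCent τ) *
      Nat.card (oddCent τ) ≤ Nat.card (Wsub P h) := by
    rintro ⟨⟨b, hb⟩, hb1, hbτ⟩
    show inv' b _ * inv' b _ * _ ≤ _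
    have hne : b * τ ≠ 1 := fun h0 => hbτ (by
      calc b = b * τ * τ := by rw [mul_assoc, hτ.2, mul_one]
        _ = τ := by rw [h0, one_mul])
    have hbτO : b * τ ∈ Om P h := mul_mem hb hτ
    have hc : Nat.card (oddCent τ) = Nat.card (oddCent (b * τ)) :=
      card_oddCent_eq P h (isConj_inv P h he hO hW hτ2 (orderOf_Om P h hbτO hne))
    have hcb : Nat.card (oddCent τ) = Nat.card (oddCent b) :=
      card_oddCent_eq P h (isConj_inv P h he hO hW hτ2 (orderOf_Om P h hb hb1))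
    have hle := inv'_mul_le P h he hτ hτ1 hb hne
    rw [← inv'_eq P h hτ hτ1 hb hne hc] at hle
    refine le_trans (Nat.mul_le_mul_right _ hle) (le_of_eq ?_)
    rw [mul_comm]
    have hn : ∀ u ∈ Wsub P h, b * u * b ∈ Wsub P h := fun u hu => by
      have := (mem_normalizer_iff.mp (Hsub_le_normalizer_Wsub P h (le_Hsub P h hb.1)) u).mp hu
      rwa [inv_eq_of_mul_eq_one_right hb.2] at this
    rw [card_eq_fix_mul_inv (W_odd P h he) hb.2 hn]
    congr 1
    rw [hcb]
    obtain ⟨hiffb, -⟩ := oddCent_spec P h hb.1 hb1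
    refine Nat.card_congr (Equiv.subtypeEquivRight fun g => ?_)
    simp only [hiffb, mem_inf, mem_centralizer_singleton_iff]
    exact ⟨fun hh => ⟨oddCent_le_Wsub P h hb.1 hb1 ((hiffb g).mpr hh), hh.1⟩,
      fun hh => ⟨hh.2, mem_Wsub_odd P h he hh.1⟩⟩
  calc _ ≤ (∑ b : B, inv' (b.1 : G) (oddCent τ) * inv' (b.1 : G) (oddCent τ)) *
        Nat.card (oddCent τ) := by
        refine Nat.mul_le_mul_right _ ?_
        simp only [inv']
        rw [← Nat.card_sigma, Finset.sum_congr rfl (fun b (_ : b ∈ Finset.univ) => (Nat.card_prod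
          {i : G // i ∈ oddCent τ ∧ (b.1 : G) * i * (b.1 : G) = i⁻¹}
          {i : G // i ∈ oddCent τ ∧ (b.1 : G) * i * (b.1 : G) = i⁻¹}).symm), ← Nat.card_sigma]
        have key : ∀ q : (c : oddCent τ) × {q : G × G // IsConj τ q.1 ∧ IsConj τ q.2 ∧
            q.1 * q.2 = (τ * (c : G))⁻¹},
            ∃ b : B, ∃ k : {i : G // i ∈ oddCent τ ∧ (b.1 : G) * i * (b.1 : G) = i⁻¹} ×
              {i : G // i ∈ oddCent τ ∧ (b.1 : G) * i * (b.1 : G) = i⁻¹},
              q.2.1.1 = (b.1 : G) * k.1.1 ∧ q.1.1 = k.2.1⁻¹ * k.1.1 := by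
          rintro ⟨⟨c, hc⟩, ⟨⟨x, z⟩, hx, hz, hxz⟩⟩
          obtain ⟨hcτ, hco⟩ := (hiff c).mp hc
          have hsq : ∀ {w : G}, IsConj τ w → w * w = 1 := fun {w} hw => by
            obtain ⟨d, rfl⟩ := isConj_iff.mp hw
            rw [conj_mul, hτ.2, mul_one, mul_inv_cancel]
          have hne1 : ∀ {w : G}, IsConj τ w → w ≠ 1 := fun {w} hw h0 =>
            hτ1 (isConj_one_left.mp (h0 ▸ hw))
          have hxi : x⁻¹ = x := inv_eq_of_mul_eq_one_right (hsq hx)
          have hzi : z⁻¹ = z := inv_eq_of_mul_eq_one_right (hsq hz)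
          change x * z = (τ * c)⁻¹ at hxz
          have hzx : z * x = τ * c := by
            have := congrArg (fun w => w⁻¹) hxz
            simpa [mul_inv_rev, hxi, hzi] using this
          haveI : Fact (Nat.Prime 2) := ⟨Nat.prime_two⟩
          have hxτ : Commute x τ := by
            have h1 : IsPPart 2 (τ * c) τ := ⟨c, rfl, hcτ.symm, ⟨1, by rw [pow_one, hτ2]⟩, hco⟩
            have h2 : IsPPart 2 ((τ * c)⁻¹) τ := ⟨c⁻¹, by
                rw [mul_inv_rev, inv_eq_of_mul_eq_one_right hτ.2]; exact hcτ.inv_left.eq.symm,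
              hcτ.inv_left.symm, ⟨1, by rw [pow_one, hτ2]⟩, by rwa [orderOf_inv]⟩
            have h3 := BlocksCore.isPPart_conj h1 x
            have h4 : x * (τ * c) * x⁻¹ = (τ * c)⁻¹ := by
              rw [← hzx, mul_inv_rev, hxi, hzi, show x * (z * x) * x = x * z * (x * x) by group,
                hsq hx, mul_one]
            rw [h4] at h3
            exact mul_inv_eq_iff_eq_mul.mp (BlocksCore.isPPart_unique Nat.prime_two h3 h2)
          obtain ⟨b, hbP, k, hk, rfl⟩ := exists_decomp P h hτ.1 hτ1 hxτ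
          obtain ⟨hkτ, hko⟩ := (hiff k).mp hk
          have hbb : b⁻¹ * k * b ∈ oddCent τ := (hiff _).mpr ⟨by
            have hcb : Commute b τ := h.comm' b hbP τ hτ.1
            exact (hcb.inv_left.mul_left hkτ).mul_left hcb, by
              have := orderOf_conj b⁻¹ k
              rw [inv_inv] at this
              rwa [this]⟩
          have hb2 : b * b = 1 := by
            refine eq_one_of_mem_odd P (mul_mem hbP hbP) ?_
            have h5 : b * b = ((b⁻¹ * k * b) * k)⁻¹ := by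
              refine eq_inv_of_mul_eq_one_left ?_
              calc b * b * (b⁻¹ * k * b * k) = b * k * (b * k) := by group
                _ = 1 := hsq hx
            rw [h5, orderOf_inv]
            exact fun hd => hodd (hd.trans (Subgroup.orderOf_dvd_natCard _ (mul_mem hbb hk)))
          have hbinv : b⁻¹ = b := inv_eq_of_mul_eq_one_right hb2
          have hkb : b * k * b = k⁻¹ := by
            refine eq_inv_of_mul_eq_one_left ?_
            calc b * k * b * k = b * k * (b * k) := by group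
              _ = 1 := hsq hx
          have hz' : z = b * τ * (k * c⁻¹) := by
            calc z = (b * k)⁻¹ * ((b * k) * z) := by group
              _ = (b * k) * (τ * c)⁻¹ := by rw [hxz, hxi]
              _ = b * (k * c⁻¹ * τ⁻¹) := by group
              _ = b * (τ * (k * c⁻¹)) := by
                rw [inv_eq_of_mul_eq_one_right hτ.2, (hkτ.mul_left hcτ.inv_left).eq]
              _ = _ := (mul_assoc _ _ _).symm
          have hb1 : b ≠ 1 := fun h0 => hne1 hx (by
            rw [h0, one_mul]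
            exact eq_one_of_sq (by simpa [h0] using hsq hx) hko)
          have hbne : b ≠ τ := fun h0 => hne1 hz (by
            rw [hz', h0, hτ.2, one_mul]
            exact eq_one_of_sq (by simpa [hz', h0, hτ.2] using hsq hz)
              ((hiff _).mp (mul_mem hk (inv_mem hc))).2)
          have hk' : b * (k * c⁻¹) * b = (k * c⁻¹)⁻¹ := by
            refine eq_inv_of_mul_eq_one_left ?_
            have h6 := hsq hz
            rw [hz'] at h6
            have hkc : τ * (k * c⁻¹) = k * c⁻¹ * τ := (hkτ.mul_left hcτ.inv_left).eq.symm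
            have hbτ' : τ * b = b * τ := h.comm' τ hτ.1 b hbP
            calc b * (k * c⁻¹) * b * (k * c⁻¹)
                = b * (τ * τ) * (k * c⁻¹) * b * (k * c⁻¹) := by rw [hτ.2, mul_one]
              _ = b * τ * (τ * (k * c⁻¹)) * b * (k * c⁻¹) := by group
              _ = b * τ * (k * c⁻¹) * (τ * b) * (k * c⁻¹) := by rw [hkc]; group
              _ = b * τ * (k * c⁻¹) * (b * τ * (k * c⁻¹)) := by rw [hbτ']; group
              _ = 1 := h6
          exact ⟨⟨⟨b, hbP, hb2⟩, hb1, hbne⟩, (⟨k, hk, hkb⟩,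
            ⟨k * c⁻¹, mul_mem hk (inv_mem hc), hk'⟩), rfl, by simp⟩
        choose fb fk hf1 hf2 using key
        refine Nat.card_le_card_of_injective (fun q => (⟨fb q, fk q⟩ :
          (b : B) × ({i : G // i ∈ oddCent τ ∧ (b.1 : G) * i * (b.1 : G) = i⁻¹} ×
              {i : G // i ∈ oddCent τ ∧ (b.1 : G) * i * (b.1 : G) = i⁻¹}))) fun p q hpq => ?_
        have e := congrArg (fun s : (b : B) × ({i : G // i ∈ oddCent τ ∧ (b.1 : G) * i * (b.1 : G) = i⁻¹} ×
              {i : G // i ∈ oddCent τ ∧ (b.1 : G) * i * (b.1 : G) = i⁻¹}) =>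
            ((s.1.1 : G) * s.2.1.1, s.2.2.1⁻¹ * s.2.1.1)) hpq
        simp only [← hf1, ← hf2, Prod.mk.injEq] at e
        obtain ⟨⟨c, hc⟩, ⟨⟨x, z⟩, hx, hz, hxz⟩⟩ := p
        obtain ⟨⟨c', hc'⟩, ⟨⟨x', z'⟩, hx', hz', hxz'⟩⟩ := q
        obtain ⟨rfl : x = x', rfl : c = c'⟩ := e
        obtain rfl : z = z' := mul_left_cancel (hxz.trans hxz'.symm)
        rfl
    _ ≤ _ := by
      rw [Finset.sum_mul]
      refine (Finset.sum_le_card_nsmul _ _ _ fun b _ => hbound b).trans (le_of_eq ?_)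
      rw [smul_eq_mul, Finset.card_univ, ← Nat.card_eq_fintype_card, hB]

/-- The bound on the principal part at an involution. -/
theorem gamma_bound {M : Ideal AlgInt} (hM : IsPModular 2 M) {τ : G} (hτ : τ ∈ Om P h)
    (hτ1 : τ ≠ 1) : ∃ γ : ℝ, gamma M τ τ = (γ : ℂ) ∧ 0 ≤ γ ∧
      γ * (((C(P)).relIndex N(P) : ℝ) * (Hsub P h).index) ≤
        (((C(P)).relIndex N(P) : ℝ) - 1) * Nat.card P := by
  have h1 := card_section_pairs h hM (t := τ) hτ.1 hτ1
  have h2 := card_pairs_le P h he hO hW hτ hτ1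
  set S := ∑ c : oddCent τ, Nat.card {q : G × G // IsConj τ q.1 ∧ IsConj τ q.2 ∧
    q.1 * q.2 = (τ * (c : G))⁻¹} with hS
  set c := Nat.card (oddCent τ) with hc
  set e := (C(P)).relIndex N(P) with hedef
  set w := Nat.card (Wsub P h) with hw
  set Q := Nat.card P with hQ
  set N := (Hsub P h).index with hN
  rw [← Nat.cast_sum, ← hS] at h1
  have hG : Nat.card G = N * (w * (Q * e)) := by
    rw [← card_Hsub P h he, mul_comm, Subgroup.card_mul_index]
  have hcl : Nat.card {z : G // IsConj τ z} * (Q * c) = Nat.card G := by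
    obtain ⟨-, -, -, hCc⟩ := oddCent_spec P h hτ.1 hτ1
    rw [← hCc]
    exact InvChar68.card_isConj_mul_card_centralizer τ
  set cl := Nat.card {z : G // IsConj τ z}
  have hc0 : (c : ℂ) ≠ 0 := Nat.cast_ne_zero.mpr Nat.card_pos.ne'
  have hG0 : (Nat.card G : ℂ) ≠ 0 := Nat.cast_ne_zero.mpr Nat.card_pos.ne'
  have hkey : gamma M τ τ * (Nat.card G : ℂ) = (S : ℂ) * (Q : ℂ) ^ 2 * c := by
    have hcl' : (cl : ℂ) * ((Q : ℂ) * c) = Nat.card G := by exact_mod_cast hcl
    refine mul_right_cancel₀ hG0 ?_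
    linear_combination ((Q : ℂ) ^ 2 * c * 1) * (-h1) +
      (-(gamma M τ τ) * ((cl : ℂ) * ((Q : ℂ) * c) + Nat.card G)) * hcl'
  have hGR : (0 : ℝ) < Nat.card G := Nat.cast_pos.mpr Nat.card_pos
  refine ⟨((S * Q ^ 2 * c : ℕ) : ℝ) / Nat.card G, ?_, div_nonneg (Nat.cast_nonneg _) hGR.le, ?_⟩
  · push_cast
    rw [eq_div_iff hG0]
    exact hkey
  · rw [div_mul_eq_mul_div, div_le_iff₀ hGR, hG]
    have he1 : 1 ≤ e := by omega
    have h3 : ((S * c : ℕ) : ℝ) ≤ (((e - 1) * w : ℕ) : ℝ) := Nat.cast_le.mpr h2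
    push_cast [Nat.cast_sub he1] at h3 ⊢
    have h4 := mul_le_mul_of_nonneg_left h3
      (show (0 : ℝ) ≤ (Q : ℝ) ^ 2 * ((e : ℝ) * N) by positivity)
    nlinarith

end Cfsg.Agent.BC84.FreeAuto
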