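import Cfsg.Agent.Lib.BlocksDefect.PIndexAbelian
import Cfsg.Agent.Lib.Transfer.Focal
import Cfsg.Agent.BC85.Pairs.Principal
import Cfsg.Agent.BC84.Covering
import Cfsg.Agent.BC84.FreeAuto.Local

/-!
# The Sylow subgroup of the residual has a free automizer
-/

set_option autoImplicit false
set_option linter.unusedSectionVars false
set_option linter.style.haveILetI false

namespace Cfsg.Agent.BC84.FreeAuto

open Cfsg BlocksCore BlocksDefect Finset
open scoped Classical

universe u

variable {G : Type u} [Group G] [Fintype G] (P : Sylow 2 G)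

local notation "N(P)" => Subgroup.normalizer ((P : Subgroup G) : Set G)
local notation "C(P)" => Subgroup.centralizer ((P : Subgroup G) : Set G)

variable (hab : IsMulCommutative P)
  (he : ((Subgroup.centralizer ((P : Subgroup G) : Set G)).relIndex
    (Subgroup.normalizer ((P : Subgroup G) : Set G))).Prime)
include hab he

theorem exists_odd_generator : ∃ a ∈ N(P), a ∉ C(P) ∧ ¬ 2 ∣ orderOf a ∧
    ∀ n ∈ N(P), ∃ i : ℕ, ∃ c ∈ C(P), n = a ^ i * c := by
  haveI : Fact (Nat.Prime 2) := ⟨Nat.prime_two⟩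
  obtain ⟨a, ha, hac⟩ : ∃ a ∈ N(P), a ∉ C(P) := by
    by_contra hall
    push Not at hall
    rw [Subgroup.relIndex_eq_one.mpr hall] at he
    exact Nat.not_prime_one he
  have hPC : (P : Subgroup G) ≤ C(P) := fun x hx => Subgroup.mem_centralizer_iff.mpr fun b hb =>
    congrArg Subtype.val (hab.is_comm.comm ⟨b, hb⟩ ⟨x, hx⟩)
  obtain ⟨y, z, hyz, -, ⟨k, hk⟩, hz, hyp, hzp⟩ := exists_isPPart (p := 2) Nat.prime_two a
  have hyN : y ∈ N(P) := Subgroup.zpowers_le.mpr ha hyp
  have hzN : z ∈ N(P) := Subgroup.zpowers_le.mpr ha hzp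
  have hyP : y ∈ (P : Subgroup G) := by
    obtain ⟨T, hT⟩ := (IsPGroup.of_card (n := k) (by rw [Nat.card_zpowers, Subgroup.orderOf_mk, hk]) :
      IsPGroup 2 (Subgroup.zpowers (⟨y, hyN⟩ : N(P)))).exists_le_sylow
    haveI : ((P.subtype Subgroup.le_normalizer : Sylow 2 N(P)) : Subgroup N(P)).Normal := by
      rw [Sylow.coe_subtype]
      exact Subgroup.normal_in_normalizer
    haveI := Sylow.unique_of_normal (P.subtype Subgroup.le_normalizer : Sylow 2 N(P)) inferInstance
    rw [Subsingleton.elim T (P.subtype Subgroup.le_normalizer)] at hT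
    exact hT (Subgroup.mem_zpowers _)
  refine ⟨z, hzN, fun hzC => hac (hyz ▸ mul_mem (hPC hyP) hzC), hz, fun n hn => ?_⟩
  set Cn := (C(P)).subgroupOf N(P) with hCn
  haveI : Cn.Normal := Subgroup.normal_subgroupOf_of_le_normalizer fun g hg => by
    refine Subgroup.mem_normalizer_iff.mpr fun x => ?_
    simp only [Subgroup.mem_centralizer_iff]
    constructor
    · intro hx b hb
      have hb' := (Subgroup.mem_normalizer_iff''.mp hg b).mp hb
      calc b * (g * x * g⁻¹) = g * ((g⁻¹ * b * g) * x) * g⁻¹ := by group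
        _ = g * (x * (g⁻¹ * b * g)) * g⁻¹ := by rw [hx _ hb']
        _ = g * x * g⁻¹ * b := by group
    · intro hx b hb
      have hb' := (Subgroup.mem_normalizer_iff.mp hg b).mp hb
      calc b * x = g⁻¹ * ((g * b * g⁻¹) * (g * x * g⁻¹)) * g := by group
        _ = g⁻¹ * ((g * x * g⁻¹) * (g * b * g⁻¹)) * g := by rw [hx _ hb']
        _ = x * b := by group
  haveI : Fact (Nat.card (N(P) ⧸ Cn)).Prime := ⟨he⟩
  have hne : (QuotientGroup.mk (⟨z, hzN⟩ : N(P)) : N(P) ⧸ Cn) ≠ 1 := fun h1 =>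
    hac (hyz ▸ mul_mem (hPC hyP) (show z ∈ C(P) from (QuotientGroup.eq_one_iff (⟨z, hzN⟩ : N(P))).mp h1))
  have hgen := mem_powers_of_prime_card (p := Nat.card (N(P) ⧸ Cn)) rfl
    (g := (QuotientGroup.mk (⟨z, hzN⟩ : N(P)) : N(P) ⧸ Cn)) (g' := QuotientGroup.mk ⟨n, hn⟩) hne
  obtain ⟨i, hi⟩ := Submonoid.mem_powers_iff _ _ |>.mp hgen
  rw [← QuotientGroup.mk_pow, QuotientGroup.eq] at hi
  exact ⟨i, (z ^ i)⁻¹ * n, hi, (mul_inv_cancel_left _ _).symm⟩

/-- The automizer of prime order is abelian. -/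
theorem automizer_abelian : ∀ g ∈ N(P), ∀ k ∈ N(P), g * k * g⁻¹ * k⁻¹ ∈ C(P) := by
  intro g hg k hk
  haveI : Fact ((C(P)).relIndex N(P)).Prime := ⟨he⟩
  obtain ⟨a, ha, -, -, hgen⟩ := exists_odd_generator P hab he
  obtain ⟨i, c, hc, rfl⟩ := hgen g hg
  obtain ⟨j, d, hd, rfl⟩ := hgen k hk
  haveI hn : ((C(P)).subgroupOf N(P)).Normal :=
    Subgroup.normal_subgroupOf_of_le_normalizer fun g hg =>
      BC85.normalizer_le_normalizer_centralizer _ hg
  have hc1 : (QuotientGroup.mk (⟨c, Subgroup.centralizer_le_normalizer _ hc⟩ : N(P)) :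
      N(P) ⧸ (C(P)).subgroupOf N(P)) = 1 := (QuotientGroup.eq_one_iff _).mpr hc
  have hd1 : (QuotientGroup.mk (⟨d, Subgroup.centralizer_le_normalizer _ hd⟩ : N(P)) :
      N(P) ⧸ (C(P)).subgroupOf N(P)) = 1 := (QuotientGroup.eq_one_iff _).mpr hd
  set A : N(P) := ⟨a, ha⟩
  have h1 : ((A ^ i * ⟨c, Subgroup.centralizer_le_normalizer _ hc⟩) *
      (A ^ j * ⟨d, Subgroup.centralizer_le_normalizer _ hd⟩) *
      (A ^ i * ⟨c, Subgroup.centralizer_le_normalizer _ hc⟩)⁻¹ *
      (A ^ j * ⟨d, Subgroup.centralizer_le_normalizer _ hd⟩)⁻¹ : N(P)) ∈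
      (C(P)).subgroupOf N(P) := by
    rw [← QuotientGroup.eq_one_iff]
    simp only [QuotientGroup.mk_mul, QuotientGroup.mk_inv, QuotientGroup.mk_pow, hc1, hd1, mul_one]
    rw [pow_mul_comm, mul_inv_cancel_right, mul_inv_cancel]
  exact h1

/-- An element of `P` in the residual fixed by a nontrivial automorphism is trivial. -/
theorem eq_one_of_fixed [Fintype (P : Subgroup G)] {x : G} (hx : x ∈ (P : Subgroup G))
    (hxK : x ∈ pResidual 2 G) {m : G} (hm : m ∈ N(P)) (hmC : m ∉ C(P)) (hfix : m * x * m⁻¹ = x) :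
    x = 1 := by
  haveI : Fact (Nat.Prime 2) := ⟨Nat.prime_two⟩
  obtain ⟨a, ha, haC, haodd, hgen⟩ := exists_odd_generator P hab he
  set e := (C(P)).relIndex N(P) with hedef
  letI : CommGroup (P : Subgroup G) :=
    { (inferInstance : Group (P : Subgroup G)) with mul_comm := hab.is_comm.comm }
  set A : N(P) := ⟨a, ha⟩
  have hcC : ∀ (c : N(P)), (c : G) ∈ C(P) → ∀ u, AbelianPrincipal.cj P c u = u := fun c hc u =>
    Subtype.ext (by
      rw [AbelianPrincipal.coe_cj, ← Subgroup.mem_centralizer_iff.mp hc _ u.2, mul_inv_cancel_right])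
  haveI hn : ((C(P)).subgroupOf N(P)).Normal :=
    Subgroup.normal_subgroupOf_of_le_normalizer fun g hg =>
      BC85.normalizer_le_normalizer_centralizer _ hg
  have hAe : ∀ u, AbelianPrincipal.cj P (A ^ e) u = u := fun u => hcC _
    (show ((A ^ e : N(P)) : G) ∈ C(P) from Subgroup.pow_index_mem ((C(P)).subgroupOf N(P)) A) u
  set f : ℕ → ↥(P : Subgroup G) → ↥(P : Subgroup G) := fun i u => AbelianPrincipal.cj P (A ^ i) u
    with hf
  let T : ↥(P : Subgroup G) →* ↥(P : Subgroup G) :=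
    { toFun := fun u => ∏ i ∈ range e, f i u
      map_one' := Finset.prod_eq_one fun i _ => map_one _
      map_mul' := fun u v => by rw [← Finset.prod_mul_distrib]; exact prod_congr rfl fun i _ => map_mul _ _ _ }
  have hshift : ∀ u, T (AbelianPrincipal.cj P A u) = T u := by
    intro u
    show ∏ i ∈ range e, f i (AbelianPrincipal.cj P A u) = ∏ i ∈ range e, f i u
    have h1 : ∀ i, f i (AbelianPrincipal.cj P A u) = f (i + 1) u := fun i => by
      simp only [hf, pow_succ, AbelianPrincipal.cj_mul, MonoidHom.comp_apply]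
    have h2 := Finset.prod_range_succ (fun i => f i u) e
    rw [Finset.prod_range_succ' (fun i => f i u) e] at h2
    have h3 : f e u = f 0 u := by
      simp only [hf, hAe, pow_zero, AbelianPrincipal.cj_one, MonoidHom.id_apply]
    rw [h3] at h2
    simp only [h1]
    exact mul_right_cancel h2
  have hTn : ∀ (n : N(P)) u, T (AbelianPrincipal.cj P n u) = T u := by
    intro n u
    obtain ⟨i, c, hc, hn⟩ := hgen n n.2
    have hn' : n = A ^ i * ⟨c, Subgroup.centralizer_le_normalizer _ hc⟩ := Subtype.ext hn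
    rw [hn', AbelianPrincipal.cj_mul, MonoidHom.comp_apply,
      hcC ⟨c, Subgroup.centralizer_le_normalizer _ hc⟩ hc u]
    clear hn hn'
    induction i with
    | zero => rw [pow_zero, AbelianPrincipal.cj_one, MonoidHom.id_apply]
    | succ i ih => rw [pow_succ', AbelianPrincipal.cj_mul, MonoidHom.comp_apply, hshift, ih]
  have hxker : x ∈ T.ker.map (P : Subgroup G).subtype := by
    have h1 : (P : Subgroup G) ⊓ pResidual 2 G ≤ T.ker.map (P : Subgroup G).subtype := by
      rw [Transfer.sylow_inf_pResidual_eq_focalSubgroup_of_abelian P hab,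
        Transfer.focalSubgroup_eq_commutator_normalizer_of_abelian P hab, Subgroup.commutator_le]
      intro u hu n hn
      refine ⟨⟨u, hu⟩ * AbelianPrincipal.cj P ⟨n, hn⟩ ⟨u, hu⟩⁻¹, ?_, ?_⟩
      · rw [SetLike.mem_coe, MonoidHom.mem_ker, map_mul, hTn, ← map_mul, mul_inv_cancel, map_one]
      · show u * (n * u⁻¹ * n⁻¹) = u * n * u⁻¹ * n⁻¹
        group
    exact h1 ⟨hx, hxK⟩
  obtain ⟨u, hu, hux⟩ := hxker
  have hu' : T u = 1 := hu
  -- `a` fixes `x`
  have hfa : AbelianPrincipal.cj P A u = u := by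
    obtain ⟨i, c, hc, hmi⟩ := hgen m hm
    haveI : Fact e.Prime := ⟨he⟩
    have hai : a ^ i ∉ C(P) := fun h0 => hmC (hmi ▸ mul_mem h0 hc)
    have hxa : a ^ i * x * (a ^ i)⁻¹ = x := by
      have h2 : c * x * c⁻¹ = x := by
        rw [← Subgroup.mem_centralizer_iff.mp hc x hx, mul_inv_cancel_right]
      calc a ^ i * x * (a ^ i)⁻¹ = a ^ i * (c * x * c⁻¹) * (a ^ i)⁻¹ := by rw [h2]
        _ = m * x * m⁻¹ := by rw [hmi]; group
        _ = x := hfix
    have hie : i.Coprime e := by
      refine ((Fact.out : e.Prime).coprime_iff_not_dvd.mpr fun hd => hai ?_).symm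
      obtain ⟨j, rfl⟩ := hd
      rw [pow_mul]
      exact pow_mem (show ((A ^ e : N(P)) : G) ∈ C(P) from
        Subgroup.pow_index_mem ((C(P)).subgroupOf N(P)) A) j
    have hcomm : Commute (a ^ i) x := mul_inv_eq_iff_eq_mul.mp hxa
    have hcomme : Commute (a ^ e) x :=
      (Subgroup.mem_centralizer_iff.mp (show ((A ^ e : N(P)) : G) ∈ C(P) from
        Subgroup.pow_index_mem ((C(P)).subgroupOf N(P)) A) x hx).symm
    have ha1 : Commute a x := by
      have h3 : a = (a ^ i) ^ (Nat.gcdA i e) * (a ^ e) ^ (Nat.gcdB i e) := by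
        rw [← zpow_natCast a i, ← zpow_natCast a e, ← zpow_mul, ← zpow_mul, ← zpow_add,
          ← Nat.gcd_eq_gcd_ab, hie.gcd_eq_one, Nat.cast_one, zpow_one]
      rw [h3]
      exact (hcomm.zpow_left _).mul_left (hcomme.zpow_left _)
    refine Subtype.ext ?_
    rw [AbelianPrincipal.coe_cj]
    have hux' : (u : G) = x := hux
    rw [hux']
    exact mul_inv_eq_iff_eq_mul.mpr ha1.eq
  have hfix' : ∀ i, f i u = u := fun i => by
    induction i with
    | zero => simp only [hf, pow_zero, AbelianPrincipal.cj_one, MonoidHom.id_apply]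
    | succ i ih =>
      simp only [hf, pow_succ, AbelianPrincipal.cj_mul, MonoidHom.comp_apply, hfa]
      exact ih
  have hue : u ^ e = 1 := by
    rw [← hu']
    show _ = ∏ i ∈ range e, f i u
    rw [prod_congr rfl fun i _ => hfix' i, prod_const, card_range]
  have hx1 : u = 1 := by
    obtain ⟨k, hk⟩ := IsPGroup.iff_orderOf.mp P.2 u
    have hodd : ¬ 2 ∣ e := fun hd => by
      have h2 : 2 = e := (Nat.prime_dvd_prime_iff_eq Nat.prime_two he).mp hd
      have hpow : a ^ e ∈ C(P) := show ((A ^ e : N(P)) : G) ∈ C(P) from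
        Subgroup.pow_index_mem ((C(P)).subgroupOf N(P)) A
      obtain ⟨j, hj⟩ := Nat.not_even_iff_odd.mp fun hev => haodd (even_iff_two_dvd.mp hev)
      refine haC ?_
      have h4 : a = ((a ^ e) ^ j)⁻¹ := by
        refine eq_inv_of_mul_eq_one_left ?_
        rw [← pow_mul, ← pow_succ', ← h2, ← hj, pow_orderOf_eq_one]
      rw [h4]
      exact inv_mem (pow_mem hpow j)
    have h1 := orderOf_dvd_of_pow_eq_one hue
    rw [hk] at h1
    rcases Nat.eq_zero_or_pos k with rfl | hk0
    · exact orderOf_eq_one_iff.mp (hk.trans (pow_zero 2))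
    · exact absurd ((dvd_pow_self 2 hk0.ne').trans h1) hodd
  rw [← hux, hx1]
  rfl

/-- The residual: free automizer of the same order and the block invariants. -/
theorem residual_reduction {M : Ideal AlgInt} (hM : IsPModular 2 M) :
    ∃ (K : Subgroup G) (_ : K.Normal) (Q : Sylow 2 K),
      (Q : Subgroup K) = (P : Subgroup G).subgroupOf K ∧
      AbelianPrincipal.Free Q ∧ (Q : Subgroup K) ≠ ⊥ ∧
      (Subgroup.centralizer ((Q : Subgroup K) : Set K)).relIndex
        (Subgroup.normalizer ((Q : Subgroup K) : Set K)) = (C(P)).relIndex N(P) ∧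
      Nat.card P = K.index * Nat.card Q ∧
      Nat.card (principalBlock M G) = K.index * Nat.card (principalBlock M K) ∧
      blockRank 2 (principalBlock M G) = blockRank 2 (principalBlock M K) ∧
      (Group.IsSolvable K → Group.IsSolvable G) := by
  haveI : Fact (Nat.Prime 2) := ⟨Nat.prime_two⟩
  haveI : Fintype (P : Subgroup G) := Fintype.ofFinite _
  have := isPrime hM
  set K := pResidual 2 G with hK
  haveI hKn : K.Normal := inferInstance
  haveI : Fintype K := Fintype.ofFinite _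
  obtain ⟨Q, hQ⟩ := Transfer.exists_sylow_subgroupOf_normal P K
  set D := (P : Subgroup G) ⊓ K with hD
  have hQmap : (Q : Subgroup K).map K.subtype = D := by
    rw [hQ, Subgroup.subgroupOf_map_subtype]
  have hQmem : ∀ x : K, x ∈ (Q : Subgroup K) ↔ (x : G) ∈ (P : Subgroup G) := fun x => by rw [hQ]; rfl
  obtain ⟨a, ha, haC, haodd, hgen⟩ := exists_odd_generator P hab he
  have hcomm : ∀ x ∈ (P : Subgroup G), ∀ y ∈ (P : Subgroup G), x * y = y * x := fun x hx y hy =>
    congrArg Subtype.val (hab.is_comm.comm ⟨x, hx⟩ ⟨y, hy⟩)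
  have hPCD : (P : Subgroup G) ≤ Subgroup.centralizer ((D : Subgroup G) : Set G) := fun b hb =>
    Subgroup.mem_centralizer_iff.mpr fun x hx => hcomm x hx.1 b hb
  have hND : ∀ n ∈ N(P), n ∈ Subgroup.normalizer ((D : Subgroup G) : Set G) := fun n hn =>
    Subgroup.mem_normalizer_iff.mpr fun x => by
      rw [hD, Subgroup.mem_inf, Subgroup.mem_inf]
      exact and_congr (Subgroup.mem_normalizer_iff.mp hn x)
        ⟨fun hx => hKn.conj_mem x hx n, fun hx => by
          simpa [mul_assoc] using hKn.conj_mem _ hx n⁻¹⟩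
  -- every element normalizing `D` acts as an element normalizing `P`
  have hfrat : ∀ x ∈ Subgroup.normalizer ((D : Subgroup G) : Set G),
      ∃ c ∈ Subgroup.centralizer ((D : Subgroup G) : Set G), c * x ∈ N(P) := by
    intro x hx
    set CD := Subgroup.centralizer ((D : Subgroup G) : Set G)
    have hxP : ((MulAut.conj x • P : Sylow 2 G) : Subgroup G) ≤ CD := by
      rintro _ ⟨b, hb, rfl⟩
      exact (Subgroup.mem_normalizer_iff.mp
        (BC85.normalizer_le_normalizer_centralizer D hx) b).mp (hPCD hb)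
    obtain ⟨c, hc⟩ := MulAction.exists_smul_eq CD ((MulAut.conj x • P : Sylow 2 G).subtype hxP)
      (P.subtype hPCD)
    refine ⟨c, c.2, Subgroup.mem_normalizer_iff_map_conj_eq.mpr (Subgroup.eq_of_le_of_card_ge ?_ ?_)⟩
    · rintro _ ⟨b, hb, rfl⟩
      have h1 : c * ⟨x * b * x⁻¹, hxP ⟨b, hb, rfl⟩⟩ * c⁻¹ ∈
          ((P.subtype hPCD : Sylow 2 CD) : Subgroup CD) := by
        rw [← hc]
        exact ⟨_, ⟨b, hb, rfl⟩, rfl⟩
      have h2 : ((c : G) * (x * b * x⁻¹) * (c : G)⁻¹) ∈ (P : Subgroup G) := h1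
      simpa [mul_assoc] using h2
    · exact le_of_eq (Nat.card_congr ((P : Subgroup G).equivMapOfInjective _
        (MulAut.conj _).injective).toEquiv)
  have hmemN : ∀ x : K, x ∈ Subgroup.normalizer ((Q : Subgroup K) : Set K) ↔
      (x : G) ∈ Subgroup.normalizer ((D : Subgroup G) : Set G) := by
    intro x
    rw [Subgroup.mem_normalizer_iff, Subgroup.mem_normalizer_iff]
    constructor
    · intro hx g
      rw [hD, Subgroup.mem_inf, Subgroup.mem_inf]
      constructor
      · rintro ⟨hgP, hgK⟩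
        exact ⟨(hQmem _).mp ((hx ⟨g, hgK⟩).mp ((hQmem _).mpr hgP)), (x * ⟨g, hgK⟩ * x⁻¹ : K).2⟩
      · rintro ⟨hgP, hgK⟩
        have hgK' : g ∈ K := by
          have := mul_mem (mul_mem (inv_mem x.2) hgK) x.2
          simpa [mul_assoc] using this
        exact ⟨(hQmem ⟨g, hgK'⟩).mp ((hx ⟨g, hgK'⟩).mpr ((hQmem _).mpr hgP)), hgK'⟩
    · intro hx g
      have h1 := hx (g : G)
      rw [hD, Subgroup.mem_inf, Subgroup.mem_inf] at h1
      rw [hQmem, hQmem]
      exact ⟨fun hg => (h1.mp ⟨hg, g.2⟩).1, fun hg => (h1.mpr ⟨hg, (x * g * x⁻¹ : K).2⟩).1⟩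
  have hmemC : ∀ x : K, x ∈ Subgroup.centralizer ((Q : Subgroup K) : Set K) ↔
      (x : G) ∈ Subgroup.centralizer ((D : Subgroup G) : Set G) := by
    intro x
    simp only [Subgroup.mem_centralizer_iff]
    exact ⟨fun hx g hg => congrArg Subtype.val (hx ⟨g, hg.2⟩ ((hQmem _).mpr hg.1)),
      fun hx g hg => Subtype.ext (hx (g : G) ⟨(hQmem g).mp hg, g.2⟩)⟩
  have hfree : AbelianPrincipal.Free Q := by
    refine ⟨⟨⟨fun x y => Subtype.ext (Subtype.ext (hcomm _ ((hQmem _).mp x.2) _ ((hQmem _).mp y.2)))⟩⟩,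
      fun y hy hy1 => le_antisymm ?_ ?_⟩
    · rintro x ⟨hxy, hxN⟩
      rw [hmemC]
      obtain ⟨c, hc, hcx⟩ := hfrat (x : G) ((hmemN x).mp hxN)
      by_contra hxC
      have hncx : c * (x : G) ∉ C(P) := fun h0 => hxC (by
        have h1 : c * (x : G) ∈ Subgroup.centralizer ((D : Subgroup G) : Set G) :=
          Subgroup.centralizer_le (fun g hg => hg.1) h0
        have := mul_mem (inv_mem hc) h1
        rwa [inv_mul_cancel_left] at this)
      refine hy1 (Subtype.ext (eq_one_of_fixed P hab he ((hQmem y).mp hy) y.2 hcx hncx ?_))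
      have hxy' : (x : G) * y * (x : G)⁻¹ = y := by
        have h1 : (x : G) * y = y * x := congrArg Subtype.val (Subgroup.mem_centralizer_singleton_iff.mp hxy)
        rw [h1, mul_inv_cancel_right]
      have hcy : c * (y : G) * c⁻¹ = y := by
        rw [← Subgroup.mem_centralizer_iff.mp hc (y : G) ⟨(hQmem y).mp hy, y.2⟩, mul_inv_cancel_right]
      calc c * (x : G) * y * (c * (x : G))⁻¹ = c * ((x : G) * y * (x : G)⁻¹) * c⁻¹ := by group
        _ = y := by rw [hxy', hcy]
    · intro x hx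
      exact ⟨Subgroup.mem_centralizer_singleton_iff.mpr (Subgroup.mem_centralizer_iff.mp hx y hy).symm,
        Subgroup.centralizer_le_normalizer _ hx⟩
  -- an element of odd order inducing the automizer
  have haK : a ∈ K := Thompson.mem_pResidual_of_coprime
    (Nat.prime_two.coprime_iff_not_dvd.mpr haodd).symm
  obtain ⟨b, hb, hab'⟩ : ∃ b ∈ (P : Subgroup G), a * b ≠ b * a := by
    by_contra hall
    push Not at hall
    exact haC (Subgroup.mem_centralizer_iff.mpr fun b hb => (hall b hb).symm)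
  have hbD : a * b * a⁻¹ * b⁻¹ ∈ D := by
    refine Subgroup.mem_inf.mpr ⟨mul_mem ((Subgroup.mem_normalizer_iff.mp ha b).mp hb) (inv_mem hb), ?_⟩
    rw [show a * b * a⁻¹ * b⁻¹ = a * (b * a⁻¹ * b⁻¹) by group]
    exact mul_mem haK (hKn.conj_mem _ (inv_mem haK) b)
  have hbne : a * b * a⁻¹ * b⁻¹ ≠ 1 := fun h0 => hab' (by
    rwa [mul_inv_eq_one, mul_inv_eq_iff_eq_mul] at h0)
  have haD : a ∉ Subgroup.centralizer ((D : Subgroup G) : Set G) := fun h0 => hbne
    (eq_one_of_fixed P hab he hbD.1 hbD.2 ha haC (by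
      rw [← Subgroup.mem_centralizer_iff.mp h0 _ hbD, mul_inv_cancel_right]))
  have hQne : (Q : Subgroup K) ≠ ⊥ := fun h0 => by
    have h1 : (⟨_, hbD.2⟩ : K) ∈ (Q : Subgroup K) := (hQmem _).mpr hbD.1
    rw [h0, Subgroup.mem_bot] at h1
    exact hbne (congrArg Subtype.val h1)
  have hrel : (Subgroup.centralizer ((Q : Subgroup K) : Set K)).relIndex
      (Subgroup.normalizer ((Q : Subgroup K) : Set K)) = (C(P)).relIndex N(P) := by
    set φ := D.normalizerMonoidHom
    have hker : φ.ker = (Subgroup.centralizer ((D : Subgroup G) : Set G)).subgroupOf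
        (Subgroup.normalizer ((D : Subgroup G) : Set G)) := Subgroup.normalizerMonoidHom_ker _
    have e1 : Subgroup.centralizer ((Q : Subgroup K) : Set K) =
        (Subgroup.centralizer ((D : Subgroup G) : Set G)).subgroupOf K := Subgroup.ext hmemC
    have e2 : Subgroup.normalizer ((Q : Subgroup K) : Set K) =
        (Subgroup.normalizer ((D : Subgroup G) : Set G) ⊓ K).subgroupOf K := Subgroup.ext fun x => by
      rw [hmemN, Subgroup.mem_subgroupOf, Subgroup.mem_inf]
      exact (and_iff_left x.2).symm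
    set NK := (Subgroup.normalizer ((D : Subgroup G) : Set G) ⊓ K).subgroupOf
      (Subgroup.normalizer ((D : Subgroup G) : Set G))
    set NP := (N(P)).subgroupOf (Subgroup.normalizer ((D : Subgroup G) : Set G))
    have h1 : (Subgroup.centralizer ((Q : Subgroup K) : Set K)).relIndex
        (Subgroup.normalizer ((Q : Subgroup K) : Set K)) = Nat.card (NK.map φ) := by
      rw [e1, e2, Subgroup.relIndex_subgroupOf inf_le_right, ← Subgroup.relIndex_ker, hker,
        Subgroup.relIndex_subgroupOf inf_le_left]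
    have hle : NK.map φ ≤ NP.map φ := by
      rintro _ ⟨x, -, rfl⟩
      obtain ⟨c, hc, hcx⟩ := hfrat (x : G) x.2
      refine ⟨⟨c, Subgroup.centralizer_le_normalizer _ hc⟩ * x, hcx, ?_⟩
      have hcK : φ ⟨c, Subgroup.centralizer_le_normalizer _ hc⟩ = 1 :=
        MonoidHom.mem_ker.mp (hker.ge hc)
      rw [map_mul, hcK, one_mul]
    have hNPle : N(P) ≤ Subgroup.normalizer ((D : Subgroup G) : Set G) := hND
    have h2 : Nat.card (NP.map φ) ∣ (C(P)).relIndex N(P) := by
      rw [← Subgroup.relIndex_ker, hker, Subgroup.relIndex_subgroupOf hNPle]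
      exact Subgroup.relIndex_dvd_of_le_left _ (Subgroup.centralizer_le fun g hg => hg.1)
    rw [h1]
    refine ((Nat.dvd_prime he).mp ((Subgroup.card_dvd_of_le hle).trans h2)).resolve_left fun h3 => haD ?_
    have h4 : φ ⟨a, hND a ha⟩ ∈ NK.map φ :=
      Subgroup.mem_map_of_mem φ (show (⟨a, hND a ha⟩ : Subgroup.normalizer ((D : Subgroup G) : Set G)) ∈ NK
        from ⟨hND a ha, haK⟩)
    rw [Subgroup.eq_bot_of_card_eq _ h3, Subgroup.mem_bot] at h4
    exact hker.le (MonoidHom.mem_ker.mpr h4)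
  -- indices
  have hidx : ∃ k : ℕ, K.index = 2 ^ k := by
    obtain ⟨k, hk⟩ := IsPGroup.iff_card.mp (Thompson.isPGroup_quotient_pResidual (p := 2) (G := G))
    exact ⟨k, hk⟩
  have hPcard : Nat.card P = K.index * Nat.card Q := by
    obtain ⟨k, hk⟩ := hidx
    rw [P.card_eq_multiplicity, Q.card_eq_multiplicity, hk, ← Subgroup.card_mul_index K,
      Nat.factorization_mul Nat.card_pos.ne' Subgroup.index_ne_zero_of_finite, Finsupp.add_apply, hk,
      Nat.Prime.factorization_pow Nat.prime_two, Finsupp.single_eq_same, pow_add, mul_comm]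
  have hone : classInner (fun n : K => (oneIrr G : G → ℂ) n) (oneIrr K : K → ℂ) ≠ 0 := by
    simp [classInner, coe_oneIrr, Finset.sum_const, Finset.card_univ]
  obtain ⟨-, -, -, -, hcardB, hrank⟩ := BlocksDefect.pIndex_abelian hM hidx
    (isPBlock_principal (M := M) (G := K)) (fun g θ hθ => by
      have h5 : BlocksDefect.conjIrr g θ = BC84.conjIrr g θ := Subtype.ext (funext fun n => by
        simp only [BlocksDefect.coe_conjIrr, BlocksDefect.conjFun, BC84.conjIrr_apply]
        congr 1)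
      rw [h5]
      exact BC84.conjIrr_mem_principalBlock g hθ)
    (isPBlock_principal (M := M) (G := G)) ⟨oneIrr G, oneIrr_mem, oneIrr K, oneIrr_mem, hone⟩
    ((BC85.isDefectGroup_principal_iff hM _).mpr ⟨P, rfl⟩) hcomm
  refine ⟨K, hKn, Q, hQ, hfree, hQne, hrel, hPcard, hcardB, hrank, fun hs => ?_⟩
  haveI := hs
  haveI := (Thompson.isPGroup_quotient_pResidual (p := 2) (G := G)).isNilpotent
  exact Group.isSolvable_of_ker_le_range K.subtype (QuotientGroup.mk' K) (by simp)

end Cfsg.Agent.BC84.FreeAuto
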