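import Cfsg.Agent.BC84.FreeAuto.Local
import Cfsg.Agent.TwoFusionB.StronglyEmbedded
import Cfsg.Agent.S0223

/-!
# A strongly embedded subgroup when some involution centralizer is larger than the Sylow subgroup
-/

set_option autoImplicit false
set_option linter.unusedSectionVars false
set_option linter.style.haveILetI false

namespace Cfsg.Agent.BC84.FreeAuto

open Cfsg BlocksCore Subgroup
open scoped Classical

universe u

variable {G : Type u} [Group G] [Fintype G] (P : Sylow 2 G) (h : AbelianPrincipal.Free P)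

local notation "N(P)" => Subgroup.normalizer ((P : Subgroup G) : Set G)
local notation "C(P)" => Subgroup.centralizer ((P : Subgroup G) : Set G)

/-- The product of `Wsub` and the normalizer of `P`. -/
def Hsub : Subgroup G := Wsub P h ⊔ N(P)

include h

theorem mem_Hsub {g : G} : g ∈ Hsub P h ↔ ∃ w ∈ Wsub P h, ∃ n ∈ N(P), g = w * n := by
  rw [← SetLike.mem_coe, Hsub,
    coe_mul_of_right_le_normalizer_left _ _ (normalizer_le_normalizer_Wsub P h), Set.mem_mul]
  simp only [SetLike.mem_coe, eq_comm]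

theorem le_Hsub : (P : Subgroup G) ≤ Hsub P h := le_normalizer.trans le_sup_right

theorem Hsub_le_normalizer_Wsub : Hsub P h ≤ normalizer ((Wsub P h : Subgroup G) : Set G) :=
  sup_le le_normalizer (normalizer_le_normalizer_Wsub P h)

theorem exists_ne_one_of_five (he : 5 ≤ (C(P)).relIndex N(P)) : ∃ y ∈ (P : Subgroup G), y ≠ 1 := by
  by_contra hne
  push Not at hne
  have hP : (P : Subgroup G) = ⊥ := eq_bot_iff.mpr fun y hy => mem_bot.mpr (hne y hy)
  rw [relIndex_eq_one.mpr (show N(P) ≤ C(P) from fun g _ =>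
    mem_centralizer_iff.mpr fun b hb => by rw [hne b hb, one_mul, mul_one])] at he
  omega

theorem centralizer_le_Hsub {y : G} (hy : y ∈ (P : Subgroup G)) (hy1 : y ≠ 1) :
    centralizer ({y} : Set G) ≤ Hsub P h := by
  intro g hg
  obtain ⟨b, hb, c, hc, rfl⟩ :=
    exists_decomp P h hy hy1 (mem_centralizer_singleton_iff.mp hg : Commute g y)
  exact mul_mem (le_Hsub P h hb) (le_sup_left (a := Wsub P h) (oddCent_le_Wsub P h hy hy1 hc))

variable [Fintype (P : Subgroup G)]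
  (he : (5 : ℕ) ≤ (Subgroup.centralizer ((P : Subgroup G) : Set G)).relIndex
    (Subgroup.normalizer ((P : Subgroup G) : Set G)))
include he

theorem eight_le : 8 ≤ Nat.card (Om P h) := by
  obtain ⟨y, hy, hy1⟩ := exists_ne_one_of_five P h he
  exact eight_le_card_Om P h he fun h0 => hy1 (by simpa [h0] using hy)

theorem W_odd : ¬ 2 ∣ Nat.card (Wsub P h) := Wsub_odd P h (eight_le P h he)

theorem mem_Wsub_odd {w : G} (hw : w ∈ Wsub P h) : ¬ 2 ∣ orderOf w :=
  not_two_dvd_of_dvd (Subgroup.orderOf_dvd_natCard _ hw) (W_odd P h he)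

theorem disjoint_P_W {x : G} (hx : x ∈ (P : Subgroup G)) (hw : x ∈ Wsub P h) : x = 1 :=
  eq_one_of_mem_odd P hx (mem_Wsub_odd P h he hw)

theorem Wsub_inf_normalizer_le : Wsub P h ⊓ N(P) ≤ C(P) := by
  rintro w ⟨hw, hn⟩
  refine mem_centralizer_iff.mpr fun b hb => ?_
  have h1 : b * w * b⁻¹ * w⁻¹ ∈ Wsub P h := mul_mem ((mem_normalizer_iff.mp
    (normalizer_le_normalizer_Wsub P h (le_normalizer hb)) w).mp hw) (inv_mem hw)
  have h2 : b * w * b⁻¹ * w⁻¹ ∈ (P : Subgroup G) := by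
    have := mul_mem hb ((mem_normalizer_iff.mp hn b⁻¹).mp (inv_mem hb))
    simpa only [mul_assoc] using this
  have h3 := disjoint_P_W P h he h2 h1
  rwa [mul_inv_eq_one, mul_inv_eq_iff_eq_mul] at h3

theorem card_centralizer_eq :
    Nat.card C(P) = Nat.card P * Nat.card (Wsub P h ⊓ N(P) : Subgroup G) := by
  obtain ⟨y, hy, hy1⟩ := exists_ne_one_of_five P h he
  rw [← Nat.card_prod]
  refine (Nat.card_eq_of_bijective (fun q : ↥(P : Subgroup G) × ↥(Wsub P h ⊓ N(P) : Subgroup G) =>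
    (⟨q.1.1 * q.2.1, mul_mem (le_centralizer_self P h q.1.2)
      (Wsub_inf_normalizer_le P h he q.2.2)⟩ : C(P))) ⟨?_, ?_⟩).symm
  · rintro ⟨⟨a, ha⟩, ⟨w, hw⟩⟩ ⟨⟨a', ha'⟩, ⟨w', hw'⟩⟩ hq
    have h1 : a * w = a' * w' := congrArg Subtype.val hq
    have h2 : a'⁻¹ * a = w' * w⁻¹ := by
      rw [eq_mul_inv_iff_mul_eq, mul_assoc, h1, inv_mul_cancel_left]
    have h3 := disjoint_P_W P h he (mul_mem (inv_mem ha') ha)
      (h2 ▸ mul_mem hw'.1 (inv_mem hw.1))
    obtain rfl : a' = a := inv_mul_eq_one.mp h3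
    obtain rfl : w = w' := mul_left_cancel h1
    rfl
  · rintro ⟨c, hc⟩
    obtain ⟨b, hb, k, hk, rfl⟩ := exists_decomp P h hy hy1
      ((mem_centralizer_iff.mp hc y hy).symm : Commute c y)
    refine ⟨⟨⟨b, hb⟩, ⟨k, oddCent_le_Wsub P h hy hy1 hk, ?_⟩⟩, rfl⟩
    have := mul_mem (inv_mem (le_normalizer hb)) (centralizer_le_normalizer _ hc)
    rwa [inv_mul_cancel_left] at this

theorem card_Hsub :
    Nat.card (Hsub P h) = Nat.card (Wsub P h) * (Nat.card P * (C(P)).relIndex N(P)) := by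
  haveI : Fact (Nat.Prime 2) := ⟨Nat.prime_two⟩
  haveI : ((Wsub P h).subgroupOf (Hsub P h)).Normal :=
    normal_subgroupOf_of_le_normalizer (Hsub_le_normalizer_Wsub P h)
  have h1 : (Wsub P h).relIndex (Hsub P h) = (Wsub P h).relIndex N(P) := by
    rw [relIndex, relIndex]
    have hsup : (Wsub P h).subgroupOf (Hsub P h) ⊔ (N(P)).subgroupOf (Hsub P h) = ⊤ := by
      rw [← subgroupOf_sup (show Wsub P h ≤ Hsub P h from le_sup_left)
        (show N(P) ≤ Hsub P h from le_sup_right)]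
      exact subgroupOf_self _
    calc ((Wsub P h).subgroupOf (Hsub P h)).index
        = ((Wsub P h).subgroupOf (Hsub P h)).relIndex ⊤ := (relIndex_top_right _).symm
      _ = ((Wsub P h).subgroupOf (Hsub P h)).relIndex ((N(P)).subgroupOf (Hsub P h)) := by
          rw [← hsup, sup_comm, relIndex_sup_right]
      _ = (Wsub P h).relIndex N(P) := relIndex_subgroupOf le_sup_right
  have h2 : (Wsub P h).relIndex N(P) = Nat.card P * (C(P)).relIndex N(P) := by
    refine Nat.eq_of_mul_eq_mul_left (Nat.card_pos (α := (Wsub P h ⊓ N(P) : Subgroup G))) ?_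
    rw [← inf_relIndex_right, ← relIndex_bot_left (Wsub P h ⊓ N(P)),
      relIndex_mul_relIndex _ _ _ bot_le inf_le_right, relIndex_bot_left, relIndex_bot_left,
      AbelianPrincipal.natCard_normalizer, card_centralizer_eq P h he]
    ring
  rw [← h2, ← h1, ← relIndex_bot_left (Wsub P h), relIndex_mul_relIndex _ _ _ bot_le
    (show Wsub P h ≤ Hsub P h from le_sup_left),
    relIndex_bot_left]

theorem exists_conj_mem_P {a : G} (ha : a ∈ Hsub P h) (ho : orderOf a = 2) :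
    ∃ c ∈ Hsub P h, c * a * c⁻¹ ∈ Om P h ∧ c * a * c⁻¹ ≠ 1 := by
  haveI : Fact (Nat.Prime 2) := ⟨Nat.prime_two⟩
  obtain ⟨T, hT⟩ := (IsPGroup.of_card (n := 1) (by rw [Nat.card_zpowers, Subgroup.orderOf_mk, ho,
    pow_one]) : IsPGroup 2 (zpowers (⟨a, ha⟩ : Hsub P h))).exists_le_sylow
  obtain ⟨c, hc⟩ := MulAction.exists_smul_eq (Hsub P h) T (P.subtype (le_Hsub P h))
  have hmem : c * ⟨a, ha⟩ * c⁻¹ ∈ ((P.subtype (le_Hsub P h) : Sylow 2 (Hsub P h)) : Subgroup _) := by
    rw [← hc]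
    exact ⟨_, hT (mem_zpowers _), rfl⟩
  have h2 : ((c : G) * a * (c : G)⁻¹) * ((c : G) * a * (c : G)⁻¹) = 1 := by
    rw [conj_mul, ← pow_two a, ← ho, pow_orderOf_eq_one, mul_one, mul_inv_cancel]
  refine ⟨c, c.2, ⟨hmem, h2⟩, fun h1 => ?_⟩
  rw [conj_eq_one_iff] at h1
  rw [h1, orderOf_one] at ho
  omega

variable (hO : pPrimeCore 2 G = ⊥) (hW : Wsub P h ≠ ⊥)
include hO hW

theorem Hsub_ne_top : Hsub P h ≠ ⊤ := by
  intro htop
  haveI : (Wsub P h).Normal := normalizer_eq_top_iff.mp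
    (eq_top_iff.mpr (htop ▸ Hsub_le_normalizer_Wsub P h))
  refine hW (le_bot_iff.mp (hO ▸ Thompson.le_pPrimeCore inferInstance ?_))
  exact (Nat.prime_two.coprime_iff_not_dvd.mpr (W_odd P h he)).symm

theorem stronglyEmbedded : IsStronglyEmbedded (Hsub P h) := by
  haveI : Fact (Nat.Prime 2) := ⟨Nat.prime_two⟩
  haveI := h.comm
  obtain ⟨y, hy, hy1⟩ := exists_ne_one_of_five P h he
  obtain ⟨a, -, ha, ha1⟩ := exists_Om_ne_one P h hy hy1
  refine (S0223.result (Hsub P h) (Hsub_ne_top P h he hO hW) ?_).mpr ⟨?_, ?_⟩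
  · rw [even_iff_two_dvd, ← orderOf_Om P h ha ha1]
    exact Subgroup.orderOf_dvd_natCard _ (le_Hsub P h ha.1)
  · intro t ht ho g hg
    obtain ⟨c, hc, hcO, hc1⟩ := exists_conj_mem_P P h he ht ho
    have : c * g * c⁻¹ ∈ Hsub P h := centralizer_le_Hsub P h hcO.1 hc1
      (mem_centralizer_singleton_iff.mpr (by
        rw [conj_mul, conj_mul, mem_centralizer_singleton_iff.mp hg]))
    simpa [mul_assoc] using mul_mem (mul_mem (inv_mem hc) this) hc
  · intro t ht s hs hto hso hts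
    obtain ⟨c, hc, hcO, -⟩ := exists_conj_mem_P P h he ht hto
    obtain ⟨d, hd, hdO, -⟩ := exists_conj_mem_P P h he hs hso
    have hconj : IsConj (c * t * c⁻¹) (d * s * d⁻¹) :=
      ((isConj_iff.mpr ⟨c, rfl⟩).symm.trans hts).trans (isConj_iff.mpr ⟨d, rfl⟩)
    obtain ⟨g, hg⟩ := isConj_iff.mp hconj
    obtain ⟨n, hn, hne⟩ := P.conj_eq_normalizer_conj_of_mem (c * t * c⁻¹) g⁻¹ hcO.1
      (by rw [inv_inv, hg]; exact hdO.1)
    rw [inv_inv, hg] at hne
    refine ⟨d⁻¹ * n⁻¹ * c, mul_mem (mul_mem (inv_mem hd)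
      (le_sup_right (a := Wsub P h) (inv_mem hn))) hc, ?_⟩
    calc _ = d⁻¹ * (n⁻¹ * (c * t * c⁻¹) * n) * d := by group
      _ = s := by rw [← hne]; group

theorem isConj_inv {a b : G} (ha : orderOf a = 2) (hb : orderOf b = 2) : IsConj a b :=
  TwoFusionB.isConj_involutions (stronglyEmbedded P h he hO hW) ha hb

theorem relIndex_eq_card_Om : (C(P)).relIndex N(P) = Nat.card (Om P h) - 1 := by
  obtain ⟨y, hy, hy1⟩ := exists_ne_one_of_five P h he
  obtain ⟨a, -, ha, ha1⟩ := exists_Om_ne_one P h hy hy1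
  rw [← card_fusion P h (y := ⟨a, ha.1⟩) fun h0 => ha1 (congrArg Subtype.val h0),
    ← Nat.card_eq_finsetCard]
  have h1 : Nat.card {x : Om P h // x ≠ 1} = Nat.card (Om P h) - 1 := by
    simp [Nat.card_eq_fintype_card, Fintype.card_subtype_compl]
  rw [← h1]
  exact Nat.card_congr
    { toFun := fun z => ⟨⟨z.1.1, z.1.2, by
          obtain ⟨c, hc⟩ := isConj_iff.mp (Finset.mem_filter.mp z.2).2
          show (z.1.1 : G) * z.1.1 = 1
          rw [← hc, conj_mul, ha.2, mul_one, mul_inv_cancel]⟩, fun h0 => ha1 (by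
          obtain ⟨c, hc⟩ := isConj_iff.mp (Finset.mem_filter.mp z.2).2
          rw [show (z.1.1 : G) = 1 from congrArg Subtype.val h0] at hc
          exact conj_eq_one_iff.mp hc)⟩
      invFun := fun b => ⟨⟨b.1.1, b.1.2.1⟩, Finset.mem_filter.mpr ⟨Finset.mem_univ _,
        isConj_inv P h he hO hW (orderOf_Om P h ha ha1)
          (orderOf_Om P h b.1.2 fun h0 => b.2 (Subtype.ext h0))⟩⟩
      left_inv := fun z => rfl
      right_inv := fun b => rfl }

theorem index_Hsub : ∃ s : ℕ, 1 ≤ s ∧ (Hsub P h).index = 1 + Nat.card P * s := by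
  haveI : Fact (Nat.Prime 2) := ⟨Nat.prime_two⟩
  set H := Hsub P h with hH
  let o : G ⧸ H := QuotientGroup.mk 1
  have hfix : ∀ b : (P : Subgroup G), (b : G) • o = o := fun b =>
    TwoFusionB.smul_one_eq_iff.mpr (le_Hsub P h b.2)
  letI act : MulAction (P : Subgroup G) {x : G ⧸ H // x ≠ o} :=
    { smul := fun b x => ⟨(b : G) • x.1, fun hx => x.2 (by
        have h1 := congrArg (fun z : G ⧸ H => (b : G)⁻¹ • z) hx
        simp only [inv_smul_smul] at h1
        rw [h1]
        exact inv_smul_eq_iff.mpr (hfix b).symm)⟩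
      one_smul := fun x => Subtype.ext (one_smul G x.1)
      mul_smul := fun a b x => Subtype.ext (mul_smul (a : G) b x.1) }
  have hfree : ∀ x : {x : G ⧸ H // x ≠ o}, MulAction.stabilizer (P : Subgroup G) x = ⊥ := by
    intro x
    refine eq_bot_iff.mpr fun b hb => ?_
    by_contra hb1
    have hb' : (b : G) ≠ 1 := fun h0 => hb1 (mem_bot.mpr (Subtype.ext h0))
    obtain ⟨a, hay, ha, ha1⟩ := exists_Om_ne_one P h b.2 hb'
    obtain ⟨i, rfl⟩ := mem_zpowers_iff.mp hay
    have hx : (b : G) • x.1 = x.1 := congrArg Subtype.val hb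
    have hx' : ((b : G) ^ i) • x.1 = x.1 :=
      zpow_mem (show (b : G) ∈ MulAction.stabilizer G x.1 from hx) i
    exact x.2 (TwoFusionB.fix_unique (stronglyEmbedded P h he hO hW) (orderOf_Om P h ha ha1) hx'
      (TwoFusionB.smul_one_eq_iff.mpr (le_Hsub P h ha.1)))
  have hcard := Nat.card_congr
    (MulAction.selfEquivOrbitsQuotientProd' (G := (P : Subgroup G)) Quotient.out_eq' hfree)
  rw [Nat.card_prod] at hcard
  refine ⟨Nat.card (Quotient (MulAction.orbitRel (P : Subgroup G) {x : G ⧸ H // x ≠ o})), ?_, ?_⟩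
  · have hlt : 1 < H.index := by
      have h0 := H.index_ne_zero_of_finite
      have h1 : H.index ≠ 1 := fun h1 => Hsub_ne_top P h he hO hW (index_eq_one.mp h1)
      omega
    haveI : Nonempty {x : G ⧸ H // x ≠ o} := by
      haveI : Nontrivial (G ⧸ H) := Finite.one_lt_card_iff_nontrivial.mp hlt
      obtain ⟨x, hx⟩ := exists_ne o
      exact ⟨⟨x, hx⟩⟩
    haveI : Nonempty (Quotient (MulAction.orbitRel (P : Subgroup G) {x : G ⧸ H // x ≠ o})) :=
      (‹Nonempty {x : G ⧸ H // x ≠ o}›).map Quotient.mk''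
    exact Nat.card_pos
  · rw [mul_comm, ← hcard]
    show Nat.card (G ⧸ H) = _
    rw [Nat.card_congr (Equiv.sumCompl (fun x : G ⧸ H => x = o)).symm, Nat.card_sum,
      Nat.card_unique]

end Cfsg.Agent.BC84.FreeAuto
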